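import Mathlib

set_option autoImplicit false
set_option linter.style.haveILetI false

/-!
# Groups in which subgroups of equal order are conjugate: basic lemmas
-/

namespace Cfsg.Agent.Helper76.EqOrd

open Subgroup

universe u

/-- `p`-subgroups of equal order are conjugate, for all primes `p`. -/
def PC (G : Type*) [Group G] : Prop :=
  ∀ p : ℕ, p.Prime → ∀ H K : Subgroup G, IsPGroup p H → IsPGroup p K → Nat.card H = Nat.card K →
    ∃ g : G, K = H.map (MulAut.conj g).toMonoidHom

/-- all subgroups of equal order are conjugate. -/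
def AllConj (G : Type*) [Group G] : Prop :=
  ∀ H K : Subgroup G, Nat.card H = Nat.card K → ∃ g : G, K = H.map (MulAut.conj g).toMonoidHom

/-- Sylow `p`-subgroups cyclic for `p ≠ r`. -/
def CycExc (r : ℕ) (G : Type*) [Group G] : Prop :=
  ∀ p : ℕ, p.Prime → p ≠ r → ∀ P : Sylow p G, IsCyclic P

section basic

variable {G : Type*} [Group G]

theorem map_conj_normal (N : Subgroup G) [hN : N.Normal] (g : G) :
    N.map (MulAut.conj g).toMonoidHom = N := by
  ext x
  simp only [Subgroup.mem_map, MulEquiv.coe_toMonoidHom, MulAut.conj_apply]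
  constructor
  · rintro ⟨n, hn, rfl⟩
    exact hN.conj_mem n hn g
  · intro hx
    refine ⟨g⁻¹ * x * g, ?_, by group⟩
    have := hN.conj_mem x hx g⁻¹
    simpa using this

theorem map_conj_mul (H : Subgroup G) (a b : G) :
    (H.map (MulAut.conj b).toMonoidHom).map (MulAut.conj a).toMonoidHom =
      H.map (MulAut.conj (a * b)).toMonoidHom := by
  rw [Subgroup.map_map]
  congr 1
  ext x
  simp [mul_assoc]

theorem map_conj_one (H : Subgroup G) : H.map (MulAut.conj (1 : G)).toMonoidHom = H := by
  ext x
  simp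

theorem card_map_conj (H : Subgroup G) (g : G) :
    Nat.card (H.map (MulAut.conj g).toMonoidHom) = Nat.card H :=
  Subgroup.card_map_of_injective (MulAut.conj g).injective

theorem map_conj_inf (H K : Subgroup G) (g : G) :
    (H ⊓ K).map (MulAut.conj g).toMonoidHom =
      H.map (MulAut.conj g).toMonoidHom ⊓ K.map (MulAut.conj g).toMonoidHom :=
  Subgroup.map_inf H K _ (MulAut.conj g).injective

theorem map_conj_of_mem_normalizer (Q : Subgroup G) (g : G) (hg : g ∈ normalizer (Q : Set G)) :
    Q.map (MulAut.conj g).toMonoidHom = Q := by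
  ext x
  simp only [Subgroup.mem_map, MulEquiv.coe_toMonoidHom, MulAut.conj_apply]
  constructor
  · rintro ⟨n, hn, rfl⟩
    exact (mem_normalizer_iff.mp hg n).mp hn
  · intro hx
    refine ⟨g⁻¹ * x * g, ?_, by group⟩
    have := (mem_normalizer_iff.mp hg (g⁻¹ * x * g)).mpr (by simpa [mul_assoc] using hx)
    exact this

theorem map_conj_quotient (N : Subgroup G) [N.Normal] (H : Subgroup G) (g : G) :
    (H.map (MulAut.conj g).toMonoidHom).map (QuotientGroup.mk' N) =
      (H.map (QuotientGroup.mk' N)).map (MulAut.conj (QuotientGroup.mk' N g)).toMonoidHom := by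
  rw [Subgroup.map_map, Subgroup.map_map]
  congr 1

/-- transfer conjugacy inside a subgroup to the ambient group. -/
theorem allConj_transfer (D : Subgroup G) (hD : AllConj D) (A B : Subgroup G) (hA : A ≤ D)
    (hB : B ≤ D) (h : Nat.card A = Nat.card B) :
    ∃ d ∈ D, B = A.map (MulAut.conj d).toMonoidHom := by
  have hA' : Nat.card (A.subgroupOf D) = Nat.card A :=
    Nat.card_congr (Subgroup.subgroupOfEquivOfLe hA).toEquiv
  have hB' : Nat.card (B.subgroupOf D) = Nat.card B :=
    Nat.card_congr (Subgroup.subgroupOfEquivOfLe hB).toEquiv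
  obtain ⟨d, hd⟩ := hD (A.subgroupOf D) (B.subgroupOf D) (by rw [hA', hB', h])
  refine ⟨d, d.2, ?_⟩
  have h1 : (B.subgroupOf D).map D.subtype = B := Subgroup.map_subgroupOf_eq_of_le hB
  have h2 : (A.subgroupOf D).map D.subtype = A := Subgroup.map_subgroupOf_eq_of_le hA
  rw [← h1, hd, Subgroup.map_map]
  conv_rhs => rw [← h2, Subgroup.map_map]
  congr 1

end basic

section cyclic

theorem eq_of_card_eq_of_isCyclic {C : Type*} [Group C] [Finite C] [IsCyclic C] (S T : Subgroup C)
    (h : Nat.card S = Nat.card T) : S = T := by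
  classical
  haveI := Fintype.ofFinite C
  set d := Nat.card S with hd
  have hd0 : 0 < d := Nat.card_pos
  have key : ∀ U : Subgroup C, Nat.card U = d → (U : Set C) = {a : C | a ^ d = 1} := by
    intro U hU
    have hsub : (U : Set C) ⊆ {a : C | a ^ d = 1} := by
      intro x hx
      have h1 : (⟨x, hx⟩ : U) ^ Nat.card U = 1 := pow_card_eq_one'
      have h2 : x ^ Nat.card U = 1 := by
        have := congrArg Subtype.val h1
        rwa [Subgroup.coe_pow, Subgroup.coe_one] at this
      rw [hU] at h2
      exact h2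
    apply Set.eq_of_subset_of_ncard_le hsub ?_ (Set.toFinite _)
    have h3 : (U : Set C).ncard = d := by
      rw [← hU]; exact (Nat.card_coe_set_eq (U : Set C)).symm
    rw [h3, Set.ncard_eq_toFinset_card', Set.toFinset_ofPred]
    exact IsCyclic.card_pow_eq_one_le hd0
  apply SetLike.coe_injective
  rw [key S rfl, key T h.symm]

/-- subgroups of a cyclic subgroup are determined by their order. -/
theorem eq_of_card_eq_of_le_isCyclic {G : Type*} [Group G] (N : Subgroup G) [Finite N]
    [IsCyclic N] (A B : Subgroup G) (hA : A ≤ N) (hB : B ≤ N) (h : Nat.card A = Nat.card B) :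
    A = B := by
  have hA' : Nat.card (A.subgroupOf N) = Nat.card A :=
    Nat.card_congr (Subgroup.subgroupOfEquivOfLe hA).toEquiv
  have hB' : Nat.card (B.subgroupOf N) = Nat.card B :=
    Nat.card_congr (Subgroup.subgroupOfEquivOfLe hB).toEquiv
  have := eq_of_card_eq_of_isCyclic (A.subgroupOf N) (B.subgroupOf N) (by rw [hA', hB', h])
  rw [← Subgroup.map_subgroupOf_eq_of_le hA, ← Subgroup.map_subgroupOf_eq_of_le hB, this]

/-- all Sylow subgroups cyclic implies `PC`. -/
theorem PC_of_cyclic {D : Type*} [Group D] [Finite D]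
    (h : ∀ p : ℕ, p.Prime → ∀ P : Sylow p D, IsCyclic P) : PC D := by
  intro p hp X Y hX hY hXY
  haveI : Fact p.Prime := ⟨hp⟩
  obtain ⟨P, hXP⟩ := hX.exists_le_sylow
  obtain ⟨P', hYP'⟩ := hY.exists_le_sylow
  obtain ⟨g, hg⟩ := MulAction.exists_smul_eq D P P'
  refine ⟨g, ?_⟩
  have h1 : X.map (MulAut.conj g).toMonoidHom ≤ (P' : Subgroup D) := by
    rw [← hg, Sylow.coe_subgroup_smul, Subgroup.pointwise_smul_def]
    exact Subgroup.map_mono hXP
  haveI : IsCyclic (P' : Subgroup D) := h p hp P'
  exact eq_of_card_eq_of_le_isCyclic (P' : Subgroup D) _ _ hYP' h1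
    (by rw [card_map_conj, hXY])

end cyclic

end Cfsg.Agent.Helper76.EqOrd
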