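import Mathlib.GroupTheory.Sylow
import Mathlib.GroupTheory.Nilpotent
import Mathlib.GroupTheory.Commutator.Basic
import Mathlib.GroupTheory.Abelianization.Defs
import Mathlib.GroupTheory.Index

set_option autoImplicit false

namespace Cfsg.Agent.Helper76

open scoped commutatorElement

variable {G : Type*} [Group G]

/-- For an abelian normal subgroup `A` and an element `b`, the map `a ↦ a b a⁻¹ b⁻¹` is an
endomorphism of `A`. -/
def commHom (A : Subgroup G) (hn : A.Normal) (hA : ∀ a ∈ A, ∀ a' ∈ A, a * a' = a' * a) (b : G) :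
    A →* A where
  toFun a := ⟨(a : G) * (b * (a : G)⁻¹ * b⁻¹), A.mul_mem a.2 (hn.conj_mem _ (A.inv_mem a.2) b)⟩
  map_one' := by ext; simp
  map_mul' x y := by
    ext
    simp only [Subgroup.coe_mul, mul_inv_rev]
    have h1 : (b * (x : G)⁻¹ * b⁻¹) ∈ A := hn.conj_mem _ (A.inv_mem x.2) b
    have h2 : (b * (y : G)⁻¹ * b⁻¹) ∈ A := hn.conj_mem _ (A.inv_mem y.2) b
    have e : b * ((y : G)⁻¹ * (x : G)⁻¹) * b⁻¹ = (b * (y : G)⁻¹ * b⁻¹) * (b * (x : G)⁻¹ * b⁻¹) := by
      group
    rw [e]
    have c1 := hA _ h2 _ h1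
    have c2 := hA _ y.2 _ h1
    calc (x : G) * (y : G) * ((b * (y : G)⁻¹ * b⁻¹) * (b * (x : G)⁻¹ * b⁻¹))
        = (x : G) * (y : G) * ((b * (x : G)⁻¹ * b⁻¹) * (b * (y : G)⁻¹ * b⁻¹)) := by rw [c1]
      _ = (x : G) * ((y : G) * (b * (x : G)⁻¹ * b⁻¹)) * (b * (y : G)⁻¹ * b⁻¹) := by group
      _ = (x : G) * ((b * (x : G)⁻¹ * b⁻¹) * (y : G)) * (b * (y : G)⁻¹ * b⁻¹) := by rw [c2]
      _ = (x : G) * (b * (x : G)⁻¹ * b⁻¹) * ((y : G) * (b * (y : G)⁻¹ * b⁻¹)) := by group

lemma commHom_apply_coe (A : Subgroup G) (hn : A.Normal)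
    (hA : ∀ a ∈ A, ∀ a' ∈ A, a * a' = a' * a) (b : G) (a : A) :
    ((commHom A hn hA b a : A) : G) = (a : G) * (b * (a : G)⁻¹ * b⁻¹) := rfl

lemma mem_ker_commHom (A : Subgroup G) (hn : A.Normal)
    (hA : ∀ a ∈ A, ∀ a' ∈ A, a * a' = a' * a) (b : G) (a : A) :
    a ∈ (commHom A hn hA b).ker ↔ (a : G) * b = b * (a : G) := by
  rw [MonoidHom.mem_ker, Subtype.ext_iff, commHom_apply_coe]
  simp only [Subgroup.coe_one]
  constructor
  · intro h
    have : (a : G) * b * (a : G)⁻¹ * b⁻¹ = 1 := by rw [← h]; group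
    have h2 : (a : G) * b * (a : G)⁻¹ = b := by
      rw [mul_inv_eq_one] at this; exact this
    rw [mul_inv_eq_iff_eq_mul] at h2
    exact h2
  · intro h
    have : b * (a : G)⁻¹ * b⁻¹ = (a : G)⁻¹ := by
      have h3 : b * (a : G)⁻¹ = (a : G)⁻¹ * b := by
        rw [eq_inv_mul_iff_mul_eq, ← mul_assoc, h, mul_assoc, mul_inv_cancel, mul_one]
      rw [h3]; group
    rw [this, mul_inv_cancel]

/-- The image of `commHom`, as a subgroup of `G`. -/
def commRange (A : Subgroup G) (hn : A.Normal) (hA : ∀ a ∈ A, ∀ a' ∈ A, a * a' = a' * a)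
    (b : G) : Subgroup G :=
  ((commHom A hn hA b).range).map A.subtype

lemma mem_commRange (A : Subgroup G) (hn : A.Normal) (hA : ∀ a ∈ A, ∀ a' ∈ A, a * a' = a' * a)
    (b : G) (g : G) :
    g ∈ commRange A hn hA b ↔ ∃ a ∈ A, a * (b * a⁻¹ * b⁻¹) = g := by
  unfold commRange
  constructor
  · rintro ⟨y, ⟨a, rfl⟩, rfl⟩
    exact ⟨a, a.2, rfl⟩
  · rintro ⟨a, ha, rfl⟩
    exact ⟨commHom A hn hA b ⟨a, ha⟩, ⟨⟨a, ha⟩, rfl⟩, rfl⟩

lemma commRange_le (A : Subgroup G) (hn : A.Normal) (hA : ∀ a ∈ A, ∀ a' ∈ A, a * a' = a' * a)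
    (b : G) : commRange A hn hA b ≤ A := by
  intro g hg
  rw [mem_commRange] at hg
  obtain ⟨a, ha, rfl⟩ := hg
  exact A.mul_mem ha (hn.conj_mem _ (A.inv_mem ha) b)

lemma commRange_le_commutator (A : Subgroup G) (hn : A.Normal)
    (hA : ∀ a ∈ A, ∀ a' ∈ A, a * a' = a' * a) (b : G) :
    commRange A hn hA b ≤ commutator G := by
  intro g hg
  rw [mem_commRange] at hg
  obtain ⟨a, ha, rfl⟩ := hg
  rw [commutator_def]
  have : a * (b * a⁻¹ * b⁻¹) = ⁅a, b⁆ := by rw [commutatorElement_def]; group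
  rw [this]
  exact Subgroup.commutator_mem_commutator (Subgroup.mem_top a) (Subgroup.mem_top b)

lemma conj_mem_commRange (A : Subgroup G) (hn : A.Normal)
    (hA : ∀ a ∈ A, ∀ a' ∈ A, a * a' = a' * a) (b : G) (g : G) (hg : g ∈ commRange A hn hA b) :
    b * g * b⁻¹ ∈ commRange A hn hA b ∧ b⁻¹ * g * b ∈ commRange A hn hA b := by
  rw [mem_commRange] at hg
  obtain ⟨a, ha, rfl⟩ := hg
  constructor
  · rw [mem_commRange]
    refine ⟨b * a * b⁻¹, hn.conj_mem _ ha b, ?_⟩
    group
  · rw [mem_commRange]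
    refine ⟨b⁻¹ * a * b, ?_, ?_⟩
    · have := hn.conj_mem _ ha b⁻¹
      simpa using this
    · group

lemma commRange_normal (A : Subgroup G) (hn : A.Normal)
    (hA : ∀ a ∈ A, ∀ a' ∈ A, a * a' = a' * a) (b : G) (hgen : A ⊔ Subgroup.zpowers b = ⊤) :
    (commRange A hn hA b).Normal := by
  rw [← Subgroup.normalizer_eq_top_iff, eq_top_iff, ← hgen]
  apply sup_le
  · intro a ha
    rw [Subgroup.mem_normalizer_iff]
    intro h
    constructor
    · intro hh
      have hhA := commRange_le A hn hA b hh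
      have : a * h * a⁻¹ = h := by rw [hA a ha h hhA]; group
      rw [this]; exact hh
    · intro hh
      have hhA := commRange_le A hn hA b hh
      have hhA' : h ∈ A := by
        have := hn.conj_mem _ hhA a⁻¹
        simpa [mul_assoc] using this
      have : a * h * a⁻¹ = h := by rw [hA a ha h hhA']; group
      rw [this] at hh; exact hh
  · rw [Subgroup.zpowers_le, Subgroup.mem_normalizer_iff]
    intro h
    constructor
    · intro hh
      exact (conj_mem_commRange A hn hA b h hh).1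
    · intro hh
      have := (conj_mem_commRange A hn hA b _ hh).2
      simpa [mul_assoc] using this

lemma commutator_le_commRange (A : Subgroup G) (hn : A.Normal)
    (hA : ∀ a ∈ A, ∀ a' ∈ A, a * a' = a' * a) (b : G) (hgen : A ⊔ Subgroup.zpowers b = ⊤) :
    commutator G ≤ commRange A hn hA b := by
  have hR : (commRange A hn hA b).Normal := commRange_normal A hn hA b hgen
  rw [← Subgroup.Normal.quotient_commutative_iff_commutator_le]
  set R := commRange A hn hA b with hRdef
  have top_eq : (A ⊔ Subgroup.zpowers b).map (QuotientGroup.mk' R) = ⊤ := by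
    rw [hgen, ← MonoidHom.range_eq_map, MonoidHom.range_eq_top]
    exact QuotientGroup.mk'_surjective R
  -- commutation of generators modulo R
  have hab : ∀ a ∈ A, (QuotientGroup.mk' R a) * (QuotientGroup.mk' R b) =
      (QuotientGroup.mk' R b) * (QuotientGroup.mk' R a) := by
    intro a ha
    rw [← map_mul, ← map_mul, QuotientGroup.mk'_apply, QuotientGroup.mk'_apply, QuotientGroup.eq]
    -- (a b)⁻¹ (b a) = b⁻¹ a⁻¹ b a = b⁻¹ (a⁻¹ b a b⁻¹) b
    have h1 : a⁻¹ * (b * a⁻¹⁻¹ * b⁻¹) ∈ R := by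
      rw [hRdef, mem_commRange]; exact ⟨a⁻¹, A.inv_mem ha, rfl⟩
    have h2 := (conj_mem_commRange A hn hA b _ h1).2
    have : (a * b)⁻¹ * (b * a) = b⁻¹ * (a⁻¹ * (b * a⁻¹⁻¹ * b⁻¹)) * b := by group
    rw [this]; exact h2
  have haa : ∀ a ∈ A, ∀ a' ∈ A, (QuotientGroup.mk' R a) * (QuotientGroup.mk' R a') =
      (QuotientGroup.mk' R a') * (QuotientGroup.mk' R a) := by
    intro a ha a' ha'
    rw [← map_mul, ← map_mul, hA a ha a' ha']
  have cenA : ∀ a ∈ A, Subgroup.centralizer {QuotientGroup.mk' R a} = ⊤ := by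
    intro a ha
    rw [eq_top_iff, ← top_eq, Subgroup.map_sup]
    apply sup_le
    · rw [Subgroup.map_le_iff_le_comap]
      intro a' ha'
      rw [Subgroup.mem_comap, Subgroup.mem_centralizer_iff]
      intro h hh
      rw [Set.mem_singleton_iff] at hh
      rw [hh]
      exact haa a ha a' ha'
    · rw [MonoidHom.map_zpowers, Subgroup.zpowers_le, Subgroup.mem_centralizer_iff]
      intro h hh
      rw [Set.mem_singleton_iff] at hh
      rw [hh]
      exact hab a ha
  have cenb : Subgroup.centralizer {QuotientGroup.mk' R b} = ⊤ := by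
    rw [eq_top_iff, ← top_eq, Subgroup.map_sup]
    apply sup_le
    · rw [Subgroup.map_le_iff_le_comap]
      intro a' ha'
      rw [Subgroup.mem_comap, Subgroup.mem_centralizer_iff]
      intro h hh
      rw [Set.mem_singleton_iff] at hh
      rw [hh]
      exact (hab a' ha').symm
    · rw [MonoidHom.map_zpowers, Subgroup.zpowers_le, Subgroup.mem_centralizer_iff]
      intro h hh
      rw [Set.mem_singleton_iff] at hh
      rw [hh]
  have cen : Subgroup.center (G ⧸ R) = ⊤ := by
    rw [eq_top_iff, ← top_eq, Subgroup.map_sup]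
    apply sup_le
    · rw [Subgroup.map_le_iff_le_comap]
      intro a ha
      rw [Subgroup.mem_comap, Subgroup.mem_center_iff]
      intro g
      have : g ∈ Subgroup.centralizer {QuotientGroup.mk' R a} := by rw [cenA a ha]; trivial
      rw [Subgroup.mem_centralizer_iff] at this
      exact (this _ rfl).symm
    · rw [MonoidHom.map_zpowers, Subgroup.zpowers_le, Subgroup.mem_center_iff]
      intro g
      have : g ∈ Subgroup.centralizer {QuotientGroup.mk' R b} := by rw [cenb]; trivial
      rw [Subgroup.mem_centralizer_iff] at this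
      exact (this _ rfl).symm
  rw [isMulCommutative_iff]
  intro u v
  have : u ∈ Subgroup.center (G ⧸ R) := by rw [cen]; trivial
  rw [Subgroup.mem_center_iff] at this
  exact (this v).symm

lemma commRange_eq_commutator (A : Subgroup G) (hn : A.Normal)
    (hA : ∀ a ∈ A, ∀ a' ∈ A, a * a' = a' * a) (b : G) (hgen : A ⊔ Subgroup.zpowers b = ⊤) :
    commRange A hn hA b = commutator G :=
  le_antisymm (commRange_le_commutator A hn hA b) (commutator_le_commRange A hn hA b hgen)

/-- **Key counting lemma.** If `A` is an abelian normal subgroup of the finite group `G` and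
`G = A⟨b⟩`, then `|A| = |G'| · |C_A(b)|`. -/
theorem card_eq_card_commutator_mul_card_centralizer [Finite G] (A : Subgroup G) (hn : A.Normal)
    (hA : ∀ a ∈ A, ∀ a' ∈ A, a * a' = a' * a) (b : G) (hgen : A ⊔ Subgroup.zpowers b = ⊤) :
    Nat.card A = Nat.card (commutator G) * Nat.card (A ⊓ Subgroup.centralizer {b} : Subgroup G) := by
  have h1 := Subgroup.card_mul_index (commHom A hn hA b).ker
  rw [Subgroup.index_ker] at h1
  have h2 : Nat.card (commHom A hn hA b).range = Nat.card (commutator G) := by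
    rw [← commRange_eq_commutator A hn hA b hgen]
    unfold commRange
    exact (Nat.card_congr
      (Subgroup.equivMapOfInjective _ A.subtype A.subtype_injective).toEquiv)
  have h3 : Nat.card (commHom A hn hA b).ker =
      Nat.card (A ⊓ Subgroup.centralizer {b} : Subgroup G) := by
    apply Nat.card_congr
    refine ⟨fun x => ⟨(x : A), Subgroup.mem_inf.mpr ⟨(x : A).2, ?_⟩⟩,
      fun y => ⟨⟨(y : G), (Subgroup.mem_inf.mp y.2).1⟩, ?_⟩, ?_, ?_⟩
    · rw [Subgroup.mem_centralizer_iff]
      intro h hh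
      rw [Set.mem_singleton_iff] at hh
      rw [hh]
      exact ((mem_ker_commHom A hn hA b x).mp x.2).symm
    · rw [mem_ker_commHom]
      have := (Subgroup.mem_inf.mp y.2).2
      rw [Subgroup.mem_centralizer_iff] at this
      exact (this b rfl).symm
    · intro x; rfl
    · intro y; rfl
  rw [← h1, h2, h3, mul_comm]

lemma inf_centralizer_eq_inf_center (A : Subgroup G)
    (hA : ∀ a ∈ A, ∀ a' ∈ A, a * a' = a' * a) (b : G) (hgen : A ⊔ Subgroup.zpowers b = ⊤) :
    A ⊓ Subgroup.centralizer {b} = A ⊓ Subgroup.center G := by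
  apply le_antisymm
  · intro a haa
    obtain ⟨ha, hab⟩ := Subgroup.mem_inf.mp haa
    refine Subgroup.mem_inf.mpr ⟨ha, ?_⟩
    rw [Subgroup.mem_centralizer_iff] at hab
    have hab' := hab b rfl
    have : Subgroup.centralizer {a} = ⊤ := by
      rw [eq_top_iff, ← hgen]
      apply sup_le
      · intro a' ha'
        rw [Subgroup.mem_centralizer_iff]
        intro h hh
        rw [Set.mem_singleton_iff] at hh
        rw [hh]
        exact hA a ha a' ha'
      · rw [Subgroup.zpowers_le, Subgroup.mem_centralizer_iff]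
        intro h hh
        rw [Set.mem_singleton_iff] at hh
        rw [hh]
        exact hab'.symm
    rw [Subgroup.mem_center_iff]
    intro g
    have hg : g ∈ Subgroup.centralizer {a} := by rw [this]; trivial
    rw [Subgroup.mem_centralizer_iff] at hg
    exact (hg a rfl).symm
  · intro a haa
    obtain ⟨ha, hz⟩ := Subgroup.mem_inf.mp haa
    refine Subgroup.mem_inf.mpr ⟨ha, ?_⟩
    rw [Subgroup.mem_centralizer_iff]
    intro h hh
    rw [Set.mem_singleton_iff] at hh
    rw [hh]
    rw [Subgroup.mem_center_iff] at hz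
    exact hz b

end Cfsg.Agent.Helper76
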