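import Mathlib
import Cfsg.Prelude.Def_Characters
import Cfsg.Prelude.Def_Blocks
import Cfsg.Agent.Lib.Helper79.Inflation
import Cfsg.Agent.Lib.Helper79.DegreeRatio
import Cfsg.Agent.Lib.Helper79.Orthogonality
import Cfsg.Agent.Lib.Helper79.LinearDeg
import Cfsg.Agent.Lib.Helper78.ItoMichler
import Cfsg.Agent.Lib.Helper80.Gagola2
import Cfsg.Agent.S4456

set_option autoImplicit false
set_option linter.style.haveILetI false
set_option linter.unusedSectionVars false

/-! Groups with character degree set `{1, m}`: basic inheritance facts. -/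

namespace Cfsg.Agent.Helper76.CD2

open Cfsg Cfsg.Agent.Helper79
open scoped commutatorElement

universe u

section basic
variable {G : Type u} [Group G] [Finite G]

/-- all irreducible characters linear ⇒ abelian -/
theorem comm_of_all_linear (h : ∀ χ : IrrCharacter G, charDegree (χ : G → ℂ) = 1) :
    ∀ a b : G, a * b = b * a := by
  have hc : commutator G = ⊥ := by
    rw [eq_bot_iff]
    intro x hx
    rw [Subgroup.mem_bot]
    by_contra hx1
    obtain ⟨ψ, hψ⟩ := Cfsg.Agent.Helper80.exists_irr_ne_of_ne_one x hx1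
    exact hψ ((mem_irrKer ψ x).1 ((degree_one_iff ψ).1 (h ψ) hx))
  intro a b
  have : ⁅a, b⁆ ∈ commutator G := Subgroup.commutator_mem_commutator (Subgroup.mem_top a) (Subgroup.mem_top b)
  rw [hc, Subgroup.mem_bot, commutatorElement_eq_one_iff_mul_comm] at this
  exact this

/-- abelian ⇒ all irreducible characters linear -/
theorem all_linear_of_comm (h : ∀ a b : G, a * b = b * a) (χ : IrrCharacter G) :
    charDegree (χ : G → ℂ) = 1 := by
  rw [degree_one_iff]
  have hc : commutator G = ⊥ := by
    rw [eq_bot_iff, commutator_def, Subgroup.commutator_le]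
    intro a _ b _
    rw [Subgroup.mem_bot, commutatorElement_eq_one_iff_mul_comm]
    exact h a b
  rw [hc]; exact bot_le

/-- degrees of a quotient are degrees of the group -/
theorem quotient (m : ℕ) (h : ∀ χ : IrrCharacter G, charDegree (χ : G → ℂ) = 1 ∨ charDegree (χ : G → ℂ) = m)
    (N : Subgroup G) [N.Normal] (ψ : IrrCharacter (G ⧸ N)) :
    charDegree (ψ : G ⧸ N → ℂ) = 1 ∨ charDegree (ψ : G ⧸ N → ℂ) = m := by
  rw [← charDegree_inflate N ψ]
  exact h _

/-- every irreducible character of a normal subgroup lies under one of `G`, with degree ratio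
dividing the index -/
theorem exists_over (N : Subgroup G) [N.Normal] [Fintype N] (ψ : IrrCharacter N) :
    ∃ (χ : IrrCharacter G) (e : ℕ), charDegree (χ : G → ℂ) = e * charDegree (ψ : N → ℂ) ∧
      e ∣ N.index ∧ classInner (fun n : N => (χ : G → ℂ) n) (ψ : N → ℂ) ≠ 0 := by
  classical
  haveI := Fintype.ofFinite G
  obtain ⟨χ, hχ, hne⟩ := Cfsg.Agent.Helper78.exists_irr_over N ψ.2
  obtain ⟨e, he, hdvd⟩ := degree_ratio_dvd_index N hχ ψ.2 hne
  refine ⟨⟨χ, hχ⟩, e, ?_, hdvd, hne⟩
  have h1 := (irr_one_eq (⟨χ, hχ⟩ : IrrCharacter G)).1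
  have h2 := (irr_one_eq ψ).1
  change χ 1 = _ at h1
  rw [h1, h2] at he
  exact_mod_cast he

/-- degrees of a normal `p`-complement -/
theorem normal_pcompl (m p : ℕ) (hp : p.Prime)
    (h : ∀ χ : IrrCharacter G, charDegree (χ : G → ℂ) = 1 ∨ charDegree (χ : G → ℂ) = m)
    (N : Subgroup G) [N.Normal] (hN : (Nat.card N).Coprime p) (k : ℕ) (hk : N.index = p ^ k)
    (ψ : IrrCharacter N) :
    charDegree (ψ : N → ℂ) = 1 ∨ charDegree (ψ : N → ℂ) = ordCompl[p] m := by
  classical
  haveI := Fintype.ofFinite N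
  obtain ⟨χ, e, he, hdvd, -⟩ := exists_over N ψ
  rw [hk] at hdvd
  obtain ⟨j, -, rfl⟩ := (Nat.dvd_prime_pow hp).1 hdvd
  have hd : ¬ p ∣ charDegree (ψ : N → ℂ) := by
    intro hpd
    have h1 := irr_degree_dvd_card ψ
    have h2 : p ∣ Nat.card N := dvd_trans hpd h1
    have h3 := Nat.Coprime.eq_one_of_dvd hN.symm h2
    exact hp.one_lt.ne' h3
  rcases h χ with h1 | h1
  · left
    rw [h1] at he
    exact (Nat.eq_one_of_mul_eq_one_left he.symm)
  · right
    rw [h1] at he
    rw [he]
    exact (Nat.ordCompl_pow_mul_of_not_dvd j hp hd).symm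

end basic

/-- a group with character degrees in `{1, m}` is solvable -/
theorem isSolvable_aux : ∀ (n : ℕ) (G : Type u) [Group G] [Finite G] (m : ℕ),
    Nat.card G = n →
    (∀ χ : IrrCharacter G, charDegree (χ : G → ℂ) = 1 ∨ charDegree (χ : G → ℂ) = m) →
    Group.IsSolvable G := by
  intro n
  induction n using Nat.strong_induction_on with
  | _ n ih =>
    intro G _ _ m hn h
    by_cases hall : ∀ χ : IrrCharacter G, charDegree (χ : G → ℂ) = 1
    · exact Group.isSolvable_of_comm (comm_of_all_linear hall)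
    · push Not at hall
      obtain ⟨χ₀, hχ₀⟩ := hall
      have hm : charDegree (χ₀ : G → ℂ) = m := (h χ₀).resolve_left hχ₀
      have hm1 : m ≠ 1 := fun h1 => hχ₀ (hm.trans h1)
      obtain ⟨p, hp, hpm⟩ := Nat.exists_prime_and_dvd hm1
      have hdeg : ∀ χ : IrrCharacter G, charDegree (χ : G → ℂ) ≠ 1 → p ∣ charDegree (χ : G → ℂ) := by
        intro χ hχ
        rw [(h χ).resolve_left hχ]; exact hpm
      obtain ⟨N, hNn, hNc, k, hk⟩ := Cfsg.Agent.S4456.result p hp hdeg
      haveI := hNn
      have hpG : p ∣ Nat.card G := by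
        have := irr_degree_dvd_card χ₀
        rw [hm] at this
        exact dvd_trans hpm this
      have hlt : Nat.card N < n := by
        rw [← hn]
        have hle : Nat.card N ≤ Nat.card G := Subgroup.card_le_card_group N
        rcases Nat.lt_or_ge (Nat.card N) (Nat.card G) with h1 | h1
        · exact h1
        · exfalso
          have h2 : Nat.card N = Nat.card G := le_antisymm hle h1
          rw [h2] at hNc
          exact hp.one_lt.ne' (Nat.Coprime.eq_one_of_dvd hNc.symm hpG)
      have hNs : Group.IsSolvable N :=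
        ih (Nat.card N) hlt N (ordCompl[p] m) rfl (normal_pcompl m p hp h N hNc k hk)
      have hQs : Group.IsSolvable (G ⧸ N) := by
        haveI : Fact p.Prime := ⟨hp⟩
        have hQ : IsPGroup p (G ⧸ N) := by
          apply IsPGroup.of_card (n := k)
          rw [← Subgroup.index_eq_card, hk]
        haveI := hQ.isNilpotent
        infer_instance
      exact (Group.isSolvable_iff_subgroup_quotient N).2 ⟨hNs, hQs⟩

theorem isSolvable {G : Type u} [Group G] [Finite G] (m : ℕ)
    (h : ∀ χ : IrrCharacter G, charDegree (χ : G → ℂ) = 1 ∨ charDegree (χ : G → ℂ) = m) :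
    Group.IsSolvable G :=
  isSolvable_aux _ G m rfl h

end Cfsg.Agent.Helper76.CD2
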