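import Cfsg.Agent.Lib.Helper3.CharMonomial
import Cfsg.Agent.Lib.Helper3.CharNilpotent

set_option autoImplicit false
set_option linter.style.haveILetI false
set_option linter.unusedSectionVars false

/-! One step of Taketa's argument (adapted from `Cfsg.Agent.Helper3.taketa`). -/

namespace Cfsg.Agent.Helper76.Taketa2

open Cfsg.Agent.Helper3

universe u
variable {G : Type u} [Group G] [Fintype G]

/-- If all irreducible characters of degree `≤ d` are trivial on the `k`-th derived subgroup, then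
a monomial irreducible character of degree `d + 1` is trivial on the `(k+1)`-st. -/
theorem taketa_step (k d : ℕ)
    (hk : ∀ a : Cfsg.IrrCharacter G, ∀ n : ℕ, (a : G → ℂ) 1 = (n : ℂ) → n ≤ d →
      ∀ g ∈ derivedSeries G k, (a : G → ℂ) g = (a : G → ℂ) 1)
    (a : Cfsg.IrrCharacter G) (hda : (a : G → ℂ) 1 = ((d + 1 : ℕ) : ℂ))
    (H : Subgroup G) (lam : H →* ℂˣ) (hχ : (a : G → ℂ) = Cfsg.indFun H (fun h => (lam h : ℂ)))
    (g : G) (hg : g ∈ derivedSeries G (k + 1)) : (a : G → ℂ) g = (a : G → ℂ) 1 := by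
  classical
  choose deg hdegpos hdeg using
    (irr_one_pos : ∀ ψ : Cfsg.IrrCharacter G, ∃ n : ℕ, 0 < n ∧ (ψ : G → ℂ) 1 = (n : ℂ))
  haveI : Fintype H := Fintype.ofFinite _
  have hidx : (Nat.card H : ℂ)⁻¹ * (Fintype.card G : ℂ) = ((d + 1 : ℕ) : ℂ) := by
    have := hda
    rw [hχ, indFun_one] at this
    simpa using this
  set ψ := Cfsg.indFun H (fun _ => (1 : ℂ)) with hψ
  have hψchar : Cfsg.IsCharacter G ψ := isCharacter_indFun H _ isCharacter_one
  have hψ1 : ψ 1 = ((d + 1 : ℕ) : ℂ) := by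
    rw [hψ, indFun_one, mul_one]; exact hidx
  let one : Cfsg.IrrCharacter G := ⟨_, isIrrCharacter_one⟩
  have hm1 : irrMult ψ one = 1 := by
    have := irrMult_spec hψchar one
    rw [hψ, frobenius_reciprocity H _ _ (isClassFunction_of_isIrrCharacter one.2)] at this
    have h1 : Cfsg.classInner (fun _ : H => (1 : ℂ)) (fun h : H => (one : G → ℂ) h) = 1 :=
      classInner_irr_self isIrrCharacter_one
    rw [h1] at this
    exact_mod_cast this.symm
  have hψsum := isCharacter_eq_sum_irrMult hψchar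
  have hsum : d + 1 = ∑ c, irrMult ψ c * deg c := by
    have := congrFun hψsum 1
    rw [hψ1] at this
    simp only [Finset.sum_apply, Pi.smul_apply, smul_eq_mul, hdeg] at this
    exact_mod_cast this
  have hsmall : ∀ c : Cfsg.IrrCharacter G, irrMult ψ c ≠ 0 → c ≠ one → deg c ≤ d := by
    intro c hc hne
    have h2 : irrMult ψ one * deg one + irrMult ψ c * deg c ≤ ∑ c, irrMult ψ c * deg c := by
      have := Finset.sum_le_sum_of_subset (f := fun c => irrMult ψ c * deg c)
        (Finset.subset_univ {one, c})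
      rw [Finset.sum_pair hne.symm] at this
      exact this
    have h3 : 1 ≤ irrMult ψ c := Nat.one_le_iff_ne_zero.mpr hc
    have h4 := hdegpos one
    rw [hm1] at h2
    nlinarith
  have hkH : derivedSeries G k ≤ H := by
    intro y hy
    apply mem_of_indFun_one_eq
    have e1 := congrFun hψsum y
    have e2 := congrFun hψsum 1
    change ψ y = ψ 1
    rw [e1, e2]
    simp only [Finset.sum_apply, Pi.smul_apply]
    apply Finset.sum_congr rfl
    intro c _
    by_cases hc : irrMult ψ c = 0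
    · simp [hc]
    · by_cases hc1 : c = one
      · rw [hc1]
      · rw [hk c (deg c) (hdeg c) (hsmall c hc hc1) y hy]
  have hle : derivedSeries G (k + 1) ≤ (lam.ker).map H.subtype := by
    rw [derivedSeries_succ, Subgroup.commutator_le]
    intro g₁ h₁ g₂ h₂
    rw [Subgroup.mem_map]
    let a₁ : H := ⟨g₁, hkH h₁⟩
    let a₂ : H := ⟨g₂, hkH h₂⟩
    refine ⟨a₁ * a₂ * a₁⁻¹ * a₂⁻¹, ?_, rfl⟩
    rw [MonoidHom.mem_ker]
    simp only [map_mul, map_inv]
    rw [mul_comm (lam a₁) (lam a₂)]
    simp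
  rw [hχ]
  apply indFun_lin_of_conj_mem_ker
  intro x
  have hnorm : x⁻¹ * g * x ∈ derivedSeries G (k + 1) := by
    have := (derivedSeries_normal G (k + 1)).conj_mem g hg x⁻¹
    simpa using this
  obtain ⟨z, hz, hzeq⟩ := hle hnorm
  have hzH : x⁻¹ * g * x ∈ H := by rw [← hzeq]; exact z.2
  refine ⟨hzH, ?_⟩
  have : (⟨x⁻¹ * g * x, hzH⟩ : H) = z := Subtype.ext hzeq.symm
  rw [this]
  exact hz

end Cfsg.Agent.Helper76.Taketa2
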