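import Cfsg.Agent.Lib.Helper76.CD2Basic
import Cfsg.Agent.Lib.Helper81.CharCorr
import Cfsg.Agent.S4145

set_option autoImplicit false
set_option linter.style.haveILetI false
set_option linter.unusedSectionVars false

/-! Groups with character degree set `{1, m}`: the case of a normal Sylow subgroup. -/

namespace Cfsg.Agent.Helper76.CD2

open Cfsg Cfsg.Agent.Helper79
open scoped commutatorElement

universe u

section caseB
variable {G : Type u} [Group G] [Finite G]

/-- every irreducible character of `G` has an irreducible constituent on a normal subgroup, with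
degree ratio dividing the index -/
theorem exists_under (N : Subgroup G) [N.Normal] [Fintype N] (χ : IrrCharacter G) :
    ∃ (ψ : IrrCharacter N) (e : ℕ), charDegree (χ : G → ℂ) = e * charDegree (ψ : N → ℂ) ∧
      e ∣ N.index ∧ classInner (fun n : N => (χ : G → ℂ) n) (ψ : N → ℂ) ≠ 0 := by
  classical
  haveI := Fintype.ofFinite G
  have hres : IsCharacter N (fun n : N => (χ : G → ℂ) n) :=
    Cfsg.Agent.Helper81.isCharacter_restrict N (Cfsg.Agent.Helper81.IsIrrCharacter.isCharacter χ.2)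
  have h0 : (fun n : N => (χ : G → ℂ) n) ≠ 0 := by
    intro h
    have := congrFun h 1
    simp only [Pi.zero_apply] at this
    exact irr_one_ne_zero χ this
  obtain ⟨β, hβ, hne⟩ := Cfsg.Agent.Helper81.exists_irr_constituent hres h0
  obtain ⟨e, he, hdvd⟩ := degree_ratio_dvd_index N χ.2 hβ hne
  refine ⟨⟨β, hβ⟩, e, ?_, hdvd, hne⟩
  have h1 := (irr_one_eq χ).1
  have h2 := (irr_one_eq (⟨β, hβ⟩ : IrrCharacter N)).1
  change β 1 = _ at h2
  rw [h1, h2] at he
  exact_mod_cast he

/-- Case (b): a normal Sylow `p`-subgroup for a prime `p ∣ m`. -/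
theorem caseB (m : ℕ)
    (h : ∀ χ : IrrCharacter G, charDegree (χ : G → ℂ) = 1 ∨ charDegree (χ : G → ℂ) = m)
    (χ₀ : IrrCharacter G) (hχ₀ : charDegree (χ₀ : G → ℂ) = m)
    (p : ℕ) (hp : p.Prime) (hpm : p ∣ m) (P : Sylow p G) (hP : (P : Subgroup G).Normal) :
    ∃ e : ℕ, m = p ^ e ∧ ∃ A : Subgroup G, A.Normal ∧ (∀ a ∈ A, ∀ b ∈ A, a * b = b * a) ∧
      (P : Subgroup G) ⊓ A = ⊥ ∧ (P : Subgroup G) ⊔ A = ⊤ := by
  classical
  haveI : Fact p.Prime := ⟨hp⟩
  haveI := hP
  have hdeg : ∀ χ : IrrCharacter G, charDegree (χ : G → ℂ) ≠ 1 → p ∣ charDegree (χ : G → ℂ) := by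
    intro χ hχ
    rw [(h χ).resolve_left hχ]; exact hpm
  obtain ⟨N, hNn, hNc, k, hk⟩ := Cfsg.Agent.S4456.result p hp hdeg
  haveI := hNn
  haveI := Fintype.ofFinite N
  -- the quotient by `P` is abelian
  have hQ : ∀ ψ : IrrCharacter (G ⧸ (P : Subgroup G)), charDegree (ψ : G ⧸ (P : Subgroup G) → ℂ) = 1 := by
    intro ψ
    rcases quotient m h (P : Subgroup G) ψ with h1 | h1
    · exact h1
    · exfalso
      have h2 := irr_degree_dvd_card ψ
      rw [h1, ← Subgroup.index_eq_card] at h2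
      exact P.not_dvd_index (dvd_trans hpm h2)
  have hQc := comm_of_all_linear hQ
  have hcomm : ∀ a b : G, ⁅a, b⁆ ∈ (P : Subgroup G) := by
    intro a b
    rw [← QuotientGroup.eq_one_iff]
    have := hQc (QuotientGroup.mk a) (QuotientGroup.mk b)
    rw [commutatorElement_def]
    simp only [QuotientGroup.mk_mul, QuotientGroup.mk_inv]
    rw [this]; group
  have hPN : (P : Subgroup G) ⊓ N = ⊥ := by
    apply Disjoint.eq_bot
    apply Subgroup.disjoint_of_coprime_natCard
    obtain ⟨j, hj⟩ := (IsPGroup.iff_card.1 P.isPGroup')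
    rw [hj]
    exact (Nat.Coprime.pow_left j hNc.symm)
  have hNab : ∀ a ∈ N, ∀ b ∈ N, a * b = b * a := by
    intro a ha b hb
    have h1 : ⁅a, b⁆ ∈ (P : Subgroup G) ⊓ N :=
      Subgroup.mem_inf.mpr ⟨hcomm a b, by
        rw [commutatorElement_def]
        exact N.mul_mem (N.mul_mem (N.mul_mem ha hb) (N.inv_mem ha)) (N.inv_mem hb)⟩
    rw [hPN, Subgroup.mem_bot, commutatorElement_eq_one_iff_mul_comm] at h1
    exact h1
  -- `m` is a power of `p`
  obtain ⟨ψ, e, he, hdvd, -⟩ := exists_under N χ₀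
  have hψ1 : charDegree (ψ : N → ℂ) = 1 :=
    all_linear_of_comm (fun a b => Subtype.ext (hNab a a.2 b b.2)) ψ
  rw [hχ₀, hψ1, mul_one] at he
  rw [hk] at hdvd
  obtain ⟨j, -, hj⟩ := (Nat.dvd_prime_pow hp).1 hdvd
  refine ⟨j, he.trans hj, N, hNn, hNab, hPN, ?_⟩
  have hc := Cfsg.Agent.S4145.isComplement'_sylow p N hNc hk P
  rw [sup_comm]
  exact hc.sup_eq_top

end caseB

end Cfsg.Agent.Helper76.CD2
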