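import Cfsg.Agent.Lib.Helper76.CD2Struct5
import Cfsg.Agent.Lib.Helper81.CharCoprime

set_option autoImplicit false
set_option linter.style.haveILetI false
set_option linter.unusedSectionVars false

/-! A normal subgroup of index `m` carrying a large fixed-point-free group of linear characters
is abelian, when the character degrees are `1` and `m`. -/

namespace Cfsg.Agent.Helper76.CD2

open Cfsg Cfsg.Agent.Helper79 Cfsg.Agent.Helper81
open scoped commutatorElement

universe u

/-- a linear character of order prime to the degree that fixes an irreducible character under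
multiplication is trivial -/
theorem eq_one_of_mul_eq {N : Type u} [Group N] [Fintype N] {ψ : N → ℂ} (hψ : IsIrrCharacter N ψ)
    (d : ℕ) (hd : ψ 1 = (d : ℂ)) (mu : N →* ℂˣ) (hmul : ∀ n, ((mu n : ℂˣ) : ℂ) * ψ n = ψ n)
    (e : ℕ) (he : ∀ n, mu n ^ e = 1) (hcop : Nat.Coprime d e) : mu = 1 := by
  obtain ⟨k, ρ, hρ, rfl⟩ := hψ
  haveI := hρ
  have hk : d = k := by
    rw [Representation.char_one] at hd
    have : (Module.finrank ℂ (Fin k → ℂ) : ℂ) = (d : ℂ) := hd
    rw [Module.finrank_fin_fun] at this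
    exact_mod_cast this.symm
  subst hk
  let l : N →* ℂ := (Units.coeHom ℂ).comp mu
  haveI := twistRep_isIrreducible l ρ
  have hchar : (twistRep l ρ).character = ρ.character := by
    funext n
    rw [twistRep_character]
    exact hmul n
  apply MonoidHom.ext
  intro n
  have h1 := det_eq_of_character_eq (twistRep l ρ) ρ hchar n
  rw [det_twistRep, Module.finrank_fin_fun] at h1
  have hdet : LinearMap.det (ρ n) ≠ 0 := by
    have h2 : ρ n * ρ n⁻¹ = 1 := by rw [← map_mul, mul_inv_cancel, map_one]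
    have h3 := congrArg LinearMap.det h2
    rw [map_mul, map_one] at h3
    intro h0
    rw [h0, zero_mul] at h3
    exact zero_ne_one h3
  have h4 : l n ^ d = 1 := by
    have : l n ^ d * LinearMap.det (ρ n) = 1 * LinearMap.det (ρ n) := by rw [h1, one_mul]
    exact mul_right_cancel₀ hdet this
  have h5 : mu n ^ d = 1 := by
    apply Units.ext
    rw [Units.val_pow_eq_pow_val]
    exact h4
  have h6 : orderOf (mu n) ∣ Nat.gcd d e :=
    Nat.dvd_gcd (orderOf_dvd_of_pow_eq_one h5) (orderOf_dvd_of_pow_eq_one (he n))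
  rw [hcop] at h6
  rw [MonoidHom.one_apply, ← orderOf_eq_one_iff]
  exact Nat.dvd_one.1 h6

section final
variable {G : Type u} [Group G] [Fintype G]

/-- conjugate of a linear character of a normal subgroup -/
def conjHom (N : Subgroup G) [hN : N.Normal] (mu : N →* ℂˣ) (g : G) : N →* ℂˣ :=
  mu.comp (MulAut.conjNormal g : MulAut N).toMonoidHom

theorem conjHom_apply (N : Subgroup G) [hN : N.Normal] (mu : N →* ℂˣ) (g : G) (n : N) :
    conjHom N mu g n = mu ⟨g * n * g⁻¹, hN.conj_mem n n.2 g⟩ := rfl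

theorem conjFun_linFun_mul (N : Subgroup G) [hN : N.Normal] (mu : N →* ℂˣ) (ψ : N → ℂ) (g : G) :
    conjFun N hN (linFun mu * ψ) g = linFun (conjHom N mu g) * conjFun N hN ψ g := by
  funext n
  simp only [conjFun_apply, Pi.mul_apply, linFun_apply, conjHom_apply]

/-- conjugation by an element of `N` fixes irreducible characters of `N` -/
theorem conjFun_of_mem (N : Subgroup G) [hN : N.Normal] {θ : N → ℂ} (hθ : IsIrrCharacter N θ)
    (n₀ : G) (hn₀ : n₀ ∈ N) : conjFun N hN θ n₀ = θ := by
  have hcl := isClassFunction_of_isCharacter (IsIrrCharacter.isCharacter hθ)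
  funext n
  rw [conjFun_apply]
  exact hcl n ⟨n₀, hn₀⟩

theorem all_linear_of_fpf (m : ℕ)
    (hcd : ∀ χ : IrrCharacter G, charDegree (χ : G → ℂ) = 1 ∨ charDegree (χ : G → ℂ) = m)
    (N : Subgroup G) [hN : N.Normal] (hidx : N.index = m)
    (Λ : Subgroup (N →* ℂˣ))
    (hstab : ∀ mu ∈ Λ, ∀ g : G, conjHom N mu g ∈ Λ)
    (hfpf : ∀ g : G, g ∉ N → ∀ mu ∈ Λ, conjHom N mu g = mu → mu = 1)
    (hcard : m < Nat.card Λ) (hcop : (Nat.card Λ).Coprime m)
    (ψ : IrrCharacter N) : charDegree (ψ : N → ℂ) = 1 := by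
  classical
  haveI : Fintype N := Fintype.ofFinite N
  have hm0 : 0 < m := by
    rw [← hidx]; exact Nat.pos_of_ne_zero Subgroup.index_ne_zero_of_finite
  obtain ⟨χ, e, he, -, -⟩ := exists_over N ψ
  rcases hcd χ with h1 | h1
  · rw [h1] at he
    exact Nat.eq_one_of_mul_eq_one_left he.symm
  rw [h1] at he
  have hdm : charDegree (ψ : N → ℂ) ∣ m := ⟨e, by rw [he, mul_comm]⟩
  set d := charDegree (ψ : N → ℂ) with hd
  have hd1 : (ψ : N → ℂ) 1 = (d : ℂ) := (irr_one_eq ψ).1
  have hcopd : Nat.Coprime d (Nat.card Λ) := (Nat.Coprime.coprime_dvd_right hdm hcop).symm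
  have hirr : ∀ mu : N →* ℂˣ, IsIrrCharacter N (linFun mu * (ψ : N → ℂ)) :=
    fun mu => isIrrCharacter_hom_mul ((Units.coeHom ℂ).comp mu) ψ.2
  have claim1 : ∀ nu ∈ Λ, (∀ n, ((nu n : ℂˣ) : ℂ) * (ψ : N → ℂ) n = (ψ : N → ℂ) n) → nu = 1 := by
    intro nu hnu hmul
    apply eq_one_of_mul_eq ψ.2 d hd1 nu hmul (Nat.card Λ) _ hcopd
    intro n
    have h2 : (⟨nu, hnu⟩ : Λ) ^ Nat.card Λ = 1 := pow_card_eq_one'
    have h3 : nu ^ Nat.card Λ = 1 := by
      have := congrArg (fun x : Λ => (x : N →* ℂˣ)) h2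
      simp only [SubgroupClass.coe_pow, OneMemClass.coe_one] at this
      exact this
    have := congrArg (fun f : N →* ℂˣ => f n) h3
    simpa using this
  have hgood : ∃ mu ∈ Λ, ∀ g : G,
      conjFun N hN (linFun mu * (ψ : N → ℂ)) g = linFun mu * (ψ : N → ℂ) → g ∈ N := by
    by_contra hbad
    push Not at hbad
    choose! gf hgf using hbad
    let F : Option Λ → G ⧸ N := fun o => o.elim 1 (fun mu => ((gf mu.1 : G) : G ⧸ N))
    have hF : Function.Injective F := by
      intro o₁ o₂ h
      rcases o₁ with _ | ⟨mu, hmu⟩ <;> rcases o₂ with _ | ⟨mu', hmu'⟩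
      · rfl
      · exfalso
        have h2 : (1 : G ⧸ N) = ((gf mu' : G) : G ⧸ N) := h
        exact (hgf mu' hmu').2 ((QuotientGroup.eq_one_iff _).1 h2.symm)
      · exfalso
        have h2 : ((gf mu : G) : G ⧸ N) = (1 : G ⧸ N) := h
        exact (hgf mu hmu).2 ((QuotientGroup.eq_one_iff _).1 h2)
      · have h2 : ((gf mu : G) : G ⧸ N) = ((gf mu' : G) : G ⧸ N) := h
        rw [QuotientGroup.eq] at h2
        set g := gf mu with hg
        set n₀ := g⁻¹ * gf mu' with hn₀
        have hg' : gf mu' = g * n₀ := by rw [hn₀]; group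
        obtain ⟨hfix, hgN⟩ := hgf mu hmu
        obtain ⟨hfix', -⟩ := hgf mu' hmu'
        rw [hg', ← conjFun_mul,
          conjFun_of_mem N (conjFun_isIrrCharacter N hN (hirr mu') g) n₀ h2] at hfix'
        rw [← hg] at hfix
        rw [conjFun_linFun_mul] at hfix hfix'
        -- the quotient character
        let kap : N →* ℂˣ := mu⁻¹ * mu'
        have hkap : kap ∈ Λ := Λ.mul_mem (Λ.inv_mem hmu) hmu'
        let nu : N →* ℂˣ := conjHom N kap g * kap⁻¹
        have hnu : nu ∈ Λ := Λ.mul_mem (hstab kap hkap g) (Λ.inv_mem hkap)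
        have hnu1 : nu = 1 := by
          apply claim1 nu hnu
          intro n
          have e1 := congrFun hfix n
          have e2 := congrFun hfix' n
          simp only [Pi.mul_apply, linFun_apply, conjHom_apply, conjFun_apply] at e1 e2
          have hval : ((nu n : ℂˣ) : ℂ) =
              ((mu ⟨g * n * g⁻¹, hN.conj_mem n n.2 g⟩ : ℂˣ) : ℂ)⁻¹ *
                ((mu' ⟨g * n * g⁻¹, hN.conj_mem n n.2 g⟩ : ℂˣ) : ℂ) *
                (((mu n : ℂˣ) : ℂ)⁻¹ * ((mu' n : ℂˣ) : ℂ))⁻¹ := by
            simp only [nu, kap, MonoidHom.mul_apply, MonoidHom.inv_apply, conjHom_apply,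
              Units.val_mul, Units.val_inv_eq_inv_val]
          rw [hval]
          have ha := (mu ⟨g * n * g⁻¹, hN.conj_mem n n.2 g⟩).ne_zero
          have ha' := (mu' ⟨g * n * g⁻¹, hN.conj_mem n n.2 g⟩).ne_zero
          have hb := (mu n).ne_zero
          have hb' := (mu' n).ne_zero
          field_simp
          linear_combination
            (-((mu' ⟨g * n * g⁻¹, hN.conj_mem n n.2 g⟩ : ℂˣ) : ℂ)) * e1 +
              ((mu ⟨g * n * g⁻¹, hN.conj_mem n n.2 g⟩ : ℂˣ) : ℂ) * e2
        have hkapfix : conjHom N kap g = kap := by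
          have : conjHom N kap g * kap⁻¹ = 1 := hnu1
          exact mul_inv_eq_one.1 this
        have hkap1 := hfpf g hgN kap hkap hkapfix
        have : mu = mu' := by
          have : mu⁻¹ * mu' = 1 := hkap1
          exact (inv_mul_eq_one.1 this)
        subst this
        rfl
    have h2 := Nat.card_le_card_of_injective F hF
    rw [Finite.card_option, ← Subgroup.index_eq_card, hidx] at h2
    omega
  obtain ⟨mu, hmu, hgoodmu⟩ := hgood
  have hT : ∀ g : G, g ∈ N ↔ conjFun N hN (linFun mu * (ψ : N → ℂ)) g = linFun mu * (ψ : N → ℂ) :=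
    fun g => ⟨fun hg => conjFun_of_mem N (hirr mu) g hg, hgoodmu g⟩
  have hne : classInner (resTo (le_refl N) (linFun mu * (ψ : N → ℂ))) (linFun mu * (ψ : N → ℂ)) ≠ 0 := by
    have : resTo (le_refl N) (linFun mu * (ψ : N → ℂ)) = linFun mu * (ψ : N → ℂ) := by
      funext n; rfl
    rw [this, irr_orthonormal (hirr mu) (hirr mu), if_pos rfl]
    exact one_ne_zero
  have hind := (clifford_corr_irr N N hN (le_refl N) (hirr mu) hT (hirr mu) hne).1
  have hdeg : charDegree (indFun N (linFun mu * (ψ : N → ℂ))) = m * d := by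
    apply charDegree_eq_of_one
    rw [indFun_one, hidx, Pi.mul_apply, linFun_apply, map_one, Units.val_one, one_mul, hd1]
    push_cast; ring
  have := hcd ⟨_, hind⟩
  rw [hdeg] at this
  rcases this with h2 | h2
  · exact Nat.eq_one_of_mul_eq_one_left h2
  · have : m * d = m * 1 := by rw [h2, mul_one]
    exact Nat.eq_of_mul_eq_mul_left hm0 this

end final

end Cfsg.Agent.Helper76.CD2
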