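import Mathlib

set_option autoImplicit false
set_option linter.unusedSectionVars false
set_option linter.style.haveILetI false

namespace Cfsg.Agent.Helper76

variable {G : Type*} [Group G]

section Basic

variable [Finite G]

/-- A subgroup of index prime to `p` contains a Sylow `p`-subgroup. -/
theorem exists_sylow_le_of_not_dvd_index (p : ℕ) [Fact p.Prime] (A : Subgroup G)
    (hpA : ¬ p ∣ A.index) : ∃ P : Sylow p G, (P : Subgroup G) ≤ A := by
  obtain ⟨P₀⟩ : Nonempty (Sylow p A) := inferInstance
  set P₁ : Subgroup G := (P₀ : Subgroup A).map A.subtype with hP₁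
  have hP₁A : P₁ ≤ A := Subgroup.map_subtype_le _
  have hfact : (Nat.card A).factorization p = (Nat.card G).factorization p := by
    have e3 := Subgroup.card_mul_index A
    have hAi : A.index ≠ 0 := by
      intro h
      rw [h, mul_zero] at e3
      exact absurd e3.symm Nat.card_pos.ne'
    rw [← e3, Nat.factorization_mul Nat.card_pos.ne' hAi]
    simp [Nat.factorization_eq_zero_of_not_dvd hpA]
  have hP₁card : Nat.card P₁ = p ^ (Nat.card G).factorization p := by
    rw [← hfact, ← Sylow.card_eq_multiplicity P₀]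
    exact (Nat.card_congr
      (Subgroup.equivMapOfInjective _ A.subtype A.subtype_injective).toEquiv).symm
  exact ⟨Sylow.ofCard P₁ hP₁card, hP₁A⟩

/-- A subgroup containing a Sylow `p`-subgroup has index prime to `p`. -/
theorem not_dvd_index_of_sylow_le (p : ℕ) [Fact p.Prime] (P : Sylow p G) (A : Subgroup G)
    (h : (P : Subgroup G) ≤ A) : ¬ p ∣ A.index := fun hd =>
  P.not_dvd_index (hd.trans (Subgroup.index_dvd_of_le h))

/-- The number of Sylow `q`-subgroups is prime to `p` iff some Sylow `p`-subgroup normalizes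
some Sylow `q`-subgroup. -/
theorem not_dvd_card_sylow_iff (p q : ℕ) [Fact p.Prime] [Fact q.Prime] :
    ¬ p ∣ Nat.card (Sylow q G) ↔
      ∃ (P : Sylow p G) (Q : Sylow q G),
        (P : Subgroup G) ≤ Subgroup.normalizer ((Q : Subgroup G) : Set G) := by
  constructor
  · intro h
    obtain ⟨Q⟩ : Nonempty (Sylow q G) := inferInstance
    rw [Sylow.card_eq_index_normalizer Q] at h
    obtain ⟨P, hP⟩ := exists_sylow_le_of_not_dvd_index p _ h
    exact ⟨P, Q, hP⟩
  · rintro ⟨P, Q, hPQ⟩
    rw [Sylow.card_eq_index_normalizer Q]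
    exact not_dvd_index_of_sylow_le p P _ hPQ

theorem not_dvd_card_sylow_iff_forall (p q : ℕ) [Fact p.Prime] [Fact q.Prime] :
    ¬ p ∣ Nat.card (Sylow q G) ↔
      ∀ Q : Sylow q G, ¬ p ∣ (Subgroup.normalizer ((Q : Subgroup G) : Set G)).index := by
  constructor
  · intro h Q hd
    apply h
    rw [Sylow.card_eq_index_normalizer Q]
    exact hd
  · intro h
    obtain ⟨Q⟩ : Nonempty (Sylow q G) := inferInstance
    rw [Sylow.card_eq_index_normalizer Q]
    exact h Q

/-- Elements of prime power order lift along surjective homomorphisms. -/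
theorem exists_primePow_lift (q : ℕ) [Fact q.Prime] {G' : Type*} [Group G'] (f : G →* G')
    (hf : Function.Surjective f) (y' : G') (hy' : ∃ k : ℕ, orderOf y' = q ^ k) :
    ∃ y : G, f y = y' ∧ ∃ k : ℕ, orderOf y = q ^ k := by
  have : Finite G' := Finite.of_surjective f hf
  obtain ⟨k, hk⟩ := hy'
  have hz : IsPGroup q (Subgroup.zpowers y') :=
    IsPGroup.of_card ((Nat.card_zpowers y').trans hk)
  obtain ⟨Q', hQ'⟩ := hz.exists_le_sylow
  obtain ⟨Q, rfl⟩ := Sylow.mapSurjective_surjective hf q Q'
  have hmem : y' ∈ (Q : Subgroup G).map f := hQ' (Subgroup.mem_zpowers y')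
  obtain ⟨y, hyQ, hy⟩ := Subgroup.mem_map.mp hmem
  refine ⟨y, hy, ?_⟩
  obtain ⟨k', hk'⟩ := (IsPGroup.iff_orderOf.mp Q.isPGroup') ⟨y, hyQ⟩
  exact ⟨k', by rw [← hk', Subgroup.orderOf_mk]⟩

/-- The class-size hypothesis: no element of `q`-power order has class size divisible by `p`. -/
def ClassHyp (p q : ℕ) (G : Type*) [Group G] : Prop :=
  ∀ y : G, (∃ k : ℕ, orderOf y = q ^ k) → ¬ p ∣ (Subgroup.centralizer ({y} : Set G)).index

/-- The class-size hypothesis passes to quotients (surjective images). -/
theorem ClassHyp.of_surjective {p q : ℕ} [Fact q.Prime] {G' : Type*} [Group G'] (f : G →* G')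
    (hf : Function.Surjective f) (h : ClassHyp p q G) : ClassHyp p q G' := by
  intro y' hy'
  obtain ⟨y, rfl, hy⟩ := exists_primePow_lift q f hf y' hy'
  have h1 := h y hy
  intro hd
  apply h1
  have hle : (Subgroup.centralizer ({y} : Set G)).map f ≤ Subgroup.centralizer ({f y} : Set G') := by
    rintro _ ⟨x, hx, rfl⟩
    rw [Subgroup.mem_centralizer_iff]
    intro z hz
    rw [Set.mem_singleton_iff] at hz
    subst hz
    have := (Subgroup.mem_centralizer_iff.mp hx) y (Set.mem_singleton y)
    rw [← map_mul, ← map_mul, this]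
  exact (hd.trans (Subgroup.index_dvd_of_le hle)).trans (Subgroup.index_map_dvd _ hf)

/-- If the number of Sylow `q`-subgroups of `G ⧸ N` is prime to `p`, then the normalizer of `Q N`
has index prime to `p`, for every Sylow `q`-subgroup `Q` of `G`. -/
theorem not_dvd_index_normalizer_sup (p q : ℕ) [Fact p.Prime] [Fact q.Prime] (N : Subgroup G)
    [N.Normal] (h : ¬ p ∣ Nat.card (Sylow q (G ⧸ N))) (Q : Sylow q G) :
    ¬ p ∣ (Subgroup.normalizer (((Q : Subgroup G) ⊔ N : Subgroup G) : Set G)).index := by
  have hf : Function.Surjective (QuotientGroup.mk' N) := QuotientGroup.mk'_surjective N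
  have h1 := (not_dvd_card_sylow_iff_forall p q).mp h (Q.mapSurjective hf)
  rw [Sylow.coe_mapSurjective] at h1
  have h2 : ((Q : Subgroup G).map (QuotientGroup.mk' N)).comap (QuotientGroup.mk' N) =
      (Q : Subgroup G) ⊔ N := by
    rw [Subgroup.comap_map_eq, QuotientGroup.ker_mk']
  have h3 := Subgroup.comap_normalizer_eq_of_surjective
    ((Q : Subgroup G).map (QuotientGroup.mk' N)) hf
  rw [h2] at h3
  rw [← h3, Subgroup.index_comap_of_surjective _ hf]
  exact h1

/-- If `C` centralizes the Sylow subgroup `Q`, the normalizer of `Q C` normalizes `Q`. -/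
theorem normalizer_sup_le_normalizer (q : ℕ) [Fact q.Prime] (Q : Sylow q G) (C : Subgroup G)
    (hC : C ≤ Subgroup.centralizer ((Q : Subgroup G) : Set G)) :
    Subgroup.normalizer (((Q : Subgroup G) ⊔ C : Subgroup G) : Set G) ≤
      Subgroup.normalizer ((Q : Subgroup G) : Set G) := by
  intro x hx
  have hsup : (Q : Subgroup G) ⊔ C ≤ Subgroup.normalizer ((Q : Subgroup G) : Set G) :=
    sup_le Subgroup.le_normalizer (hC.trans (Subgroup.centralizer_le_normalizer _))
  -- the conjugate Sylow `x • Q` lies in `Q ⊔ C`, hence in `N(Q)`, hence in `Q`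
  have h1 : ((x • Q : Sylow q G) : Subgroup G) ≤ (Q : Subgroup G) ⊔ C := by
    intro z hz
    rw [Sylow.coe_subgroup_smul, Subgroup.mem_pointwise_smul_iff_inv_smul_mem] at hz
    have hz' : x⁻¹ * z * x ∈ (Q : Subgroup G) := by
      simpa [MulAut.smul_def] using hz
    have h2 : x⁻¹ * z * x ∈ (Q : Subgroup G) ⊔ C := le_sup_left (a := (Q : Subgroup G)) hz'
    have h3 := (Subgroup.mem_normalizer_iff.mp hx (x⁻¹ * z * x)).mp h2
    have : x * (x⁻¹ * z * x) * x⁻¹ = z := by group
    rwa [this] at h3
  have h2 : ((x • Q : Sylow q G) : Subgroup G) ≤ (Q : Subgroup G) := by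
    have := IsPGroup.inf_normalizer_sylow (x • Q).isPGroup' Q
    have h3 : ((x • Q : Sylow q G) : Subgroup G) ⊓
        Subgroup.normalizer (Q : Set G) = ((x • Q : Sylow q G) : Subgroup G) :=
      inf_of_le_left (h1.trans hsup)
    rw [h3] at this
    rw [this]
    exact inf_le_right
  have h3 : x • Q = Q := by
    have := (x • Q).is_maximal' Q.isPGroup' h2
    exact Sylow.ext this.symm
  exact Sylow.smul_eq_iff_mem_normalizer.mp h3

/-- A Sylow subgroup of a subgroup of index prime to `p` has the order of a Sylow subgroup of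
the whole group. -/
theorem card_map_subtype_sylow (p : ℕ) [Fact p.Prime] (X : Subgroup G) (hX : ¬ p ∣ X.index)
    (P₀ : Sylow p X) :
    Nat.card ((P₀ : Subgroup X).map X.subtype) = p ^ (Nat.card G).factorization p := by
  have hfact : (Nat.card X).factorization p = (Nat.card G).factorization p := by
    have e3 := Subgroup.card_mul_index X
    have hAi : X.index ≠ 0 := by
      intro h
      rw [h, mul_zero] at e3
      exact absurd e3.symm Nat.card_pos.ne'
    rw [← e3, Nat.factorization_mul Nat.card_pos.ne' hAi]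
    simp [Nat.factorization_eq_zero_of_not_dvd hX]
  rw [← hfact, ← Sylow.card_eq_multiplicity P₀]
  exact (Nat.card_congr
    (Subgroup.equivMapOfInjective _ X.subtype X.subtype_injective).toEquiv).symm

/-- If a subgroup `X` of index prime to `p` and to `q` has a Sylow `p`-subgroup normalizing a
Sylow `q`-subgroup, so does `G`. -/
theorem not_dvd_card_sylow_of_subgroup (p q : ℕ) [Fact p.Prime] [Fact q.Prime] (X : Subgroup G)
    (hpX : ¬ p ∣ X.index) (hqX : ¬ q ∣ X.index) (h : ¬ p ∣ Nat.card (Sylow q X)) :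
    ¬ p ∣ Nat.card (Sylow q G) := by
  obtain ⟨P₁, Q₁, hPQ⟩ := (not_dvd_card_sylow_iff p q).mp h
  rw [not_dvd_card_sylow_iff]
  refine ⟨Sylow.ofCard _ (card_map_subtype_sylow p X hpX P₁),
    Sylow.ofCard _ (card_map_subtype_sylow q X hqX Q₁), ?_⟩
  rw [Sylow.coe_ofCard, Sylow.coe_ofCard]
  calc (P₁ : Subgroup X).map X.subtype
      ≤ (Subgroup.normalizer ((Q₁ : Subgroup X) : Set X)).map X.subtype := Subgroup.map_mono hPQ
    _ ≤ Subgroup.normalizer (((Q₁ : Subgroup X).map X.subtype : Subgroup G) : Set G) :=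
        Subgroup.le_normalizer_map _

/-- **Frattini counting.** If a Sylow `q`-subgroup `Q` lies in a normal subgroup `K` of order
prime to `p`, then `|G : N_G(Q)|` is prime to `p`. -/
theorem not_dvd_card_sylow_of_le_normal (p q : ℕ) [Fact p.Prime] [Fact q.Prime] (K : Subgroup G)
    [K.Normal] (hK : (Nat.card K).Coprime p) (Q : Sylow q G) (hQK : (Q : Subgroup G) ≤ K) :
    ¬ p ∣ Nat.card (Sylow q G) := by
  have hp : p.Prime := Fact.out
  rw [Sylow.card_eq_index_normalizer Q]
  have hfrat : Subgroup.normalizer ((Q : Subgroup G) : Set G) ⊔ K = ⊤ :=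
    Sylow.normalizer_sup_eq_top' Q hQK
  set A := Subgroup.normalizer ((Q : Subgroup G) : Set G) with hA
  have hrel : ∀ (H L : Subgroup G), H ≤ L → Nat.card L = Nat.card H * H.relIndex L := by
    intro H L hHL
    rw [← Subgroup.relIndex_bot_left, ← Subgroup.relIndex_bot_left,
      Subgroup.relIndex_mul_relIndex ⊥ H L bot_le hHL]
  have hAidx : A.index ∣ Nat.card K := by
    have e1 := hrel K (A ⊔ K) le_sup_right
    rw [Subgroup.relIndex_sup_right, hfrat, Subgroup.card_top] at e1
    have e2 := hrel (K ⊓ A) A inf_le_right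
    rw [Subgroup.inf_relIndex_right] at e2
    have e3 := Subgroup.card_mul_index A
    have hr : 0 < K.relIndex A := by
      rcases Nat.eq_zero_or_pos (K.relIndex A) with h | h
      · rw [h, mul_zero] at e1
        exact absurd e1 Nat.card_pos.ne'
      · exact h
    refine ⟨Nat.card (K ⊓ A : Subgroup G), ?_⟩
    have : K.relIndex A * Nat.card K =
        K.relIndex A * (A.index * Nat.card (K ⊓ A : Subgroup G)) := by
      calc K.relIndex A * Nat.card K = Nat.card G := by rw [e1]; ring
        _ = Nat.card A * A.index := e3.symm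
        _ = K.relIndex A * (A.index * Nat.card (K ⊓ A : Subgroup G)) := by rw [e2]; ring
    exact Nat.eq_of_mul_eq_mul_left hr this
  intro h
  have h2 : p ∣ Nat.card K := h.trans hAidx
  have h3 : p ∣ Nat.gcd (Nat.card K) p := Nat.dvd_gcd h2 dvd_rfl
  rw [Nat.Coprime.gcd_eq_one hK] at h3
  exact hp.one_lt.ne' (Nat.dvd_one.mp h3)

/-- For a normal subgroup `K`, `|K : K ∩ H|` divides `|G : H|`. -/
theorem relIndex_dvd_index_of_normal_right (H K : Subgroup G) [K.Normal] :
    H.relIndex K ∣ H.index := by
  have hrel : ∀ (A L : Subgroup G), A ≤ L → Nat.card L = Nat.card A * A.relIndex L := by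
    intro A L hAL
    rw [← Subgroup.relIndex_bot_left, ← Subgroup.relIndex_bot_left,
      Subgroup.relIndex_mul_relIndex ⊥ A L bot_le hAL]
  have e1 := hrel K (H ⊔ K) le_sup_right
  rw [Subgroup.relIndex_sup_right] at e1
  have e2 := hrel (H ⊓ K) H inf_le_left
  rw [Subgroup.inf_relIndex_left] at e2
  have e3 := hrel (H ⊓ K) K inf_le_right
  rw [Subgroup.inf_relIndex_right] at e3
  have e4 := hrel H (H ⊔ K) le_sup_left
  have e5 : H.relIndex (H ⊔ K) = H.relIndex K := by
    have hpos : 0 < Nat.card H := Nat.card_pos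
    apply Nat.eq_of_mul_eq_mul_left hpos
    rw [← e4, e1, e3, e2]
    ring
  rw [← e5]
  exact Subgroup.relIndex_dvd_index_of_le le_sup_left

end Basic

section Action

open scoped Pointwise

variable [Finite G] (K : Subgroup G) [K.Normal]

set_option backward.isDefEq.respectTransparency false in
/-- conjugation by `g : G` on Sylow subgroups of the normal subgroup `K`, and its effect on the
underlying subgroup of `G` -/
theorem map_subtype_conjNormal_smul (p : ℕ) (g : G) (S : Sylow p K) :
    (((MulAut.conjNormal g : MulAut K) • S : Sylow p K) : Subgroup K).map K.subtype =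
      ((S : Subgroup K).map K.subtype).map (MulAut.conj g).toMonoidHom := by
  rw [Sylow.pointwise_smul_def, Subgroup.pointwise_smul_def, Subgroup.map_map, Subgroup.map_map]
  rfl

theorem mem_normalizer_map_subtype_iff (p : ℕ) (g : G) (S : Sylow p K) :
    g ∈ Subgroup.normalizer ((((S : Subgroup K).map K.subtype : Subgroup G)) : Set G) ↔
      (MulAut.conjNormal g : MulAut K) • S = S := by
  rw [Subgroup.mem_normalizer_iff_map_conj_eq]
  constructor
  · intro h
    apply Sylow.ext
    apply Subgroup.map_injective K.subtype_injective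
    rw [map_subtype_conjNormal_smul]
    exact h
  · intro h
    have := map_subtype_conjNormal_smul K p g S
    rw [h] at this
    exact this.symm

/-- A `q`-subgroup `A` of `G` acting by conjugation on a normal `q'`-subgroup `K` leaves some
Sylow `p`-subgroup of `K` invariant. -/
theorem exists_invariant_sylow (p q : ℕ) [Fact p.Prime] [Fact q.Prime]
    (hqK : ¬ q ∣ Nat.card K) (A : Subgroup G) (hA : IsPGroup q A) :
    ∃ S : Sylow p K, ∀ a ∈ A, (MulAut.conjNormal a : MulAut K) • S = S := by
  letI : MulAction A (Sylow p K) :=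
    MulAction.compHom (Sylow p K) ((MulAut.conjNormal (H := K)).comp A.subtype)
  have hcard : ¬ q ∣ Nat.card (Sylow p K) := by
    obtain ⟨S₀⟩ : Nonempty (Sylow p K) := inferInstance
    intro h
    exact hqK ((h.trans (Sylow.card_dvd_index S₀)).trans (Subgroup.index_dvd_card _))
  obtain ⟨S, hS⟩ := hA.nonempty_fixed_point_of_prime_not_dvd_card (Sylow p K) hcard
  refine ⟨S, fun a ha => ?_⟩
  exact hS ⟨a, ha⟩

/-- automorphisms move conjugates to conjugates -/
theorem mulAut_smul_smul_sylow (p : ℕ) (φ : MulAut K) (k : K) (T : Sylow p K) :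
    φ • (k • T) = (φ k) • (φ • T) := by
  rw [Sylow.smul_def, Sylow.smul_def, ← mul_smul, ← mul_smul]
  congr 1
  ext x
  simp [MulAut.mul_apply, MulAut.conj_apply]

/-- **Glauberman's lemma for a cyclic `q`-group.** Let `K` be a normal `q'`-subgroup of `G` and
`y` an element of `q`-power order normalizing two Sylow `p`-subgroups `S`, `T` of `K`.
Then `S` and `T` are conjugate by an element of `K` commuting with `y`. -/
theorem exists_conj_commute (p q : ℕ) [Fact p.Prime] [Fact q.Prime]
    (hqK : ¬ q ∣ Nat.card K) (y : G) (hy : ∃ k : ℕ, orderOf y = q ^ k) (S T : Sylow p K)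
    (hS : (MulAut.conjNormal y : MulAut K) • S = S)
    (hT : (MulAut.conjNormal y : MulAut K) • T = T) :
    ∃ c : K, y * (c : G) * y⁻¹ = c ∧ c • T = S := by
  obtain ⟨k, hk⟩ := hy
  set Y := Subgroup.zpowers y with hY
  have hYq : IsPGroup q Y := IsPGroup.of_card ((Nat.card_zpowers y).trans hk)
  -- every element of `Y` stabilizes `S` and `T`
  have hstab : ∀ (R : Sylow p K), (MulAut.conjNormal y : MulAut K) • R = R →
      ∀ u ∈ Y, (MulAut.conjNormal u : MulAut K) • R = R := by
    intro R hR u hu
    have hle : Y ≤ (MulAction.stabilizer (MulAut K) R).comap (MulAut.conjNormal (H := K)) := by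
      rw [hY, Subgroup.zpowers_le]
      exact hR
    exact hle hu
  have hYS := hstab S hS
  have hYT := hstab T hT
  -- the transporter
  let α := {c : K // c • T = S}
  letI : MulAction Y α :=
    { smul := fun u a => ⟨(MulAut.conjNormal (u : G) : MulAut K) a.1, by
        have h1 := mulAut_smul_smul_sylow K p (MulAut.conjNormal (u : G) : MulAut K) a.1 T
        rw [a.2, hYS u u.2, hYT u u.2] at h1
        exact h1.symm⟩
      one_smul := fun a => by
        apply Subtype.ext
        show (MulAut.conjNormal ((1 : Y) : G) : MulAut K) a.1 = a.1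
        simp
      mul_smul := fun u v a => by
        apply Subtype.ext
        show (MulAut.conjNormal ((u * v : Y) : G) : MulAut K) a.1 =
          (MulAut.conjNormal (u : G) : MulAut K) ((MulAut.conjNormal (v : G) : MulAut K) a.1)
        simp [MulAut.mul_apply] }
  obtain ⟨k₀, hk₀⟩ := MulAction.exists_smul_eq K T S
  have hequiv : α ≃ MulAction.stabilizer K T :=
    { toFun := fun a => ⟨k₀⁻¹ * a.1, by
        rw [MulAction.mem_stabilizer_iff, mul_smul, a.2, ← hk₀, inv_smul_smul]⟩
      invFun := fun s => ⟨k₀ * s.1, by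
        show (k₀ * s.1) • T = S
        rw [mul_smul, MulAction.mem_stabilizer_iff.mp s.2, hk₀]⟩
      left_inv := fun a => by apply Subtype.ext; simp
      right_inv := fun s => by apply Subtype.ext; simp }
  have hcard : ¬ q ∣ Nat.card α := by
    rw [Nat.card_congr hequiv]
    intro h
    exact hqK (h.trans (Subgroup.card_subgroup_dvd_card _))
  obtain ⟨a, ha⟩ := hYq.nonempty_fixed_point_of_prime_not_dvd_card α hcard
  refine ⟨a.1, ?_, a.2⟩
  have h1 := ha ⟨y, Subgroup.mem_zpowers y⟩
  have h2 : (MulAut.conjNormal y : MulAut K) a.1 = a.1 := congrArg Subtype.val h1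
  have h3 := congrArg (Subtype.val : K → G) h2
  rw [MulAut.conjNormal_apply] at h3
  exact h3

/-- Let `K` be a normal `q'`-subgroup, `S` a Sylow `p`-subgroup of `K` normalized by the
`q`-element `y`, and suppose the class of `y` has size prime to `p`. Then some Sylow `p`-subgroup
of `G` containing `S` centralizes `y` (and normalizes `S`). -/
theorem exists_sylow_le_centralizer_inf_normalizer (p q : ℕ) [Fact p.Prime] [Fact q.Prime]
    (hqK : ¬ q ∣ Nat.card K) (S : Sylow p K) (y : G) (hy : ∃ k : ℕ, orderOf y = q ^ k)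
    (hyS : y ∈ Subgroup.normalizer ((((S : Subgroup K).map K.subtype : Subgroup G)) : Set G))
    (hidx : ¬ p ∣ (Subgroup.centralizer ({y} : Set G)).index) :
    ∃ T' : Sylow p G, (T' : Subgroup G) ≤ Subgroup.centralizer ({y} : Set G) ∧
      (T' : Subgroup G) ≤
        Subgroup.normalizer ((((S : Subgroup K).map K.subtype : Subgroup G)) : Set G) ∧
      (S : Subgroup K).map K.subtype ≤ (T' : Subgroup G) := by
  obtain ⟨T, hT⟩ := exists_sylow_le_of_not_dvd_index p _ hidx
  have hT0p : IsPGroup p ((T : Subgroup G).subgroupOf K) := T.isPGroup'.comap_subtype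
  have hT0i : ¬ p ∣ ((T : Subgroup G).subgroupOf K).index := by
    intro h
    exact T.not_dvd_index (h.trans (relIndex_dvd_index_of_normal_right (T : Subgroup G) K))
  set T₀ : Sylow p K := hT0p.toSylow hT0i with hT₀
  have hT₀coe : (T₀ : Subgroup K) = (T : Subgroup G).subgroupOf K := rfl
  have hT₀map : (T₀ : Subgroup K).map K.subtype = (T : Subgroup G) ⊓ K := by
    rw [hT₀coe, Subgroup.subgroupOf_map_subtype]
  have hyT₀ : (MulAut.conjNormal y : MulAut K) • T₀ = T₀ := by
    rw [← mem_normalizer_map_subtype_iff, hT₀map]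
    apply Subgroup.centralizer_le_normalizer
    rw [Subgroup.mem_centralizer_iff]
    intro h hh
    have h1 : h ∈ (T : Subgroup G) := (Subgroup.mem_inf.mp hh).1
    have h2 := Subgroup.mem_centralizer_iff.mp (hT h1) y (Set.mem_singleton y)
    exact h2.symm
  have hyS' : (MulAut.conjNormal y : MulAut K) • S = S :=
    (mem_normalizer_map_subtype_iff K p y S).mp hyS
  obtain ⟨c, hcy, hcT⟩ := exists_conj_commute K p q hqK y hy S T₀ hyS' hyT₀
  have hyc : y * (c : G) = c * y := by
    have := congrArg (· * y) hcy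
    simpa [mul_assoc] using this
  have hmem : ∀ x : G, x ∈ (((c : G) • T : Sylow p G) : Subgroup G) ↔
      (c : G)⁻¹ * x * c ∈ (T : Subgroup G) := by
    intro x
    rw [Sylow.coe_subgroup_smul, Subgroup.mem_pointwise_smul_iff_inv_smul_mem]
    simp [MulAut.smul_def]
  have hS'eq : (S : Subgroup K).map K.subtype = (((c : G) • T : Sylow p G) : Subgroup G) ⊓ K := by
    have h1 : (MulAut.conjNormal (c : G) : MulAut K) • T₀ = S := by
      rw [MulAut.conjNormal_val, ← Sylow.smul_def]
      exact hcT
    have h2 := map_subtype_conjNormal_smul K p (c : G) T₀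
    rw [h1, hT₀map] at h2
    rw [h2]
    ext x
    rw [Subgroup.mem_map_equiv, Subgroup.mem_inf, Subgroup.mem_inf, hmem]
    have hx : (MulAut.conj (c : G)).symm x = (c : G)⁻¹ * x * c := by
      simp [MulAut.conj_symm_apply]
    rw [hx]
    constructor
    · rintro ⟨h3, h4⟩
      refine ⟨h3, ?_⟩
      have := ‹K.Normal›.conj_mem _ h4 (c : G)
      simpa [mul_assoc] using this
    · rintro ⟨h3, h4⟩
      refine ⟨h3, ?_⟩
      have := ‹K.Normal›.conj_mem _ h4 (c : G)⁻¹
      simpa [mul_assoc] using this
  refine ⟨(c : G) • T, ?_, ?_, ?_⟩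
  · intro x hx
    rw [hmem] at hx
    have hw := Subgroup.mem_centralizer_iff.mp (hT hx) y (Set.mem_singleton y)
    rw [Subgroup.mem_centralizer_iff]
    intro z hz
    rw [Set.mem_singleton_iff] at hz
    subst hz
    have hyc' : z * (c : G)⁻¹ = (c : G)⁻¹ * z := by
      have : (c : G)⁻¹ * (z * c) * (c : G)⁻¹ = (c : G)⁻¹ * (c * z) * (c : G)⁻¹ := by rw [hyc]
      simpa [mul_assoc] using this.symm
    have hxeq : x = (c : G) * ((c : G)⁻¹ * x * c) * (c : G)⁻¹ := by group
    rw [hxeq]
    calc z * ((c : G) * ((c : G)⁻¹ * x * c) * (c : G)⁻¹)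
        = (z * c) * ((c : G)⁻¹ * x * c) * (c : G)⁻¹ := by simp only [mul_assoc]
      _ = (c : G) * (z * ((c : G)⁻¹ * x * c)) * (c : G)⁻¹ := by rw [hyc]; simp only [mul_assoc]
      _ = (c : G) * (((c : G)⁻¹ * x * c) * z) * (c : G)⁻¹ := by rw [hw]
      _ = (c : G) * ((c : G)⁻¹ * x * c) * (z * (c : G)⁻¹) := by simp only [mul_assoc]
      _ = (c : G) * ((c : G)⁻¹ * x * c) * ((c : G)⁻¹ * z) := by rw [hyc']
      _ = (c : G) * ((c : G)⁻¹ * x * c) * (c : G)⁻¹ * z := by simp only [mul_assoc]
  · rw [hS'eq]
    intro x hx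
    rw [Subgroup.mem_normalizer_iff]
    intro h
    constructor
    · intro hh
      have h1 := Subgroup.mem_inf.mp hh
      exact Subgroup.mem_inf.mpr
        ⟨Subgroup.mul_mem _ (Subgroup.mul_mem _ hx h1.1) (Subgroup.inv_mem _ hx),
          ‹K.Normal›.conj_mem _ h1.2 x⟩
    · intro hh
      have h1 := Subgroup.mem_inf.mp hh
      have e : h = x⁻¹ * (x * h * x⁻¹) * x := by group
      rw [e]
      refine Subgroup.mem_inf.mpr
        ⟨Subgroup.mul_mem _ (Subgroup.mul_mem _ (Subgroup.inv_mem _ hx) h1.1) hx, ?_⟩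
      have := ‹K.Normal›.conj_mem _ h1.2 x⁻¹
      simpa [mul_assoc] using this
  · rw [hS'eq]
    exact inf_le_left

end Action

end Cfsg.Agent.Helper76
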