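import Mathlib
import Cfsg.Prelude.Def_Local
import Cfsg.Agent.Lib.Helper76.PSolvable
import Cfsg.Agent.Lib.Helper76.SylowNorm

set_option autoImplicit false
set_option linter.unusedSectionVars false

namespace Cfsg.Agent.Helper76

open Cfsg

universe u

/-- Subgroups of `p`-solvable groups are `p`-solvable. -/
lemma IsPSolvable.subgroup {G : Type*} [Group G] {p : ℕ} [Fact p.Prime] (hG : IsPSolvable p G)
    (A : Subgroup G) : IsPSolvable p A := by
  have hp : p.Prime := Fact.out
  obtain ⟨n, H, h0, hlast, hmono, hnorm, hfac⟩ := hG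
  refine ⟨n, fun i => (H i).subgroupOf A, ?_, ?_, ?_, ?_, ?_⟩
  · show (H 0).subgroupOf A = ⊥
    rw [h0, Subgroup.bot_subgroupOf]
  · show (H (Fin.last n)).subgroupOf A = ⊤
    rw [hlast, Subgroup.top_subgroupOf]
  · intro i j hij
    exact Subgroup.comap_mono (hmono hij)
  · intro i
    have := hnorm i
    exact Subgroup.Normal.subgroupOf (hnorm i) A
  · intro i
    have hn1 : (H i.castSucc).Normal := hnorm _
    have e1 : ((H i.castSucc).subgroupOf A).relIndex ((H i.succ).subgroupOf A) =
        (H i.castSucc).relIndex (H i.succ ⊓ A) := by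
      rw [← Subgroup.inf_subgroupOf_right (H i.succ) A,
        Subgroup.relIndex_subgroupOf inf_le_right]
    have e2 : (H i.castSucc).relIndex (H i.succ ⊓ A) ∣ (H i.castSucc).relIndex (H i.succ) :=
      relIndex_dvd_relIndex_of_normal _ _ _ inf_le_left
    show (∃ m : ℕ, ((H i.castSucc).subgroupOf A).relIndex ((H i.succ).subgroupOf A) = p ^ m) ∨
      (((H i.castSucc).subgroupOf A).relIndex ((H i.succ).subgroupOf A)).Coprime p
    rw [e1]
    rcases hfac i with ⟨m, hm⟩ | hc
    · left
      rw [hm] at e2
      obtain ⟨m', _, hm'⟩ := (Nat.dvd_prime_pow hp).mp e2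
      exact ⟨m', hm'⟩
    · right
      exact Nat.Coprime.coprime_dvd_left e2 hc

lemma card_quotient_lt_of_ne_bot {G : Type*} [Group G] [Finite G] (N : Subgroup G) [N.Normal]
    (hN : N ≠ ⊥) : Nat.card (G ⧸ N) < Nat.card G := by
  have h1 := Subgroup.card_eq_card_quotient_mul_card_subgroup N
  have h2 : 1 < Nat.card N := (Subgroup.one_lt_card_iff_ne_bot N).mpr hN
  have h3 : 0 < Nat.card (G ⧸ N) := Nat.card_pos
  rw [h1]
  nlinarith

lemma card_subgroup_lt_of_ne_top {G : Type*} [Group G] [Finite G] (A : Subgroup G)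
    (hA : A ≠ ⊤) : Nat.card A < Nat.card G :=
  lt_of_le_of_ne (Subgroup.card_le_card_group A) (fun h => hA ((Subgroup.card_eq_iff_eq_top A).mp h))

lemma exists_orderOf_eq_of_mem_sylow {G : Type*} [Group G] {q : ℕ} [Fact q.Prime] (Q : Sylow q G)
    {a : G} (ha : a ∈ (Q : Subgroup G)) : ∃ k : ℕ, orderOf a = q ^ k := by
  obtain ⟨k', hk'⟩ := (IsPGroup.iff_orderOf.mp Q.isPGroup') ⟨a, ha⟩
  exact ⟨k', by rw [← hk', Subgroup.orderOf_mk]⟩

/-- **Main induction** (the `q`-solvable case). In a finite `q`-solvable group in which no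
`q`-element has class size divisible by `p`, the number of Sylow `q`-subgroups is prime to `p`. -/
theorem not_dvd_card_sylow_of_classHyp (p q : ℕ) [Fact p.Prime] [Fact q.Prime] (hpq : p ≠ q) :
    ∀ (n : ℕ) (G : Type u) [Group G] [Finite G], Nat.card G = n → IsPSolvable q G →
      ClassHyp p q G → ¬ p ∣ Nat.card (Sylow q G) := by
  have hp : p.Prime := Fact.out
  have hq : q.Prime := Fact.out
  intro n
  induction n using Nat.strong_induction_on with
  | _ n ih =>
  intro G _ _ hn hsolv hH
  obtain ⟨Q⟩ : Nonempty (Sylow q G) := inferInstance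
  by_cases htriv : (⊥ : Subgroup G) = ⊤
  · -- trivial group
    intro hd
    have h1 : Nat.card (Sylow q G) ∣ Nat.card G :=
      (Sylow.card_dvd_index Q).trans (Subgroup.index_dvd_card _)
    have h2 : Nat.card G = 1 := by
      rw [← Subgroup.card_top (G := G), ← htriv, Subgroup.card_bot]
    rw [h2] at h1
    exact hp.one_lt.ne' (Nat.dvd_one.mp (hd.trans h1))
  obtain ⟨L, hLn, hBL, -, hL⟩ := IsPSolvable.exists_step hsolv ⊥ ⊤ (lt_of_le_of_ne bot_le htriv)
  rw [Subgroup.relIndex_bot_left] at hL
  have hLbot : L ≠ ⊥ := hBL.ne'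
  have hquot : ∀ (N : Subgroup G) [N.Normal], N ≠ ⊥ → ¬ p ∣ Nat.card (Sylow q (G ⧸ N)) := by
    intro N _ hN
    exact ih (Nat.card (G ⧸ N)) (hn ▸ card_quotient_lt_of_ne_bot N hN) (G ⧸ N) rfl
      (IsPSolvable.quotient hsolv N) (ClassHyp.of_surjective (QuotientGroup.mk' N) (QuotientGroup.mk'_surjective N) hH)
  rcases hL with ⟨m, hm⟩ | hcop
  · -- Case A: `L` is a normal `q`-subgroup
    have hLq : IsPGroup q L := IsPGroup.of_card hm
    have hLQ : L ≤ (Q : Subgroup G) := hLq.le_sylow_of_normal Q
    have h1 := not_dvd_index_normalizer_sup p q L (hquot L hLbot) Q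
    rw [sup_eq_left.mpr hLQ] at h1
    rw [Sylow.card_eq_index_normalizer Q]
    exact h1
  · -- Case B: `K = L` is a normal `q'`-subgroup
    set K := L with hK
    have hqK : ¬ q ∣ Nat.card K := fun h =>
      hq.one_lt.ne' (Nat.dvd_one.mp (by
        have := Nat.dvd_gcd h (dvd_refl q)
        rwa [Nat.Coprime.gcd_eq_one hcop] at this))
    obtain ⟨S, hS⟩ := exists_invariant_sylow K p q hqK (Q : Subgroup G) Q.isPGroup'
    set S' : Subgroup G := (S : Subgroup K).map K.subtype with hS'
    have hQN : (Q : Subgroup G) ≤ Subgroup.normalizer (S' : Set G) := fun a ha =>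
      (mem_normalizer_map_subtype_iff K p a S).mpr (hS a ha)
    -- `Q` centralizes `S'`
    have hQC : S' ≤ Subgroup.centralizer ((Q : Subgroup G) : Set G) := by
      intro s hs
      rw [Subgroup.mem_centralizer_iff]
      intro a ha
      obtain ⟨T', hT'c, -, hST'⟩ := exists_sylow_le_centralizer_inf_normalizer K p q hqK S a
        (exists_orderOf_eq_of_mem_sylow Q ha) (hQN ha) (hH a (exists_orderOf_eq_of_mem_sylow Q ha))
      exact Subgroup.mem_centralizer_iff.mp (hT'c (hST' hs)) a (Set.mem_singleton a)
    -- the normalizer of `S'` has index prime to `p` and `q`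
    have hpG₁ : ¬ p ∣ (Subgroup.normalizer (S' : Set G)).index := by
      have h1 : ∃ k : ℕ, orderOf (1 : G) = q ^ k := ⟨0, by simp⟩
      obtain ⟨T', -, hT'n, -⟩ := exists_sylow_le_centralizer_inf_normalizer K p q hqK S 1
        h1 (Subgroup.one_mem _) (hH 1 h1)
      exact not_dvd_index_of_sylow_le p T' _ hT'n
    have hqG₁ : ¬ q ∣ (Subgroup.normalizer (S' : Set G)).index :=
      not_dvd_index_of_sylow_le q Q _ hQN
    by_cases hS'bot : S' = ⊥
    · -- Case B2b: `K` is a `p'`-group
      have hSbot : (S : Subgroup K) = ⊥ := by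
        rw [hS', Subgroup.map_eq_bot_iff_of_injective _ K.subtype_injective] at hS'bot
        exact hS'bot
      have hpK : (Nat.card K).Coprime p := by
        have h1 := Sylow.card_eq_multiplicity S
        rw [hSbot, Subgroup.card_bot] at h1
        have h2 : (Nat.card K).factorization p = 0 := by
          by_contra h0
          have : 1 < p ^ (Nat.card K).factorization p :=
            Nat.one_lt_pow h0 hp.one_lt
          omega
        have h3 : ¬ p ∣ Nat.card K := by
          intro hd
          have := (hp.factorization_pos_of_dvd Nat.card_pos.ne' hd)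
          omega
        exact ((Nat.Prime.coprime_iff_not_dvd hp).mpr h3).symm
      have h1 := not_dvd_index_normalizer_sup p q K (hquot K hLbot) Q
      set X := Subgroup.normalizer ((((Q : Subgroup G) ⊔ K : Subgroup G)) : Set G) with hX
      have hQX : (Q : Subgroup G) ≤ X := le_sup_left.trans Subgroup.le_normalizer
      have hqX : ¬ q ∣ X.index := not_dvd_index_of_sylow_le q Q _ hQX
      have hnorm : (((Q : Subgroup G) ⊔ K).subgroupOf X).Normal := Subgroup.normal_in_normalizer
      have hcardQ : (Nat.card (Q : Subgroup G)).Coprime p := by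
        obtain ⟨k, hk⟩ := IsPGroup.iff_card.mp Q.isPGroup'
        rw [hk]
        exact Nat.Coprime.pow_left k ((Nat.coprime_primes hq hp).mpr (Ne.symm hpq))
      have hcop2 : (Nat.card (((Q : Subgroup G) ⊔ K).subgroupOf X)).Coprime p := by
        rw [Nat.card_congr (Subgroup.subgroupOfEquivOfLe
          (Subgroup.le_normalizer (H := (Q : Subgroup G) ⊔ K))).toEquiv]
        exact Helper55.card_sup_coprime (Q : Subgroup G) K hcardQ hpK
      have hgoodX : ¬ p ∣ Nat.card (Sylow q X) :=
        not_dvd_card_sylow_of_le_normal p q (((Q : Subgroup G) ⊔ K).subgroupOf X) hcop2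
          (Q.subtype hQX) (by
            rw [Sylow.coe_subtype]
            exact Subgroup.comap_mono le_sup_left)
      exact not_dvd_card_sylow_of_subgroup p q X h1 hqX hgoodX
    · by_cases hG₁ : Subgroup.normalizer (S' : Set G) = ⊤
      · -- Case B2a: `S'` is a nontrivial normal `p`-subgroup centralized by `Q`
        have hS'n : S'.Normal := Subgroup.normalizer_eq_top_iff.mp hG₁
        have h1 := not_dvd_index_normalizer_sup p q S' (hquot S' hS'bot) Q
        have h2 := normalizer_sup_le_normalizer q Q S' hQC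
        rw [Sylow.card_eq_index_normalizer Q]
        intro hd
        exact h1 (hd.trans (Subgroup.index_dvd_of_le h2))
      · -- Case B1: pass to the proper subgroup `N_G(S')`
        set G₁ := Subgroup.normalizer (S' : Set G) with hG₁def
        have hlt : Nat.card G₁ < n := hn ▸ card_subgroup_lt_of_ne_top G₁ hG₁
        have hH₁ : ClassHyp p q G₁ := by
          intro y₁ hy₁
          obtain ⟨k, hk⟩ := hy₁
          have hy : ∃ k : ℕ, orderOf (y₁ : G) = q ^ k := ⟨k, by rw [Subgroup.orderOf_coe, hk]⟩
          obtain ⟨T', hT'c, hT'n, -⟩ := exists_sylow_le_centralizer_inf_normalizer K p q hqK S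
            (y₁ : G) hy y₁.2 (hH _ hy)
          have hle : (T' : Subgroup G).subgroupOf G₁ ≤ Subgroup.centralizer ({y₁} : Set G₁) := by
            intro x hx
            rw [Subgroup.mem_centralizer_iff]
            intro z hz
            rw [Set.mem_singleton_iff] at hz
            subst hz
            apply Subtype.ext
            have := Subgroup.mem_centralizer_iff.mp (hT'c (Subgroup.mem_subgroupOf.mp hx)) (z : G)
              (Set.mem_singleton _)
            simpa using this
          intro hd
          have h1 : p ∣ ((T' : Subgroup G).subgroupOf G₁).index :=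
            hd.trans (Subgroup.index_dvd_of_le hle)
          have h2 : ((T' : Subgroup G).subgroupOf G₁).index ∣ (T' : Subgroup G).index :=
            Subgroup.relIndex_dvd_index_of_le hT'n
          exact T'.not_dvd_index (h1.trans h2)
        have hgood₁ := ih (Nat.card G₁) hlt G₁ rfl (IsPSolvable.subgroup hsolv G₁) hH₁
        exact not_dvd_card_sylow_of_subgroup p q G₁ hpG₁ hqG₁ hgood₁

end Cfsg.Agent.Helper76
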