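import Mathlib
import Cfsg.Prelude.Def_Local
import Cfsg.Agent.Lib.Helper1.Solv
import Cfsg.Agent.Lib.Helper76.ClassSize

set_option autoImplicit false
set_option linter.unusedSectionVars false

namespace Cfsg.Agent.Helper76

open Cfsg

universe u

/-- **Extension step.** If `N` is a normal `p`-subgroup or `p'`-subgroup of `G` and `G ⧸ N` is
`p`-solvable, then `G` is `p`-solvable. -/
lemma IsPSolvable.of_quotient {G : Type*} [Group G] {p : ℕ} (N : Subgroup G) [N.Normal]
    (hN : (∃ m : ℕ, Nat.card N = p ^ m) ∨ (Nat.card N).Coprime p)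
    (hQ : IsPSolvable p (G ⧸ N)) : IsPSolvable p G := by
  obtain ⟨n, H, h0, hlast, hmono, hnorm, hfac⟩ := hQ
  have hsurj : Function.Surjective (QuotientGroup.mk' N) := QuotientGroup.mk'_surjective N
  refine ⟨n + 1, Fin.cons ⊥ (fun i => (H i).comap (QuotientGroup.mk' N)), ?_, ?_, ?_, ?_, ?_⟩
  · rfl
  · have : Fin.last (n + 1) = (Fin.last n).succ := rfl
    rw [this, Fin.cons_succ, hlast, Subgroup.comap_top]
  · intro i j hij
    induction i using Fin.cases with
    | zero => rw [Fin.cons_zero]; exact bot_le
    | succ i =>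
      induction j using Fin.cases with
      | zero => exact absurd hij (by simp)
      | succ j =>
        rw [Fin.cons_succ, Fin.cons_succ]
        exact Subgroup.comap_mono (hmono (Fin.succ_le_succ_iff.mp hij))
  · intro i
    induction i using Fin.cases with
    | zero => rw [Fin.cons_zero]; infer_instance
    | succ i =>
      rw [Fin.cons_succ]
      have := hnorm i
      infer_instance
  · intro i
    induction i using Fin.cases with
    | zero =>
      have e1 : (Fin.cons ⊥ (fun i => (H i).comap (QuotientGroup.mk' N)) :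
          Fin (n + 1 + 1) → Subgroup G) (Fin.castSucc (0 : Fin (n + 1))) = ⊥ := rfl
      have e2 : (Fin.cons ⊥ (fun i => (H i).comap (QuotientGroup.mk' N)) :
          Fin (n + 1 + 1) → Subgroup G) (Fin.succ (0 : Fin (n + 1))) = N := by
        rw [Fin.cons_succ, h0, MonoidHom.comap_bot, QuotientGroup.ker_mk']
      rw [e1, e2, Subgroup.relIndex_bot_left]
      exact hN
    | succ i =>
      have e1 : (Fin.cons ⊥ (fun i => (H i).comap (QuotientGroup.mk' N)) :
          Fin (n + 1 + 1) → Subgroup G) (Fin.castSucc (Fin.succ i)) =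
          (H i.castSucc).comap (QuotientGroup.mk' N) := by
        rw [← Fin.succ_castSucc, Fin.cons_succ]
      have e2 : (Fin.cons ⊥ (fun i => (H i).comap (QuotientGroup.mk' N)) :
          Fin (n + 1 + 1) → Subgroup G) (Fin.succ (Fin.succ i)) =
          (H i.succ).comap (QuotientGroup.mk' N) := by
        rw [Fin.cons_succ]
      rw [e1, e2, Subgroup.relIndex_comap,
        Subgroup.map_comap_eq_self_of_surjective hsurj]
      exact hfac i

/-- Finite solvable groups are `p`-solvable for every prime `p`. -/
theorem isPSolvable_of_isSolvable (p : ℕ) [Fact p.Prime] :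
    ∀ (n : ℕ) (G : Type u) [Group G] [Finite G] [Group.IsSolvable G], Nat.card G = n →
      IsPSolvable p G := by
  have hp : p.Prime := Fact.out
  intro n
  induction n using Nat.strong_induction_on with
  | _ n ih =>
  intro G _ _ _ hn
  by_cases hnt : Nontrivial G
  · obtain ⟨q, hq, A, hAn, hAbot, -, hAq⟩ := Helper1.exists_normal_elementary_of_solvable G
    have hApg : IsPGroup q A := Helper1.isPGroup_of_forall_pow_eq_one A hAq
    have : Fact q.Prime := ⟨hq⟩
    obtain ⟨k, hk⟩ := IsPGroup.iff_card.mp hApg
    have hQ : IsPSolvable p (G ⧸ A) :=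
      ih (Nat.card (G ⧸ A)) (hn ▸ card_quotient_lt_of_ne_bot A hAbot) (G ⧸ A) rfl
    refine IsPSolvable.of_quotient A ?_ hQ
    by_cases hqp : q = p
    · left; exact ⟨k, by rw [hk, hqp]⟩
    · right
      rw [hk]
      exact Nat.Coprime.pow_left k ((Nat.coprime_primes hq hp).mpr hqp)
  · rw [not_nontrivial_iff_subsingleton] at hnt
    refine ⟨0, fun _ => ⊥, rfl, ?_, fun _ _ _ => le_rfl, fun _ => inferInstance, fun i => i.elim0⟩
    exact (Subsingleton.elim _ _)

theorem isPSolvable_of_isSolvable' {G : Type*} [Group G] [Finite G] [Group.IsSolvable G] (p : ℕ)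
    [Fact p.Prime] : IsPSolvable p G :=
  isPSolvable_of_isSolvable p _ G rfl

end Cfsg.Agent.Helper76
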