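import Mathlib
import Cfsg.Agent.Lib.Helper93.RU0
import Cfsg.Agent.Lib.Helper34.RUB3
import Cfsg.Agent.Lib.Helper87.RUPow
import Cfsg.Agent.Lib.Helper12.RW0

/-!
# RW server (helper12, S2279), pieces (G5) `mm_nat`, (G4) `mm_neg_one`, (G1) `gram`
-/

set_option autoImplicit false

namespace Cfsg.Agent.Helper76.RW

open Matrix Cfsg.Agent.Helper93.RU Cfsg.Agent.Helper12.RW

variable {F : Type*} [Field F] {m : ℕ}

/-- (G5) `(1+N)^d = Σ C(d,k) N^k` -/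
theorem mm_nat (d : ℕ) : mm m F (d : ℤ) = (Nat.choose d (m + 2) : F) := by
  unfold mm
  rw [zpow_natCast, Cfsg.Agent.Helper87.RUPow.uEl_pow_apply]
  have h0 : ((0 : Fin (m + 3)) : ℕ) = 0 := rfl
  have h1 : ((lastI m : Fin (m + 3)) : ℕ) = m + 2 := rfl
  rw [h0, h1, if_pos (Nat.zero_le _), Nat.sub_zero]

/-- (G4) `u⁻¹ = Σ_{k < m+3} (-N)^k` -/
theorem mm_neg_one : mm m F (-1) = (-1) ^ m := by
  unfold mm
  have h := Cfsg.Agent.Helper87.RUPow.uEl_inv_pow_apply (F := F) (m := m) 1 0 (lastI m)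
  rw [pow_one] at h
  rw [_root_.zpow_neg_one, h]
  have h0 : ((0 : Fin (m + 3)) : ℕ) = 0 := rfl
  have h1 : ((lastI m : Fin (m + 3)) : ℕ) = m + 2 := rfl
  rw [h0, h1, if_pos (Nat.zero_le _), Nat.sub_zero]
  have h2 : 1 + (m + 2) - 1 = m + 2 := by omega
  rw [h2, Nat.choose_self, Nat.cast_one, mul_one, pow_add]
  norm_num

/-- (G1) -/
theorem gram (i j : ℤ) : Qv m F i ⬝ᵥ Pv m F j = mm m F (j - i) := by
  unfold Qv Pv mm
  rw [← Matrix.dotProduct_mulVec, Matrix.mulVec_mulVec, ← Matrix.SpecialLinearGroup.coe_mul,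
    ← _root_.zpow_add, neg_add_eq_sub]
  unfold eV
  rw [Matrix.mulVec_single_one, single_one_dotProduct]
  rfl

end Cfsg.Agent.Helper76.RW
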