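import Cfsg.Agent.Lib.Helper76.CD2Basic
import Cfsg.Agent.Lib.Helper81.CharCorr
import Cfsg.Agent.Lib.Helper81.CharDet
import Cfsg.Agent.Lib.Helper81.CharRam
import Cfsg.Agent.Lib.Helper81.CharSylInd
import Cfsg.Agent.Lib.Helper79.Linear

set_option autoImplicit false
set_option linter.style.haveILetI false
set_option linter.unusedSectionVars false

/-! Degrees of characters induced from the inertia group of a linear character that extends. -/

namespace Cfsg.Agent.Helper76.CD2

open Cfsg Cfsg.Agent.Helper81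

universe u

/-- the complex-valued function of a linear character -/
def linFun {M : Type*} [Group M] (lam : M →* ℂˣ) : M → ℂ := fun x => ((lam x : ℂˣ) : ℂ)

theorem linFun_apply {M : Type*} [Group M] (lam : M →* ℂˣ) (x : M) :
    linFun lam x = ((lam x : ℂˣ) : ℂ) := rfl

theorem isIrr_linFun {M : Type u} [Group M] (lam : M →* ℂˣ) : IsIrrCharacter M (linFun lam) :=
  (Cfsg.Agent.Helper79.linChar lam).2

section deg
variable {G : Type u} [Group G] [Fintype G]

/-- If the linear character `lam` of the normal subgroup `M` extends to its inertia group `T`,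
then for every irreducible `β` of `T` trivial on `M` the induced function of `lamT * β` is
irreducible of degree `|G : T| β(1)`. -/
theorem deg_induced (M T : Subgroup G) [Fintype M] [Fintype T] (hM : M.Normal) (hMT : M ≤ T)
    (lam : M →* ℂˣ)
    (hT : ∀ g : G, g ∈ T ↔ conjFun M hM (linFun lam) g = linFun lam)
    (lamT : T →* ℂˣ) (hext : ∀ x : M, lamT ⟨x, hMT x.2⟩ = lam x)
    {β : T → ℂ} (hβ : IsIrrCharacter T β) (hβM : ∀ x : M, β ⟨x, hMT x.2⟩ = β 1) :
    IsIrrCharacter G (indFun T (linFun lamT * β)) ∧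
      indFun T (linFun lamT * β) 1 = (T.index : ℂ) * β 1 := by
  classical
  let l : T →* ℂ := (Units.coeHom ℂ).comp lamT
  have hψ : IsIrrCharacter T (linFun lamT * β) := isIrrCharacter_hom_mul l hβ
  have hres : resTo hMT (linFun lamT * β) = (β 1) • linFun lam := by
    ext x
    simp only [resTo, Pi.mul_apply, Pi.smul_apply, smul_eq_mul, linFun_apply, hext, hβM]
    ring
  have hβ1 : β 1 ≠ 0 := by
    obtain ⟨n, hn, h1⟩ := irr_one_pos hβ
    rw [h1]; exact_mod_cast hn.ne'
  have hne : classInner (resTo hMT (linFun lamT * β)) (linFun lam) ≠ 0 := by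
    rw [hres, classInner_smul_left, irr_orthonormal (isIrr_linFun lam) (isIrr_linFun lam),
      if_pos rfl, mul_one]
    exact hβ1
  refine ⟨(clifford_corr_irr M T hM hMT (isIrr_linFun lam) hT hψ hne).1, ?_⟩
  rw [indFun_one]
  simp [linFun_apply]

/-- natural-number version -/
theorem exists_irr_deg (M T : Subgroup G) [Fintype M] [Fintype T] (hM : M.Normal) (hMT : M ≤ T)
    (lam : M →* ℂˣ)
    (hT : ∀ g : G, g ∈ T ↔ conjFun M hM (linFun lam) g = linFun lam)
    (lamT : T →* ℂˣ) (hext : ∀ x : M, lamT ⟨x, hMT x.2⟩ = lam x)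
    (β : IrrCharacter T) (hβM : ∀ x : M, (β : T → ℂ) ⟨x, hMT x.2⟩ = (β : T → ℂ) 1) :
    ∃ χ : IrrCharacter G, charDegree (χ : G → ℂ) = T.index * charDegree (β : T → ℂ) := by
  obtain ⟨h1, h2⟩ := deg_induced M T hM hMT lam hT lamT hext β.2 hβM
  refine ⟨⟨_, h1⟩, ?_⟩
  apply charDegree_eq_of_one
  change indFun T (linFun lamT * (β : T → ℂ)) 1 = _
  rw [h2, (Cfsg.Agent.Helper79.irr_one_eq β).1]
  push_cast; ring

end deg

end Cfsg.Agent.Helper76.CD2
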