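import Mathlib
import Cfsg.Agent.Lib.Helper5.OAut10
import Cfsg.Agent.Lib.Helper2.OrthRootGen

/-!
# (BR-G) for helper5 (S2694-96): two opposite point radicals generate `Ω(Q)`

Transport of `Helper2.OrthRootGen.rootGroup_sup_eq_top` along `C.hE : Ω = EK Q`.
-/

set_option autoImplicit false
set_option linter.unusedSectionVars false

namespace Cfsg.Agent.Helper76.OAutBR

open Matrix QuadraticMap Cfsg.Agent.Helper13 Cfsg.Agent.Helper43 Cfsg.Agent.Helper5.OAut

variable {F : Type*} [Field F] [Fintype F] {ι : Type} [Fintype ι] [DecidableEq ι]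
  {Q : QuadraticForm F (ι → F)}

/-- the inclusion `EK Q → Ω(Q)` given by the equality of the two subgroups -/
noncomputable def incl (C : Ctx Q) : ↥(EK Q) →* ↥(Cfsg.Omega F ⇑Q) :=
  Subgroup.inclusion (le_of_eq C.hE.symm)

theorem incl_surjective (C : Ctx Q) : Function.Surjective (incl C) := by
  intro x
  refine ⟨⟨(x : ↥(Cfsg.isometryGroup F ⇑Q)), C.hE ▸ x.2⟩, ?_⟩
  apply Subtype.ext
  rfl

theorem map_rootGroup_le (C : Ctx Q) {u : ι → F} (hu : Q u = 0) :
    (rootGroup Q u hu).map (incl C) ≤ Qrad Q u := by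
  rintro x ⟨g, hg, rfl⟩
  obtain ⟨w, hw, hgw⟩ := (mem_rootGroup Q u hu g).mp hg
  rw [mem_Qrad C hu]
  refine ⟨w, hw, ?_⟩
  apply Subtype.ext
  rw [E_coe C hu hw, ← hgw]
  rfl

/-- (BR-G) generation by two opposite point radicals. -/
theorem Qrad_sup_eq_top (C : Ctx Q) {u v : ι → F} (hu : Q u = 0) (hv : Q v = 0)
    (huv : polar (⇑Q) u v = 1) : Qrad Q u ⊔ Qrad Q v = ⊤ := by
  obtain ⟨k, e, f, hef, hk⟩ := C.hyp
  have key := Cfsg.Agent.Helper2.OrthRootGen.rootGroup_sup_eq_top Q C.hQ e f hef hk u v hu hv huv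
  rw [eq_top_iff]
  calc (⊤ : Subgroup ↥(Cfsg.Omega F ⇑Q)) = (⊤ : Subgroup ↥(EK Q)).map (incl C) := by
        rw [← MonoidHom.range_eq_map]
        exact (MonoidHom.range_eq_top.mpr (incl_surjective C)).symm
    _ = (rootGroup Q u hu ⊔ rootGroup Q v hv).map (incl C) := by rw [key]
    _ = (rootGroup Q u hu).map (incl C) ⊔ (rootGroup Q v hv).map (incl C) := Subgroup.map_sup _ _ _
    _ ≤ Qrad Q u ⊔ Qrad Q v := sup_le_sup (map_rootGroup_le C hu) (map_rootGroup_le C hv)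

end Cfsg.Agent.Helper76.OAutBR
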