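import Mathlib

/-!
# RUZ server (S3174): shared definitions

Setting: a finite 2-group `T`, subgroups `Z2 ≤ F ≤ W` of `T`, all normal in `T`, with `F` central in `W`,
`W / F` elementary abelian, `F` of exponent 2, `T` acting trivially on `F / Z2`, and `|F : Z2| = 2`
(encoded by `two`).  In S3174: `F = Fr W = Z_3(T)`, `Z2 = Z_2(T)`, `W = C_T(Z_3(T))`.

`Gens W F Z2 x y z`: explicit coset representatives of `T / W ≅ D_8 = UT_3(2)`:
`z` central mod `W`, `x, y` involutions mod `W` with `y x y⁻¹ ≡ x z`, and the three involutions `z, y, yz`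
have all their fixed points on `F` inside `Z2`.
-/

set_option autoImplicit false

namespace Cfsg.Agent.Helper76.RuZ

variable {T : Type*} [Group T]

/-- the basic configuration. -/
structure Cfg (W F Z2 : Subgroup T) : Prop where
  nW : W.Normal
  nF : F.Normal
  nZ : Z2.Normal
  FW : F ≤ W
  ZF : Z2 ≤ F
  cen : ∀ f ∈ F, ∀ a ∈ W, f * a = a * f
  comm : ∀ a ∈ W, ∀ b ∈ W, a * b * a⁻¹ * b⁻¹ ∈ F
  sq : ∀ a ∈ W, a * a ∈ F
  fsq : ∀ f ∈ F, f * f = 1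
  act : ∀ f ∈ F, ∀ t : T, t * f * t⁻¹ * f⁻¹ ∈ Z2
  two : ∀ f ∈ F, ∀ g ∈ F, f ∉ Z2 → g ∉ Z2 → f * g ∈ Z2

/-- explicit coset representatives of `T / W`. -/
structure Gens (W F Z2 : Subgroup T) (x y z : T) : Prop where
  cover : ∀ t : T, ∃ g : T, (g = 1 ∨ g = z ∨ g = x ∨ g = x * z ∨ g = y ∨ g = y * z ∨ g = y * x ∨
    g = y * x * z) ∧ g⁻¹ * t ∈ W
  zsq : z * z ∈ W
  xsq : x * x ∈ W
  ysq : y * y ∈ W
  xz : x * z * x⁻¹ * z⁻¹ ∈ W
  yz : y * z * y⁻¹ * z⁻¹ ∈ W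
  yx : y * x * y⁻¹ * (x * z)⁻¹ ∈ W
  zW : z ∉ W
  xW : x ∉ W
  xzW : x * z ∉ W
  fixz : ∀ f ∈ F, z * f = f * z → f ∈ Z2
  fixy : ∀ f ∈ F, y * f = f * y → f ∈ Z2
  fixyz : ∀ f ∈ F, (y * z) * f = f * (y * z) → f ∈ Z2

/-- the "norm" of `w`: the product of its 8 conjugates under `1, z, x, xz, y, yz, yx, yxz` (in this order). -/
def nrm (x y z w : T) : T :=
  (w * (z * w * z⁻¹) * (x * (w * (z * w * z⁻¹)) * x⁻¹)) *
    (y * (w * (z * w * z⁻¹) * (x * (w * (z * w * z⁻¹)) * x⁻¹)) * y⁻¹)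

/-- `d = w · w^z`, the image of `w` under `1 + z`. -/
def dz (z w : T) : T := w * (z * w * z⁻¹)

end Cfsg.Agent.Helper76.RuZ
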