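import Mathlib
import Cfsg.Agent.Lib.Helper74.Klein1
import Cfsg.Agent.Lib.Helper77.Inertial
import Cfsg.Agent.Lib.Helper77.AbelianDefect
import Cfsg.Agent.Lib.Helper77.PairConjugacy
import Cfsg.Agent.Lib.Helper77.LocalBlock
import Cfsg.Agent.Lib.Helper77.DefectInd

/-!
# Blocks induced from `C_G(P)` for an abelian `p`-subgroup `P`, with the centralizer given up to
equality (helper76)
-/

set_option autoImplicit false
set_option linter.unusedSectionVars false
set_option linter.style.haveILetI false

namespace Cfsg.Agent.Helper76.InBlock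

open Cfsg Cfsg.Agent.Helper77 Cfsg.Agent.Helper79

universe u

section abs

variable {A : Type u} [Group A] [Fintype A] {p : ℕ} [Fact p.Prime] {M : Ideal AlgInt}

/-- Existence of the induced block from the centralizer of an abelian `p`-subgroup. -/
theorem abs_exists (hM : IsPModular p M) (P' K' : Subgroup A)
    (hK' : K' = Subgroup.centralizer (P' : Set A)) (hP' : IsPGroup p P') (hab : P' ≤ K')
    {c' : Set (IrrCharacter K')} (hc' : IsPBlock M c') :
    ∃ f : Set (IrrCharacter A), IsInducedBlock M K' c' f := by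
  classical
  subst hK'
  haveI : Fintype (Subgroup.centralizer (P' : Set A)) := Fintype.ofFinite _
  obtain ⟨B, ⟨hB, hB1⟩, -⟩ := existsUnique_block_of_brauerPair hM P' hP' c' hc'
  exact ⟨B, Cfsg.Agent.Helper74.KL.isInducedBlock_of_isBrauerPairOf hM P' hab
    ⟨⟨hP', hc'⟩, hB, hB1⟩⟩

/-- Nilpotency of a block induced from the centralizer of an abelian `p`-subgroup. -/
theorem abs_pair (hM : IsPModular p M) (P' K' : Subgroup A)
    (hK' : K' = Subgroup.centralizer (P' : Set A)) (hP' : IsPGroup p P') (hab : P' ≤ K')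
    {c' : Set (IrrCharacter K')} {f : Set (IrrCharacter A)}
    (hind : IsInducedBlock M K' c' f) :
    (IsNilpotentBlock p M f → ∀ x : A, x ∈ Subgroup.normalizer (P' : Set A) →
        StabilizesBlock K' c' x → IsPRegular p x → x ∈ K') ∧
    ((∀ D : Subgroup A, IsDefectGroup p M f D → Nat.card D ≤ Nat.card P') →
      (∀ x : A, x ∈ Subgroup.normalizer (P' : Set A) → StabilizesBlock K' c' x → x ∈ K') →
      IsNilpotentBlock p M f) := by
  classical
  subst hK'
  haveI : Fintype (Subgroup.centralizer (P' : Set A)) := Fintype.ofFinite _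
  have hpair : IsBrauerPairOf p M f P' c' :=
    Cfsg.Agent.Helper74.KL.isBrauerPairOf_of_isInducedBlock hM P' hP' hab hind
  refine ⟨fun hnil x hx hst hreg => hnil.2 P' c' hpair x hx hst hreg, fun hcard hall => ?_⟩
  obtain ⟨R, g, hmax, hle⟩ := exists_maximal_above (p := p) (M := M) f _ P' c' hpair rfl
  have hRD := isDefectGroup_of_isMaximalBrauerPair hM hmax
  have h1 := hcard R hRD
  have h2 : P' ≤ R := le_of_reflTransGen hle
  have h3 := Subgroup.card_le_of_le h2
  have hmaxP := isMaximalBrauerPair_of_card_eq hM hmax hpair (le_antisymm h3 h1)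
  have habel : ∀ x ∈ P', ∀ y ∈ P', x * y = y * x := by
    intro x hx y hy
    have := (Subgroup.mem_centralizer_iff.mp (hab hy)) x hx
    exact this
  exact (isNilpotentBlock_iff_of_abelian hM hmaxP habel).mpr hall

end abs

end Cfsg.Agent.Helper76.InBlock
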