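import Mathlib
import Cfsg.Agent.Lib.Helper76.InBlock1

/-!
# Bridge between `IsInducedBlockIn` (induction inside a subgroup `C` of `G`) and `IsInducedBlock`
in the group `↥C` (helper76)
-/

set_option autoImplicit false
set_option linter.unusedSectionVars false
set_option linter.style.haveILetI false

namespace Cfsg.Agent.Helper76.InBlock

open Cfsg Cfsg.Agent.Helper77 Cfsg.Agent.Helper79

universe u

section grp

variable {G : Type u} [Group G]

theorem mem_normalizer_subgroupOf_iff (N C : Subgroup G) (hNC : N ≤ C) (h : C) :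
    h ∈ Subgroup.normalizer ((N.subgroupOf C : Subgroup C) : Set C) ↔
      (h : G) ∈ Subgroup.normalizer (N : Set G) := by
  rw [Subgroup.mem_normalizer_iff, Subgroup.mem_normalizer_iff]
  constructor
  · intro hh y
    constructor
    · intro hy
      have := (hh ⟨y, hNC hy⟩).mp (Subgroup.mem_subgroupOf.mpr hy)
      exact Subgroup.mem_subgroupOf.mp this
    · intro hy
      have hyC : y ∈ C := by
        have h1 : (h : G)⁻¹ * ((h : G) * y * (h : G)⁻¹) * (h : G) ∈ C :=
          C.mul_mem (C.mul_mem (C.inv_mem h.2) (hNC hy)) h.2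
        have h2 : (h : G)⁻¹ * ((h : G) * y * (h : G)⁻¹) * (h : G) = y := by group
        rwa [h2] at h1
      have := (hh ⟨y, hyC⟩).mpr (Subgroup.mem_subgroupOf.mpr hy)
      exact Subgroup.mem_subgroupOf.mp this
  · intro hh y
    rw [Subgroup.mem_subgroupOf, Subgroup.mem_subgroupOf]
    exact hh (y : G)

theorem centralizer_subgroupOf_eq (P C : Subgroup G) (hPC : P ≤ C) :
    (Subgroup.centralizer (P : Set G)).subgroupOf C =
      Subgroup.centralizer ((P.subgroupOf C : Subgroup C) : Set C) := by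
  ext y
  rw [Subgroup.mem_subgroupOf, Subgroup.mem_centralizer_iff, Subgroup.mem_centralizer_iff]
  constructor
  · intro hy h hh
    apply Subtype.ext
    exact hy (h : G) (Subgroup.mem_subgroupOf.mp hh)
  · intro hy h hh
    have := hy ⟨h, hPC hh⟩ (Subgroup.mem_subgroupOf.mpr hh)
    exact congrArg Subtype.val this

end grp

section bridge

variable {G : Type u} [Group G] {M : Ideal AlgInt}

theorem mapIrr_down_apply (C K : Subgroup G) (hKC : K ≤ C) (ξ : IrrCharacter K)
    (k' : K.subgroupOf C) :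
    (mapIrr (Subgroup.subgroupOfEquivOfLe hKC).symm ξ : K.subgroupOf C → ℂ) k' =
      (ξ : K → ℂ) (Subgroup.subgroupOfEquivOfLe hKC k') := by
  rw [mapIrr_coe]
  rfl

theorem induced_eq (C K : Subgroup G) (hKC : K ≤ C) (ξ : IrrCharacter K) (h : C) :
    inducedCentralChar (K.subgroupOf C)
        (mapIrr (Subgroup.subgroupOfEquivOfLe hKC).symm ξ : K.subgroupOf C → ℂ) h =
      inducedCentralCharIn C K (ξ : K → ℂ) (h : G) := by
  unfold inducedCentralChar inducedCentralCharIn
  refine finsum_mem_eq_of_bijOn (Subgroup.subgroupOfEquivOfLe hKC) ⟨?_, ?_, ?_⟩ ?_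
  · intro k' hk'
    obtain ⟨x, hx⟩ := isConj_iff.mp hk'
    refine ⟨x⁻¹, ?_⟩
    have h1 : ((Subgroup.subgroupOfEquivOfLe hKC k' : K) : G) = (x : G) * (h : G) * (x : G)⁻¹ := by
      have := congrArg Subtype.val hx
      simpa using this.symm
    rw [h1]
    simp only [Subgroup.coe_inv]
    group
  · exact (Subgroup.subgroupOfEquivOfLe hKC).injective.injOn
  · intro k hk
    obtain ⟨x, hx⟩ := hk
    refine ⟨(Subgroup.subgroupOfEquivOfLe hKC).symm k, ?_, by simp⟩
    show IsConj h (((Subgroup.subgroupOfEquivOfLe hKC).symm k : K.subgroupOf C) : C)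
    rw [isConj_iff]
    refine ⟨x⁻¹, ?_⟩
    apply Subtype.ext
    have h2 : ((((Subgroup.subgroupOfEquivOfLe hKC).symm k : K.subgroupOf C) : C) : G) =
        (k : G) := rfl
    simp only [Subgroup.coe_mul, Subgroup.coe_inv, h2, ← hx]
    group
  · intro k' _
    rw [mapIrr_down_apply, mapIrr_down_apply, map_one]

theorem inducedBlockIn_iff (C K : Subgroup G) (hKC : K ≤ C) (c : Set (IrrCharacter K))
    (f : Set (IrrCharacter C)) :
    IsInducedBlockIn M C K c f ↔ IsInducedBlock M (K.subgroupOf C) (downSet C K hKC c) f := by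
  constructor
  · rintro ⟨h1, h2, h3⟩
    refine ⟨isPBlock_downSet C K hKC h1, h2, ?_⟩
    rintro _ ⟨ξ, hξ, rfl⟩ χ hχ h
    rw [induced_eq]
    exact h3 ξ hξ χ hχ h
  · rintro ⟨h1, h2, h3⟩
    refine ⟨?_, h2, ?_⟩
    · have := isPBlock_mapSet (Subgroup.subgroupOfEquivOfLe hKC) h1
      rwa [mapSet_downSet] at this
    · intro ξ hξ χ hχ h
      rw [← induced_eq C K hKC]
      exact h3 _ ⟨ξ, hξ, rfl⟩ χ hχ h

theorem stabilizesBlock_of_downSet (C K : Subgroup G) (hKC : K ≤ C) {c : Set (IrrCharacter K)}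
    (h : C) (hst : StabilizesBlock (K.subgroupOf C) (downSet C K hKC c) h) :
    StabilizesBlock K c (h : G) := by
  obtain ⟨h1, h2⟩ := hst
  refine ⟨(mem_normalizer_subgroupOf_iff K C hKC h).mp h1, ?_⟩
  intro χ hχ
  obtain ⟨χ₂', ⟨χ₂, hχ₂, rfl⟩, hconj⟩ :=
    h2 (mapIrr (Subgroup.subgroupOfEquivOfLe hKC).symm χ) ⟨χ, hχ, rfl⟩
  refine ⟨χ₂, hχ₂, ?_⟩
  intro k k' hkk'
  have := hconj ((Subgroup.subgroupOfEquivOfLe hKC).symm k)
    ((Subgroup.subgroupOfEquivOfLe hKC).symm k') (by
      apply Subtype.ext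
      exact hkk')
  rw [mapIrr_down_apply, mapIrr_down_apply] at this
  simpa using this

end bridge

section trans

variable {G : Type u} [Group G] [Fintype G] {M : Ideal AlgInt}

theorem omega_down (C K : Subgroup G) (hKC : K ≤ C) [Fintype K] [Fintype (K.subgroupOf C)]
    (ξ : IrrCharacter K) (z : G → ℂ) :
    omega (mapIrr (Subgroup.subgroupOfEquivOfLe hKC).symm ξ : K.subgroupOf C → ℂ)
        (restr (K.subgroupOf C) (restr C z)) =
      omega (ξ : K → ℂ) (restr K z) := by
  unfold omega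
  rw [mapIrr_down_apply, map_one]
  congr 1
  refine Fintype.sum_equiv (Subgroup.subgroupOfEquivOfLe hKC).toEquiv _ _ ?_
  intro k'
  rw [mapIrr_down_apply]
  rfl

theorem induced_trans [hpr : M.IsPrime] (C K : Subgroup G) (hKC : K ≤ C)
    {c : Set (IrrCharacter K)} {f : Set (IrrCharacter C)} {B : Set (IrrCharacter G)}
    (h1 : IsInducedBlock M (K.subgroupOf C) (downSet C K hKC c) f)
    (h2 : IsInducedBlock M K c B) : IsInducedBlock M C f B := by
  classical
  haveI : Fintype C := Fintype.ofFinite _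
  haveI : Fintype K := Fintype.ofFinite _
  haveI : Fintype (K.subgroupOf C) := Fintype.ofFinite _
  refine ⟨h1.2.1, h2.2.1, fun χ hχ ψ hψ g => ?_⟩
  obtain ⟨ξ, hξ⟩ := nonempty_of_isPBlock h2.1
  rw [inducedCentralChar_eq_omega, ← omega_classInd_of_irr ψ.2]
  have e1 := omega_restr_congr_of_isInducedBlock (K.subgroupOf C) h1
    (ξ := mapIrr (Subgroup.subgroupOfEquivOfLe hKC).symm ξ) ⟨ξ, hξ, rfl⟩ hχ
    (z := restr C (classInd g))
    (isClassFunction_restr C (fun u _ x => isClassFunction_classInd g x u))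
    (isRValued_restr C (isRValued_classInd g))
  have e2 := omega_restr_congr_of_isInducedBlock K h2 hξ hψ (isClassFunction_classInd g)
    (isRValued_classInd g)
  rw [omega_down] at e1
  have := memLocalIdeal_sub e2 e1
  convert this using 1
  ring

end trans

end Cfsg.Agent.Helper76.InBlock
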