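import Mathlib
import Cfsg.Agent.Lib.Helper76.InBlock2
import Cfsg.Agent.Lib.Helper77.CentralDom

/-!
# Maximal Brauer pairs on a given defect group; Brauer pairs and induction from centralizers
of arbitrary `p`-subgroups (helper76)
-/

set_option autoImplicit false
set_option linter.unusedSectionVars false
set_option linter.style.haveILetI false

namespace Cfsg.Agent.Helper76.InBlock

open Cfsg Cfsg.Agent.Helper77 Cfsg.Agent.Helper79

universe u

section lemA

variable {A : Type u} [Group A] [Fintype A] {p : ℕ} [Fact p.Prime] {M : Ideal AlgInt}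

/-- The Brauer map at a defect group does not kill the block idempotent: there is a Brauer pair
of the block on any of its defect groups. -/
theorem exists_pair_on_defect (hM : IsPModular p M) {b : Set (IrrCharacter A)}
    (hb : IsPBlock M b) {D : Subgroup A} (hD : IsDefectGroup p M b D) :
    ∃ β : Set (IrrCharacter (Subgroup.centralizer (D : Set A))), IsBrauerPairOf p M b D β := by
  classical
  haveI hpr := isPrime_of_isPModular hM
  haveI : Fintype (Subgroup.centralizer (D : Set A)) := Fintype.ofFinite _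
  have hDp : IsPGroup p D := isPGroup_of_isDefectGroup hD
  obtain ⟨g, hg, S, hS⟩ := hD
  have hgC : g ∈ Subgroup.centralizer (D : Set A) := by
    rw [← le_centralizer_singleton_iff, hS]
    exact sylow_map_le_centralizer g S
  obtain ⟨ε, hεdef⟩ : ∃ ε : Subgroup.centralizer (D : Set A) → ℂ,
      ε = fun x : Subgroup.centralizer (D : Set A) => blockCoeff b x := ⟨_, rfl⟩
  have hεapp : ∀ x : Subgroup.centralizer (D : Set A), ε x = blockCoeff b x := fun x => by
    rw [hεdef]
  have hεcl : IsClassFunction (Subgroup.centralizer (D : Set A)) ε := by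
    rw [hεdef]
    exact isClassFunction_restrict _ (isClassFunction_blockCoeff b)
  have hεR : IsRValued M ε := fun x => by
    rw [hεapp]
    exact isRValued_blockCoeff hb x
  have hidem : EqMod M (conv ε ε) ε := by
    obtain ⟨r, hr, hconv⟩ := exists_conv_restrict hM D hDp (blockCoeff b) (blockCoeff b)
      (isRValued_blockCoeff hb) (isRValued_blockCoeff hb)
      (fun u _ x => isClassFunction_blockCoeff b x u)
      (fun u _ x => isClassFunction_blockCoeff b x u)
    intro c
    have h1 := hconv c
    rw [conv_blockCoeff_self, ← hεdef, ← hεapp] at h1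
    have h2 : conv ε ε c - ε c = -((p : ℂ) * r c) := by
      rw [h1]
      ring
    rw [h2]
    exact memLocalIdeal_neg (memLocalIdeal_mul_right (memLocalIdeal_natCast_self hM) (hr c))
  have hne : ¬ MemLocalIdeal M (ε ⟨g, hgC⟩) := by
    rw [hεapp]
    exact hg.2.1
  obtain ⟨ξ, hξ⟩ := exists_block_of_idem hεcl hεR hidem hne
  refine ⟨blockOf M (ξ : Subgroup.centralizer (D : Set A) → ℂ), ?_⟩
  have hbl : IsPBlock M (blockOf M (ξ : Subgroup.centralizer (D : Set A) → ℂ)) :=
    isPBlock_blockOf ξ
  refine ⟨⟨hDp, hbl⟩, hb, ?_⟩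
  intro ξ' hξ'
  rw [brauerOmega_eq_omega, ← hεdef]
  have h2 := memLocalIdeal_omega_sub ξ.2 ξ'.2 hξ' hεcl hεR
  have h3 := memLocalIdeal_sub hξ h2
  have h4 : omega (ξ : Subgroup.centralizer (D : Set A) → ℂ) ε - 1 -
      (omega (ξ : Subgroup.centralizer (D : Set A) → ℂ) ε -
        omega (ξ' : Subgroup.centralizer (D : Set A) → ℂ) ε) =
      omega (ξ' : Subgroup.centralizer (D : Set A) → ℂ) ε - 1 := by ring
  rw [h4] at h3
  exact h3

/-- On any defect group `D` of a block there is a maximal Brauer pair `(D, β)`, and `Z(D)` is a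
defect group of `β`. -/
theorem exists_maxpair_on_defect (hM : IsPModular p M) {b : Set (IrrCharacter A)}
    (hb : IsPBlock M b) {D : Subgroup A} (hD : IsDefectGroup p M b D) :
    ∃ β : Set (IrrCharacter (Subgroup.centralizer (D : Set A))),
      IsMaximalBrauerPair p M b D β ∧ IsDefectGroup p M β (zsub D) := by
  classical
  obtain ⟨β, hβ⟩ := exists_pair_on_defect hM hb hD
  obtain ⟨R, g, hmax, hle⟩ := exists_maximal_above (p := p) (M := M) b _ D β hβ rfl
  have hRD := isDefectGroup_of_isMaximalBrauerPair hM hmax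
  have hcard := card_eq_of_isDefectGroup hM hb hD hRD
  have hmaxD := isMaximalBrauerPair_of_card_eq hM hmax hβ hcard
  refine ⟨β, hmaxD, ?_⟩
  have hQe := hmaxD.1
  have he : IsPBlock M β := hQe.1.2
  obtain ⟨Δ, hΔ, hZΔ⟩ := exists_isDefectGroup_ge_centralizer hM hQe.1 (le_refl D) he
    Relation.ReflTransGen.refl
  obtain ⟨g₂, hn, hB2⟩ := exists_pair_above_defect hM hQe hΔ
  have heq := hmaxD.2 _ g₂ hB2 (Relation.ReflTransGen.single hn)
  have hΔle : Δ ≤ zsub D := by
    intro d hd
    rw [Subgroup.mem_subgroupOf]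
    have h1 : (d : A) ∈ D ⊔ Δ.map (Subgroup.centralizer (D : Set A)).subtype :=
      Subgroup.mem_sup_right (Subgroup.mem_map_of_mem _ hd)
    rwa [heq] at h1
  have hΔeq : Δ = zsub D := le_antisymm hΔle (by
    unfold zsub
    rw [← Subgroup.inf_subgroupOf_right]
    exact hZΔ)
  rw [← hΔeq]
  exact hΔ

/-- Brauer pair ⇒ induced block from the centralizer, for an arbitrary `p`-subgroup. -/
theorem isInducedBlock_of_isBrauerPairOf_gen (hM : IsPModular p M) (Q : Subgroup A)
    [Fintype (Subgroup.centralizer (Q : Set A))]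
    {B : Set (IrrCharacter A)} {e : Set (IrrCharacter (Subgroup.centralizer (Q : Set A)))}
    (hpair : IsBrauerPairOf p M B Q e) :
    IsInducedBlock M (Subgroup.centralizer (Q : Set A)) e B := by
  classical
  haveI := isPrime_of_isPModular hM
  obtain ⟨⟨hQ, hb⟩, hB, hom⟩ := hpair
  obtain ⟨ξ, hξ⟩ := nonempty_of_isPBlock hb
  have hw := isModHom_wOf_centralizer hM Q hQ ξ.2
  refine isInducedBlock_of_isModHom _ hb hξ hw hB ?_
  rw [wsum_wOf]
  have h := hom ξ hξ
  rw [brauerOmega_eq_omega] at h
  exact h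

/-- Induced block from the centralizer ⇒ Brauer pair, for an arbitrary `p`-subgroup. -/
theorem isBrauerPairOf_of_isInducedBlock_gen (hM : IsPModular p M) (Q : Subgroup A)
    [Fintype (Subgroup.centralizer (Q : Set A))] (hQ : IsPGroup p Q)
    {B : Set (IrrCharacter A)} {e : Set (IrrCharacter (Subgroup.centralizer (Q : Set A)))}
    (hind : IsInducedBlock M (Subgroup.centralizer (Q : Set A)) e B) :
    IsBrauerPairOf p M B Q e := by
  classical
  haveI := isPrime_of_isPModular hM
  refine ⟨⟨hQ, hind.1⟩, hind.2.1, fun ξ hξ => ?_⟩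
  rw [brauerOmega_eq_omega]
  obtain ⟨χ, hχ⟩ := nonempty_of_isPBlock hind.2.1
  have h := omega_restr_congr_of_isInducedBlock _ hind hξ hχ (isClassFunction_blockCoeff B)
    (isRValued_blockCoeff hind.2.1)
  rw [omega_blockCoeff, if_pos hχ] at h
  exact h

/-- The block of `C_A(D₀)` in a maximal pair on the defect group `D₀`, with the centralizer given
up to equality. -/
theorem abs_defect (hM : IsPModular p M) {b : Set (IrrCharacter A)} (hb : IsPBlock M b)
    {D₀ : Subgroup A} (hD₀ : IsDefectGroup p M b D₀) (K' : Subgroup A)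
    (hK' : K' = Subgroup.centralizer (D₀ : Set A)) :
    ∃ β : Set (IrrCharacter K'), IsPBlock M β ∧ IsInducedBlock M K' β b ∧
      ∀ Δ : Subgroup K', IsDefectGroup p M β Δ → Δ = D₀.subgroupOf K' := by
  classical
  subst hK'
  haveI : Fintype (Subgroup.centralizer (D₀ : Set A)) := Fintype.ofFinite _
  obtain ⟨β, hmax, hZ⟩ := exists_maxpair_on_defect hM hb hD₀
  have hβ : IsPBlock M β := hmax.1.1.2
  refine ⟨β, hβ, isInducedBlock_of_isBrauerPairOf_gen hM D₀ hmax.1, ?_⟩
  intro Δ hΔ
  have hle := normal_le_of_isDefectGroup hM hβ hΔ (zsub D₀) hmax.1.1.1.comap_subtype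
  have hcard := card_eq_of_isDefectGroup hM hβ hΔ hZ
  exact (Subgroup.eq_of_le_of_card_ge hle hcard.le).symm

end lemA

section trans2

variable {G : Type u} [Group G] [Fintype G] {M : Ideal AlgInt}

theorem induced_trans' [hpr : M.IsPrime] (C K : Subgroup G) (hKC : K ≤ C)
    {c : Set (IrrCharacter K)} {f : Set (IrrCharacter C)} {B : Set (IrrCharacter G)}
    (h1 : IsInducedBlock M (K.subgroupOf C) (downSet C K hKC c) f)
    (h3 : IsInducedBlock M C f B) : IsInducedBlock M K c B := by
  classical
  haveI : Fintype C := Fintype.ofFinite _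
  haveI : Fintype K := Fintype.ofFinite _
  haveI : Fintype (K.subgroupOf C) := Fintype.ofFinite _
  have hc : IsPBlock M c := by
    have := isPBlock_mapSet (Subgroup.subgroupOfEquivOfLe hKC) h1.1
    rwa [mapSet_downSet] at this
  refine ⟨hc, h3.2.1, fun ξ hξ ψ hψ g => ?_⟩
  obtain ⟨χ, hχ⟩ := nonempty_of_isPBlock h1.2.1
  rw [inducedCentralChar_eq_omega, ← omega_classInd_of_irr ψ.2]
  have e1 := omega_restr_congr_of_isInducedBlock (K.subgroupOf C) h1
    (ξ := mapIrr (Subgroup.subgroupOfEquivOfLe hKC).symm ξ) ⟨ξ, hξ, rfl⟩ hχ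
    (z := restr C (classInd g))
    (isClassFunction_restr C (fun u _ x => isClassFunction_classInd g x u))
    (isRValued_restr C (isRValued_classInd g))
  have e3 := omega_restr_congr_of_isInducedBlock C h3 hχ hψ (isClassFunction_classInd g)
    (isRValued_classInd g)
  rw [omega_down] at e1
  have := memLocalIdeal_add e1 e3
  convert this using 1
  ring

end trans2

end Cfsg.Agent.Helper76.InBlock
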