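import Mathlib
import Cfsg.Agent.Lib.Helper77.Nil

set_option autoImplicit false
set_option linter.unusedSectionVars false

namespace Cfsg.Agent.Helper76

open Cfsg MonoidAlgebra Cfsg.Agent.Helper77 Cfsg.Agent.Helper15

section nilB

variable {G : Type*} [Group G] [Fintype G]

theorem coeffFun_sub (a b : MonoidAlgebra ℤ G) :
    coeffFun (a - b) = coeffFun a - coeffFun b := by
  funext g
  unfold coeffFun
  simp

theorem coeffFun_intSmul_one (c : ℤ) :
    coeffFun (c • (1 : MonoidAlgebra ℤ G)) = (c : ℂ) • (delta : G → ℂ) := by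
  funext g
  have h1 := congrFun (coeffFun_one (G := G)) g
  unfold coeffFun at h1 ⊢
  simp only [Pi.smul_apply, smul_eq_mul]
  rw [← h1, MonoidAlgebra.coeff_smul_apply]
  simp

theorem coeffFun_pow (a : MonoidAlgebra ℤ G) (n : ℕ) :
    coeffFun (a ^ n) = convList (List.replicate n (coeffFun a)) := by
  induction n with
  | zero => simpa [convList] using coeffFun_one
  | succ n ih =>
    rw [pow_succ', coeffFun_mul, ih, List.replicate_succ, convList]

/-- If a central element `a` of the integral group ring has a power all of whose coefficients are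
divisible by `p`, then every central character maps it into the local ideal. -/
theorem memLocalIdeal_omega_of_pow_dvd {p : ℕ} [Fact p.Prime] {M : Ideal AlgInt}
    (hM : IsPModular p M) (a : MonoidAlgebra ℤ G) (ha : IsClassFunction G (coeffFun a))
    (n : ℕ) (hn : ∀ h : G, (p : ℤ) ∣ (a ^ n).coeff h)
    {χ : G → ℂ} (hχ : IsIrrCharacter G χ) : MemLocalIdeal M (omega χ (coeffFun a)) := by
  classical
  have := isPrime_of_isPModular hM
  have : Fintype (ConjClasses G) := Fintype.ofFinite _
  have hcl : ∀ b ∈ List.replicate n (coeffFun a), IsClassFunction G b := by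
    intro b hb
    rw [List.eq_of_mem_replicate hb]
    exact ha
  have hR : IsRValued M (coeffFun a) := fun g => by
    unfold coeffFun
    exact memLocalRing_intCast _
  have h1 : omega χ (convList (List.replicate n (coeffFun a))) = (omega χ (coeffFun a)) ^ n := by
    rw [omega_convList hχ _ hcl, List.map_replicate, List.prod_replicate]
  refine memLocalIdeal_of_pow (memLocalRing_omega hχ ha hR) n ?_
  rw [← h1, omega_eq_sum_conjClasses (isClassFunction_of_isIrrCharacter hχ)
    (isClassFunction_convList _ hcl)]
  refine memLocalIdeal_sum _ _ fun K _ => ?_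
  refine memLocalIdeal_mul_right ?_ (memLocalRing_centralChar hχ _)
  rw [← coeffFun_pow]
  obtain ⟨c, hc⟩ := hn (Quotient.out K)
  unfold coeffFun
  rw [hc]
  push_cast
  exact memLocalIdeal_mul_right (memLocalIdeal_natCast_self hM) (memLocalRing_intCast c)

/-- the class sum of `g` minus the class size -/
noncomputable def shiftedClassSumZ (g : G) : MonoidAlgebra ℤ G :=
  classSumZ g - ((Subgroup.centralizer ({g} : Set G)).index : ℤ) • (1 : MonoidAlgebra ℤ G)

theorem coeffFun_shiftedClassSumZ (g : G) :
    coeffFun (shiftedClassSumZ g) =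
      classInd g - (((Subgroup.centralizer ({g} : Set G)).index : ℤ) : ℂ) • (delta : G → ℂ) := by
  unfold shiftedClassSumZ
  rw [coeffFun_sub, coeffFun_classSumZ, coeffFun_intSmul_one]

theorem card_classFinset (g : G) :
    ((Set.toFinite (ConjClasses.carrier (ConjClasses.mk g))).toFinset).card =
      (Subgroup.centralizer ({g} : Set G)).index := by
  classical
  rw [← card_isConj_eq_index, Nat.card_eq_fintype_card, Fintype.card_subtype]
  congr 1
  ext x
  rw [Set.Finite.mem_toFinset, Finset.mem_filter, ConjClasses.mem_carrier_iff_mk_eq,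
    ConjClasses.mk_eq_mk_iff_isConj, isConj_comm]
  simp

theorem dvd_coeff_pow_shiftedClassSumZ (p : ℕ) [Fact p.Prime] (N : Subgroup G) [hN : N.Normal]
    (hNp : IsPGroup p N) (g : G) (hg : g ∈ N) :
    ∃ n : ℕ, ∀ h : G, (p : ℤ) ∣ (shiftedClassSumZ g ^ n).coeff h := by
  classical
  obtain ⟨n, hn⟩ := (IsPGroup.iff_card).mp hNp
  have hbot := augSpan_pow_eq_bot (ZMod p) p N n hn
  set α : MonoidAlgebra (ZMod p) G :=
    mapRingHom G (Int.castRingHom (ZMod p)) (shiftedClassSumZ g) with hα
  have hαeq : α = (∑ x ∈ (Set.toFinite (ConjClasses.carrier (ConjClasses.mk g))).toFinset,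
      single x (1 : ZMod p)) -
        (((Subgroup.centralizer ({g} : Set G)).index : ℕ) : MonoidAlgebra (ZMod p) G) := by
    rw [hα]
    unfold shiftedClassSumZ classSumZ
    rw [map_sub, map_sum, map_zsmul, map_one]
    congr 1
    · refine Finset.sum_congr rfl fun x _ => ?_
      simp
    · simp
  have hker : mapDomainAlgHom (ZMod p) (ZMod p) (QuotientGroup.mk' N) α = 0 := by
    rw [hαeq, map_sub, map_sum, map_natCast]
    have hx : ∀ x ∈ (Set.toFinite (ConjClasses.carrier (ConjClasses.mk g))).toFinset,
        mapDomainAlgHom (ZMod p) (ZMod p) (QuotientGroup.mk' N) (single x (1 : ZMod p)) = 1 := by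
      intro x hx
      rw [Set.Finite.mem_toFinset, ConjClasses.mem_carrier_iff_mk_eq,
        ConjClasses.mk_eq_mk_iff_isConj] at hx
      obtain ⟨c, hc⟩ := isConj_iff.mp hx
      have hxN : x ∈ N := by
        have := hN.conj_mem g hg c⁻¹
        have e : x = c⁻¹ * g * c⁻¹⁻¹ := by
          rw [← hc]; group
        rw [e]; exact this
      have h1 : ((QuotientGroup.mk' N) x) = 1 := by
        rw [QuotientGroup.mk'_apply]
        exact (QuotientGroup.eq_one_iff x).mpr hxN
      have h2 : mapDomainAlgHom (ZMod p) (ZMod p) (QuotientGroup.mk' N) (single x (1 : ZMod p)) =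
          single ((QuotientGroup.mk' N) x) (1 : ZMod p) := by simp
      rw [h2, h1, MonoidAlgebra.one_def]
    rw [Finset.sum_congr rfl hx, Finset.sum_const, card_classFinset]
    simp
  have hmem := ker_le_top_mul_augSpan (ZMod p) N α hker
  have hpow := pow_eq_zero_of_mem (ZMod p) N (p ^ n) hbot α hmem
  refine ⟨p ^ n, fun h => ?_⟩
  have h0 : mapRingHom G (Int.castRingHom (ZMod p)) (shiftedClassSumZ g ^ (p ^ n)) = 0 := by
    rw [map_pow]; exact hpow
  have h1 := congrArg (fun a : MonoidAlgebra (ZMod p) G => a.coeff h) h0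
  simp only [coe_mapRingHom, coeff_map, MonoidAlgebra.coeff_zero] at h1
  have h2 : ((Int.castRingHom (ZMod p)) ((shiftedClassSumZ g ^ (p ^ n)).coeff h)) = 0 := by
    simpa using h1
  exact (ZMod.intCast_zmod_eq_zero_iff_dvd _ p).mp h2

/-- **Elements of a normal `p`-subgroup**: if `g` lies in the normal `p`-subgroup `N`, then every
central character takes a value congruent to the class size on the class of `g`. -/
theorem memLocalIdeal_centralChar_sub_of_mem {p : ℕ} [Fact p.Prime] {M : Ideal AlgInt}
    (hM : IsPModular p M) (N : Subgroup G) [N.Normal]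
    (hNp : IsPGroup p N) (g : G) (hg : g ∈ N)
    {χ : G → ℂ} (hχ : IsIrrCharacter G χ) :
    MemLocalIdeal M (centralChar χ g - ((Subgroup.centralizer ({g} : Set G)).index : ℂ)) := by
  classical
  obtain ⟨n, hn⟩ := dvd_coeff_pow_shiftedClassSumZ p N hNp g hg
  have hcf : IsClassFunction G (coeffFun (shiftedClassSumZ g)) := by
    rw [coeffFun_shiftedClassSumZ]
    exact isClassFunction_sub (isClassFunction_classInd g)
      (isClassFunction_smul _ isClassFunction_delta)
  have h1 := memLocalIdeal_omega_of_pow_dvd hM (shiftedClassSumZ g) hcf n hn hχ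
  rw [coeffFun_shiftedClassSumZ, omega_sub, omega_smul, omega_classInd_of_irr hχ,
    omega_delta_of_irr hχ, mul_one] at h1
  simpa using h1

end nilB

end Cfsg.Agent.Helper76
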