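import Mathlib
import Cfsg.Agent.Lib.Helper95.NormCent

/-!
# Order 7920 (S2490, helper83's server): the cases `n_11 = 1` and `n_11 = 12`

Shared core `conn_core`: a subgroup `P` of order 11 whose normalizer has order 7920 or 660 forces
elements of orders 22, 33 and one of 55, 15, 10.
-/

set_option autoImplicit false

namespace Cfsg.Agent.Helper76.Ord7920

open Subgroup

/-- Order of a Sylow subgroup from a factorization of the group order. -/
private theorem sylow_card_eq' {G : Type*} [Group G] [Finite G] {p : ℕ} [hp : Fact p.Prime]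
    (P : Sylow p G) {k m : ℕ} (hG : Nat.card G = p ^ k * m) (hm : ¬ p ∣ m) :
    Nat.card P = p ^ k := by
  rw [Sylow.card_eq_multiplicity, hG]
  have hm0 : m ≠ 0 := fun h => hm (h ▸ dvd_zero p)
  rw [Nat.factorization_mul (pow_ne_zero _ hp.out.ne_zero) hm0]
  simp [hp.out.factorization_pow, Nat.factorization_eq_zero_of_not_dvd hm]

/-- an element `y` with `y ^ 5 = 1` normalizing a subgroup of order 3 or 9 centralizes it -/
theorem centralizes_of_pow_five {N : Type*} [Group N] [Finite N] (S : Subgroup N)
    (hS : Nat.card S = 3 ∨ Nat.card S = 9) (y : N) (hy : y ∈ normalizer (S : Set N))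
    (hy5 : y ^ 5 = 1) : ∀ s ∈ S, y * s = s * y := by
  classical
  set α : MulAut S := S.normalizerMonoidHom ⟨y, hy⟩ with hα
  have hα5 : α ^ 5 = 1 := by
    rw [hα, ← map_pow]
    have : (⟨y, hy⟩ : normalizer (S : Set N)) ^ 5 = 1 := by
      apply Subtype.ext
      simp [hy5]
    rw [this, map_one]
  -- the fixed subgroup
  let K : Subgroup S :=
    { carrier := {s | α s = s}
      mul_mem' := by
        intro a b ha hb
        simp only [Set.mem_ofPred_eq] at ha hb ⊢
        rw [map_mul, ha, hb]
      one_mem' := by simp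
      inv_mem' := by
        intro a ha
        simp only [Set.mem_ofPred_eq] at ha ⊢
        rw [map_inv, ha] }
  have hZ : IsPGroup 5 (zpowers α) := by
    have hfact : Fact (Nat.Prime 5) := ⟨by norm_num⟩
    apply IsPGroup.of_card (n := if orderOf α = 1 then 0 else 1)
    rw [Nat.card_zpowers]
    have hdvd : orderOf α ∣ 5 := orderOf_dvd_of_pow_eq_one hα5
    rcases (Nat.dvd_prime (by norm_num : Nat.Prime 5)).mp hdvd with h | h
    · simp [h]
    · simp [h]
  have hfact : Fact (Nat.Prime 5) := ⟨by norm_num⟩
  have hmod := hZ.card_modEq_card_fixedPoints (α := S)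
  have hfix : (MulAction.fixedPoints (zpowers α) S) = (K : Set S) := by
    ext s
    simp only [MulAction.mem_fixedPoints, SetLike.mem_coe]
    constructor
    · intro h
      have := h ⟨α, mem_zpowers α⟩
      exact this
    · intro hs g
      have hle : zpowers α ≤ MulAction.stabilizer (MulAut S) s := by
        rw [zpowers_le]
        exact hs
      exact hle g.2
  have hcardK : Nat.card (MulAction.fixedPoints (zpowers α) S) = Nat.card K := by
    rw [hfix]; rfl
  rw [hcardK] at hmod
  have hKdvd : Nat.card K ∣ Nat.card S := Subgroup.card_subgroup_dvd_card K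
  have hKtop : K = ⊤ := by
    apply Subgroup.eq_top_of_card_eq
    rcases hS with h3 | h9
    · rw [h3] at hmod hKdvd ⊢
      have hle : Nat.card K ≤ 3 := Nat.le_of_dvd (by norm_num) hKdvd
      have hpos : 0 < Nat.card K := Nat.card_pos
      unfold Nat.ModEq at hmod
      interval_cases h : Nat.card K <;> simp_all
    · rw [h9] at hmod hKdvd ⊢
      have hle : Nat.card K ≤ 9 := Nat.le_of_dvd (by norm_num) hKdvd
      have hpos : 0 < Nat.card K := Nat.card_pos
      unfold Nat.ModEq at hmod
      interval_cases h : Nat.card K <;> simp_all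
  intro s hs
  have hmem : (⟨s, hs⟩ : S) ∈ K := by rw [hKtop]; trivial
  have h1 : α ⟨s, hs⟩ = ⟨s, hs⟩ := hmem
  have h2 : ((α ⟨s, hs⟩ : S) : N) = y * s * y⁻¹ := rfl
  rw [h1] at h2
  simp only at h2
  calc y * s = (y * s * y⁻¹) * y := by group
    _ = s * y := by rw [← h2]

/-- Frattini + fixed points: `C` normal in `N`, `5 ∣ |N|`, `5 ∤ |C|`, Sylow 3-subgroups of `C` of
order 3 or 9: an element of order 15. -/
theorem exists_orderOf_fifteen {N : Type*} [Group N] [Finite N] (C : Subgroup N) [C.Normal]
    (h5N : 5 ∣ Nat.card N) (h5C : ¬ 5 ∣ Nat.card C)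
    (h3 : ∀ S : Sylow 3 C, Nat.card S = 3 ∨ Nat.card S = 9) : ∃ g : N, orderOf g = 15 := by
  classical
  have hf3 : Fact (Nat.Prime 3) := ⟨by norm_num⟩
  have hf5 : Fact (Nat.Prime 5) := ⟨by norm_num⟩
  obtain ⟨S⟩ : Nonempty (Sylow 3 C) := inferInstance
  set S' : Subgroup N := (S : Subgroup C).map C.subtype with hS'
  have hS'card : Nat.card S' = Nat.card S := by
    rw [hS', Subgroup.card_map_of_injective C.subtype_injective]
  have hfr : normalizer (S' : Set N) ⊔ C = ⊤ := Sylow.normalizer_sup_eq_top S
  set A : Subgroup N := normalizer (S' : Set N) with hA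
  have hidx : C.index = C.relIndex A := by
    have h1 : C.relIndex (A ⊔ C) = C.relIndex A := Subgroup.relIndex_sup_right A C
    rw [hfr, Subgroup.relIndex_top_right] at h1
    exact h1
  have h5A : 5 ∣ Nat.card A := by
    have h1 : C.index ∣ Nat.card A := by rw [hidx]; exact Subgroup.relIndex_dvd_card C A
    have h2 := C.card_mul_index
    rw [← h2] at h5N
    rcases (Nat.Prime.dvd_mul (by norm_num : Nat.Prime 5)).mp h5N with h | h
    · exact absurd h h5C
    · exact dvd_trans h h1
  obtain ⟨y, hy⟩ := exists_prime_orderOf_dvd_card' (G := A) 5 h5A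
  have hyN : orderOf (y : N) = 5 := by rw [Subgroup.orderOf_coe]; exact hy
  have hy5 : (y : N) ^ 5 = 1 := by rw [← hyN]; exact pow_orderOf_eq_one _
  have hS'3 : Nat.card S' = 3 ∨ Nat.card S' = 9 := by rw [hS'card]; exact h3 S
  have hcent := centralizes_of_pow_five S' hS'3 (y : N) y.2 hy5
  have h3S' : 3 ∣ Nat.card S' := by
    rcases hS'3 with h | h <;> rw [h]; norm_num
  obtain ⟨s, hs⟩ := exists_prime_orderOf_dvd_card' (G := S') 3 h3S'
  have hsN : orderOf (s : N) = 3 := by rw [Subgroup.orderOf_coe]; exact hs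
  refine ⟨(y : N) * (s : N), ?_⟩
  have hcomm : Commute (y : N) (s : N) := hcent s s.2
  rw [hcomm.orderOf_mul_eq_mul_orderOf_of_coprime (by rw [hyN, hsN]; norm_num), hyN, hsN]

/-- shared core of (B) and (C): `P` of order 11 with normalizer of order 7920 or 660 -/
theorem conn_core {G : Type*} [Group G] [Finite G] (P : Subgroup G) (hP : Nat.card P = 11)
    (hN : Nat.card (normalizer (P : Set G)) = 7920 ∨ Nat.card (normalizer (P : Set G)) = 660) :
    (∃ g : G, orderOf g = 22) ∧ (∃ g : G, orderOf g = 33) ∧
      ((∃ g : G, orderOf g = 55) ∨ (∃ g : G, orderOf g = 15) ∨ (∃ g : G, orderOf g = 10)) := by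
  classical
  have hf2 : Fact (Nat.Prime 2) := ⟨by norm_num⟩
  have hf3 : Fact (Nat.Prime 3) := ⟨by norm_num⟩
  have hf5 : Fact (Nat.Prime 5) := ⟨by norm_num⟩
  have hf11 : Fact (Nat.Prime 11) := ⟨by norm_num⟩
  obtain ⟨r, hr, hNC⟩ := Cfsg.Agent.Helper95.card_normalizer_eq_mul 11 (by norm_num) P hP
  have hr' : r = 1 ∨ r = 2 ∨ r = 5 ∨ r = 10 := by
    have h1 : r ∈ Nat.divisors 10 := Nat.mem_divisors.mpr ⟨hr, by norm_num⟩
    have h10 : Nat.divisors 10 = {1, 2, 5, 10} := by decide
    rw [h10] at h1
    simpa using h1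
  set C : Subgroup G := centralizer (P : Set G) with hC
  set c : ℕ := Nat.card C with hc
  have h66 : 66 ∣ c := by
    rcases hN with h | h <;> rw [h] at hNC <;> rcases hr' with rfl | rfl | rfl | rfl <;> omega
  -- generator of P
  obtain ⟨x, hx⟩ := exists_prime_orderOf_dvd_card' (G := P) 11 (by rw [hP])
  have hxG : orderOf (x : G) = 11 := by rw [Subgroup.orderOf_coe]; exact hx
  have hcomm : ∀ t : C, Commute (x : G) (t : G) := by
    intro t
    have := (Subgroup.mem_centralizer_iff.mp t.2) (x : G) x.2
    exact this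
  have key : ∀ q : ℕ, q.Prime → q ∣ c → Nat.Coprime 11 q → ∃ g : G, orderOf g = 11 * q := by
    intro q hq hqc hcop
    have : Fact q.Prime := ⟨hq⟩
    obtain ⟨t, ht⟩ := exists_prime_orderOf_dvd_card' (G := C) q hqc
    have htG : orderOf (t : G) = q := by rw [Subgroup.orderOf_coe]; exact ht
    refine ⟨(x : G) * (t : G), ?_⟩
    rw [(hcomm t).orderOf_mul_eq_mul_orderOf_of_coprime (by rw [hxG, htG]; exact hcop), hxG, htG]
  refine ⟨?_, ?_, ?_⟩
  · exact key 2 (by norm_num) (by omega) (by norm_num)
  · exact key 3 (by norm_num) (by omega) (by norm_num)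
  · by_cases h5 : 5 ∣ c
    · left
      exact key 5 (by norm_num) h5 (by norm_num)
    · right; left
      -- work inside the normalizer
      set Nn : Subgroup G := normalizer (P : Set G) with hNn
      set C' : Subgroup Nn := P.normalizerMonoidHom.ker with hC'
      have hC'card : Nat.card C' = c := by
        rw [hC', Subgroup.normalizerMonoidHom_ker]
        exact Nat.card_congr
          (Subgroup.subgroupOfEquivOfLe (Subgroup.centralizer_le_normalizer (P : Set G))).toEquiv
      have h5N : 5 ∣ Nat.card Nn := by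
        rcases hN with h | h <;> rw [h] <;> norm_num
      have h5C : ¬ 5 ∣ Nat.card C' := by rw [hC'card]; exact h5
      have hcval : c = 1584 ∨ c = 792 ∨ c = 132 ∨ c = 66 := by
        rcases hN with h | h <;> rw [h] at hNC <;> rcases hr' with rfl | rfl | rfl | rfl <;> omega
      have h3 : ∀ S : Sylow 3 C', Nat.card S = 3 ∨ Nat.card S = 9 := by
        intro S
        rcases hcval with h | h | h | h
        · right
          have := sylow_card_eq' S (k := 2) (m := 176) (by rw [hC'card, h]; norm_num) (by norm_num)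
          simpa using this
        · right
          have := sylow_card_eq' S (k := 2) (m := 88) (by rw [hC'card, h]; norm_num) (by norm_num)
          simpa using this
        · left
          have := sylow_card_eq' S (k := 1) (m := 44) (by rw [hC'card, h]; norm_num) (by norm_num)
          simpa using this
        · left
          have := sylow_card_eq' S (k := 1) (m := 22) (by rw [hC'card, h]; norm_num) (by norm_num)
          simpa using this
      obtain ⟨g, hg⟩ := exists_orderOf_fifteen C' h5N h5C h3
      exact ⟨(g : G), by rw [Subgroup.orderOf_coe]; exact hg⟩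

/-- the order of a Sylow 11-subgroup and of its normalizer -/
private theorem sylow_eleven {G : Type*} [Group G] [Finite G] (hord : Nat.card G = 7920)
    (n : ℕ) (h : Nat.card (Sylow 11 G) = n) [Fact (Nat.Prime 11)] (P : Sylow 11 G) :
    Nat.card (P : Subgroup G) = 11 ∧ Nat.card (normalizer ((P : Subgroup G) : Set G)) * n = 7920 := by
  refine ⟨?_, ?_⟩
  · have := sylow_card_eq' P (k := 1) (m := 720) (by rw [hord]; norm_num) (by norm_num)
    simpa using this
  · have h1 : Nat.card (Sylow 11 G) = (normalizer ((P : Subgroup G) : Set G)).index :=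
      Sylow.card_eq_index_normalizer P
    rw [← h, h1, Subgroup.card_mul_index, hord]

/-- (B) normal Sylow 11-subgroup: the prime graph is connected. -/
theorem conn_one {G : Type*} [Group G] [Finite G] (hord : Nat.card G = 7920)
    (h : Nat.card (Sylow 11 G) = 1) :
    (∃ g : G, orderOf g = 22) ∧ (∃ g : G, orderOf g = 33) ∧
      ((∃ g : G, orderOf g = 55) ∨ (∃ g : G, orderOf g = 15) ∨ (∃ g : G, orderOf g = 10)) := by
  have hf11 : Fact (Nat.Prime 11) := ⟨by norm_num⟩
  obtain ⟨P⟩ : Nonempty (Sylow 11 G) := inferInstance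
  obtain ⟨h1, h2⟩ := sylow_eleven hord 1 h P
  exact conn_core (P : Subgroup G) h1 (Or.inl (by omega))

/-- (C) twelve Sylow 11-subgroups: the prime graph is connected. -/
theorem conn_twelve {G : Type*} [Group G] [Finite G] (hord : Nat.card G = 7920)
    (h : Nat.card (Sylow 11 G) = 12) :
    (∃ g : G, orderOf g = 22) ∧ (∃ g : G, orderOf g = 33) ∧
      ((∃ g : G, orderOf g = 55) ∨ (∃ g : G, orderOf g = 15) ∨ (∃ g : G, orderOf g = 10)) := by
  have hf11 : Fact (Nat.Prime 11) := ⟨by norm_num⟩
  obtain ⟨P⟩ : Nonempty (Sylow 11 G) := inferInstance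
  obtain ⟨h1, h2⟩ := sylow_eleven hord 12 h P
  exact conn_core (P : Subgroup G) h1 (Or.inr (by omega))

end Cfsg.Agent.Helper76.Ord7920
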