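import Cfsg.Agent.Lib.Helper76.CD2Struct1

set_option autoImplicit false
set_option linter.style.haveILetI false
set_option linter.unusedSectionVars false

/-! Fixed-point-free action of elements that are central modulo the minimal normal subgroup. -/

namespace Cfsg.Agent.Helper76.CD2

open Cfsg Cfsg.Agent.Helper79
open scoped commutatorElement

universe u

section fpf
variable {H : Type u} [Group H] [Finite H]

/-- an element outside `M` that is central modulo `M` acts fixed-point-freely on `M` -/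
theorem fpf_of_central (M : Subgroup H) (hMn : M.Normal)
    (hMc : ∀ a ∈ M, ∀ b ∈ M, a * b = b * a)
    (hU : ∀ L : Subgroup H, L.Normal → L ≠ ⊥ → M ≤ L)
    (hF0 : ∀ g : H, (∀ x ∈ M, g * x * g⁻¹ = x) → g ∈ M)
    (g : H) (hg : g ∉ M) (hgc : ∀ h : H, ⁅g, h⁆ ∈ M) :
    ∀ x ∈ M, g * x * g⁻¹ = x → x = 1 := by
  let E : Subgroup H := M ⊓ Subgroup.centralizer ({g} : Set H)
  have hE : ∀ x, x ∈ E ↔ x ∈ M ∧ g * x * g⁻¹ = x := by
    intro x
    change x ∈ M ⊓ Subgroup.centralizer ({g} : Set H) ↔ _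
    rw [Subgroup.mem_inf, Subgroup.mem_centralizer_iff]
    constructor
    · rintro ⟨h1, h2⟩
      refine ⟨h1, ?_⟩
      rw [h2 g rfl]; group
    · rintro ⟨h1, h2⟩
      refine ⟨h1, ?_⟩
      intro y hy
      rw [Set.mem_singleton_iff] at hy
      subst hy
      calc y * x = (y * x * y⁻¹) * y := by group
        _ = x * y := by rw [h2]
  have hEn : E.Normal := by
    constructor
    intro x hx h
    obtain ⟨hxM, hxg⟩ := (hE x).1 hx
    rw [hE]
    have hconjM : h * x * h⁻¹ ∈ M := hMn.conj_mem x hxM h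
    refine ⟨hconjM, ?_⟩
    have hc : ⁅g, h⁆ ∈ M := hgc h
    have e1 : g * h * g⁻¹ = ⁅g, h⁆ * h := by rw [commutatorElement_def]; group
    calc g * (h * x * h⁻¹) * g⁻¹ = (g * h * g⁻¹) * (g * x * g⁻¹) * (g * h * g⁻¹)⁻¹ := by group
      _ = (⁅g, h⁆ * h) * x * (⁅g, h⁆ * h)⁻¹ := by rw [e1, hxg]
      _ = ⁅g, h⁆ * (h * x * h⁻¹) * ⁅g, h⁆⁻¹ := by group
      _ = (h * x * h⁻¹) * ⁅g, h⁆ * ⁅g, h⁆⁻¹ := by rw [hMc _ hc _ hconjM]
      _ = h * x * h⁻¹ := by group
  have hEb : E = ⊥ := by
    by_contra hne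
    have h1 : M ≤ E := hU E hEn hne
    exact hg (hF0 g (fun x hx => ((hE x).1 (h1 hx)).2))
  intro x hx hgx
  have : x ∈ E := (hE x).2 ⟨hx, hgx⟩
  rwa [hEb, Subgroup.mem_bot] at this

/-- dual form: a linear character of `M` fixed by a fixed-point-free element is trivial -/
theorem dual_fpf (M : Subgroup H) (hMn : M.Normal) (g : H)
    (hfpf : ∀ x ∈ M, g * x * g⁻¹ = x → x = 1) (lam : M →* ℂˣ)
    (hinv : ∀ x : M, lam ⟨g * x * g⁻¹, hMn.conj_mem x x.2 g⟩ = lam x) : lam = 1 := by
  haveI := hMn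
  let c : M → M := fun x => ⟨g * x * g⁻¹, hMn.conj_mem x x.2 g⟩
  have hcmul : ∀ x y : M, c (x * y) = c x * c y := by
    intro x y
    apply Subtype.ext
    simp only [c, Subgroup.coe_mul]
    group
  have hcinv : ∀ x : M, c x⁻¹ = (c x)⁻¹ := by
    intro x
    apply Subtype.ext
    simp only [c, Subgroup.coe_inv]
    group
  let f : M → M := fun x => c x * x⁻¹
  have hf : Function.Injective f := by
    intro x y hxy
    simp only [f] at hxy
    have h1 : c x = c y * y⁻¹ * x := eq_mul_of_mul_inv_eq hxy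
    have h2 : c (y⁻¹ * x) = y⁻¹ * x := by
      rw [hcmul, hcinv, h1]; group
    have h3 : ((y⁻¹ * x : M) : H) = 1 := by
      apply hfpf _ (y⁻¹ * x).2
      exact congrArg Subtype.val h2
    have h4 : y⁻¹ * x = 1 := Subtype.ext h3
    calc x = y * (y⁻¹ * x) := by group
      _ = y := by rw [h4, mul_one]
  have hs : Function.Surjective f := Finite.surjective_of_injective hf
  apply MonoidHom.ext
  intro z
  obtain ⟨x, rfl⟩ := hs z
  have := hinv x
  change lam (c x) = lam x at this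
  change lam (c x * x⁻¹) = 1
  rw [map_mul, map_inv, this, mul_inv_cancel]

end fpf

end Cfsg.Agent.Helper76.CD2
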