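import Cfsg.Agent.Lib.Helper76.CD2Struct3
import Cfsg.Agent.Lib.Helper79.Restrict
import Cfsg.Agent.Lib.Helper74.LinChar

set_option autoImplicit false
set_option linter.style.haveILetI false
set_option linter.unusedSectionVars false

/-! The quotient by the minimal normal subgroup is abelian. -/

namespace Cfsg.Agent.Helper76.CD2

open Cfsg Cfsg.Agent.Helper79 Cfsg.Agent.Helper81
open scoped commutatorElement

universe u

section abquot
variable {H : Type u} [Group H] [Fintype H]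

/-- a nontrivial group with commuting elements has a nontrivial linear character -/
theorem exists_hom_ne_one (M : Type u) [Group M] [Finite M] (hc : ∀ a b : M, a * b = b * a)
    (hM : Nontrivial M) : ∃ lam : M →* ℂˣ, lam ≠ 1 := by
  by_contra hcon
  push Not at hcon
  have h1 : Nat.card (M →* ℂˣ) = (commutator M).index := Cfsg.Agent.Helper74.Lin.card_hom
  have hcomm : commutator M = ⊥ := by
    rw [eq_bot_iff, commutator_def, Subgroup.commutator_le]
    intro a _ b _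
    rw [Subgroup.mem_bot, commutatorElement_eq_one_iff_mul_comm]
    exact hc a b
  rw [hcomm, Subgroup.index_bot] at h1
  have h2 : Nat.card (M →* ℂˣ) ≤ 1 := by
    haveI : Subsingleton (M →* ℂˣ) := ⟨fun a b => (hcon a).trans (hcon b).symm⟩
    exact Finite.card_le_one_iff_subsingleton.2 inferInstance
  have h3 : 1 < Nat.card M := Finite.one_lt_card
  omega

/-- the degree of an irreducible character is at most the index of a subgroup with commuting
elements -/
theorem degree_le_index_of_comm {K : Type u} [Group K] [Finite K] (ψ : IrrCharacter K)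
    (A : Subgroup K) (hA : ∀ a ∈ A, ∀ b ∈ A, a * b = b * a) :
    charDegree (ψ : K → ℂ) * Nat.card A ≤ Nat.card K := by
  classical
  obtain ⟨n, hn1, hn2⟩ := res_expansion ψ A
  have h1 := hn1 1
  have hdeg : ∀ φ : IrrCharacter A, (φ : A → ℂ) 1 = 1 := by
    intro φ
    rw [(irr_one_eq φ).1, all_linear_of_comm (fun a b => Subtype.ext (hA a a.2 b b.2)) φ]
    simp
  simp only [hdeg, mul_one, OneMemClass.coe_one] at h1
  rw [(irr_one_eq ψ).1] at h1
  have h2 : charDegree (ψ : K → ℂ) = ∑ φ : IrrCharacter A, n φ := by exact_mod_cast h1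
  have h3 : ∑ φ : IrrCharacter A, n φ ≤ ∑ φ : IrrCharacter A, (n φ) ^ 2 := by
    apply Finset.sum_le_sum
    intro φ _
    nlinarith [Nat.zero_le (n φ)]
  calc charDegree (ψ : K → ℂ) * Nat.card A ≤ (∑ φ : IrrCharacter A, (n φ) ^ 2) * Nat.card A := by
        rw [h2]; exact Nat.mul_le_mul_right _ h3
    _ ≤ Nat.card K := hn2

/-- the quotient by the self-centralizing minimal normal subgroup is abelian -/
theorem quotient_comm (m : ℕ)
    (hcd : ∀ χ : IrrCharacter H, charDegree (χ : H → ℂ) = 1 ∨ charDegree (χ : H → ℂ) = m)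
    (M : Subgroup H) [hMn : M.Normal] (hMc : ∀ a ∈ M, ∀ b ∈ M, a * b = b * a)
    (hcop : (Nat.card M).Coprime M.index)
    (hU : ∀ L : Subgroup H, L.Normal → L ≠ ⊥ → M ≤ L)
    (hF0 : ∀ g : H, (∀ x ∈ M, g * x * g⁻¹ = x) → g ∈ M)
    (hMb : M ≠ ⊥) (hMt : M ≠ ⊤) [hnilq : Group.IsNilpotent (H ⧸ M)] :
    ∀ a b : H, ⁅a, b⁆ ∈ M := by
  classical
  by_contra hcon
  -- a character of degree `m` of the quotient
  have hex : ∃ ψ : IrrCharacter (H ⧸ M), charDegree (ψ : H ⧸ M → ℂ) = m := by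
    by_contra hno
    push Not at hno
    have hlin : ∀ ψ : IrrCharacter (H ⧸ M), charDegree (ψ : H ⧸ M → ℂ) = 1 :=
      fun ψ => (quotient m hcd M ψ).resolve_right (hno ψ)
    have hc := comm_of_all_linear hlin
    apply hcon
    intro a b
    rw [← QuotientGroup.eq_one_iff, commutatorElement_def]
    simp only [QuotientGroup.mk_mul, QuotientGroup.mk_inv]
    rw [hc (a : H ⧸ M) (b : H ⧸ M)]; group
  obtain ⟨ψ, hψ⟩ := hex
  haveI hMnt : Nontrivial M := (Subgroup.nontrivial_iff_ne_bot M).2 hMb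
  obtain ⟨lam, hlam⟩ := exists_hom_ne_one M (fun a b => Subtype.ext (hMc a a.2 b b.2)) hMnt
  haveI : Nontrivial (H ⧸ M) := by
    rw [← Finite.one_lt_card_iff_nontrivial, ← Subgroup.index_eq_card]
    have h1 : M.index ≠ 1 := fun h => hMt (Subgroup.index_eq_one.1 h)
    have h0 : M.index ≠ 0 := Subgroup.index_ne_zero_of_finite
    omega
  have hZ : Subgroup.center (H ⧸ M) ≠ ⊥ := Group.IsNilpotent.center_ne_bot (H ⧸ M)
  set T := inertiaGrp M hMn (linFun lam) with hTdef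
  have hMT : M ≤ T := le_inertiaGrp M hMn (linFun_classFunction lam)
  -- elements of `T` central modulo `M` lie in `M`
  have hD : ∀ t ∈ T, ((t : H) : H ⧸ M) ∈ Subgroup.center (H ⧸ M) → t ∈ M := by
    intro t ht hz
    by_contra htM
    have hcen : ∀ h : H, ⁅t, h⁆ ∈ M := by
      intro h
      rw [← QuotientGroup.eq_one_iff, commutatorElement_def]
      simp only [QuotientGroup.mk_mul, QuotientGroup.mk_inv]
      have := (Subgroup.mem_center_iff.1 hz) (h : H ⧸ M)
      rw [← this]; group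
    have hfpf := fpf_of_central M hMn hMc hU hF0 t htM hcen
    exact hlam (dual_fpf M hMn t hfpf lam ((mem_inertia_lin M hMn lam t).1 ht))
  have hTt : T ≠ ⊤ := by
    intro hT
    obtain ⟨⟨z, hz⟩, hz1⟩ := (Subgroup.ne_bot_iff_exists_ne_one).1 hZ
    obtain ⟨g, rfl⟩ := QuotientGroup.mk_surjective z
    have : g ∈ M := hD g (hT ▸ Subgroup.mem_top g) hz
    apply hz1
    apply Subtype.ext
    exact (QuotientGroup.eq_one_iff g).2 this
  obtain ⟨hidx, hTc⟩ := inertia_index m hcd M hMn hcop lam hTt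
  set Tb : Subgroup (H ⧸ M) := T.map (QuotientGroup.mk' M) with hTb
  set Z : Subgroup (H ⧸ M) := Subgroup.center (H ⧸ M) with hZdef
  have hTbc : ∀ a ∈ Tb, ∀ b ∈ Tb, a * b = b * a := by
    rintro _ ⟨s, hs, rfl⟩ _ ⟨t, ht, rfl⟩
    have h1 : ((⁅s, t⁆ : H) : H ⧸ M) = 1 := (QuotientGroup.eq_one_iff _).2 (hTc s hs t ht)
    rw [commutatorElement_def] at h1
    simp only [QuotientGroup.mk'_apply]
    simp only [QuotientGroup.mk_mul, QuotientGroup.mk_inv] at h1
    calc (s : H ⧸ M) * t = ((s : H ⧸ M) * t * (s : H ⧸ M)⁻¹ * (t : H ⧸ M)⁻¹) * (t * s) := by group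
      _ = t * s := by rw [h1, one_mul]
  have hinf : Tb ⊓ Z = ⊥ := by
    rw [eq_bot_iff]
    rintro x hx
    obtain ⟨⟨t, ht, rfl⟩, hxZ⟩ := Subgroup.mem_inf.1 hx
    rw [Subgroup.mem_bot]
    exact (QuotientGroup.eq_one_iff t).2 (hD t ht hxZ)
  set A : Subgroup (H ⧸ M) := Tb ⊔ Z with hA
  have hmemA : ∀ x ∈ A, ∃ t ∈ Tb, ∃ z ∈ Z, x = t * z := by
    intro x hx
    have h1 : x ∈ ((Tb ⊔ Z : Subgroup (H ⧸ M)) : Set (H ⧸ M)) := hx
    rw [Subgroup.mul_normal Tb Z] at h1
    obtain ⟨t, ht, z, hz, rfl⟩ := Set.mem_mul.1 h1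
    exact ⟨t, ht, z, hz, rfl⟩
  have hAc : ∀ a ∈ A, ∀ b ∈ A, a * b = b * a := by
    intro a ha b hb
    obtain ⟨t₁, ht₁, z₁, hz₁, rfl⟩ := hmemA a ha
    obtain ⟨t₂, ht₂, z₂, hz₂, rfl⟩ := hmemA b hb
    have c1 := (Subgroup.mem_center_iff.1 hz₁)
    have c2 := (Subgroup.mem_center_iff.1 hz₂)
    have c3 := hTbc t₁ ht₁ t₂ ht₂
    calc t₁ * z₁ * (t₂ * z₂) = t₁ * (z₁ * t₂) * z₂ := by group
      _ = t₁ * (t₂ * z₁) * z₂ := by rw [c1 t₂]
      _ = (t₁ * t₂) * (z₁ * z₂) := by group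
      _ = (t₂ * t₁) * (z₂ * z₁) := by rw [c3, ← c1 z₂]
      _ = t₂ * (t₁ * z₂) * z₁ := by group
      _ = t₂ * (z₂ * t₁) * z₁ := by rw [c2 t₁]
      _ = t₂ * z₂ * (t₁ * z₁) := by group
  have hcardA : Nat.card Tb * Nat.card Z ≤ Nat.card A := by
    rw [← Nat.card_prod]
    let f : Tb × Z → A := fun p =>
      ⟨(p.1 : H ⧸ M) * (p.2 : H ⧸ M),
        Subgroup.mul_mem _ ((le_sup_left : Tb ≤ A) p.1.2) ((le_sup_right : Z ≤ A) p.2.2)⟩
    apply Nat.card_le_card_of_injective f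
    rintro ⟨⟨t, ht⟩, ⟨z, hz⟩⟩ ⟨⟨t', ht'⟩, ⟨z', hz'⟩⟩ hf
    have h1 : t * z = t' * z' := congrArg Subtype.val hf
    have h2 : t'⁻¹ * t = z' * z⁻¹ := by
      calc t'⁻¹ * t = t'⁻¹ * (t * z) * z⁻¹ := by group
        _ = t'⁻¹ * (t' * z') * z⁻¹ := by rw [h1]
        _ = z' * z⁻¹ := by group
    have h3 : t'⁻¹ * t ∈ Tb ⊓ Z :=
      Subgroup.mem_inf.mpr ⟨Tb.mul_mem (Tb.inv_mem ht') ht, h2 ▸ Z.mul_mem hz' (Z.inv_mem hz)⟩
    rw [hinf, Subgroup.mem_bot] at h3
    have h4 : t = t' := by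
      calc t = t' * (t'⁻¹ * t) := by group
        _ = t' := by rw [h3, mul_one]
    subst h4
    have h5 : z = z' := mul_left_cancel h1
    subst h5
    rfl
  have hTbidx : Tb.index = m := by
    rw [hTb, Subgroup.index_map, QuotientGroup.ker_mk', sup_eq_left.2 hMT,
      MonoidHom.range_eq_top_of_surjective _ (QuotientGroup.mk'_surjective M), Subgroup.index_top,
      mul_one, hidx]
  have h1 := degree_le_index_of_comm ψ A hAc
  rw [hψ] at h1
  have h2 : Nat.card Tb * m = Nat.card (H ⧸ M) := by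
    rw [← hTbidx]; exact Subgroup.card_mul_index Tb
  have hm0 : 0 < m := by
    rw [← hidx]; exact Nat.pos_of_ne_zero Subgroup.index_ne_zero_of_finite
  have hTb0 : 0 < Nat.card Tb := Nat.card_pos
  have hZ1 : 1 < Nat.card Z := (Subgroup.one_lt_card_iff_ne_bot Z).2 hZ
  have h3 : m * (Nat.card Tb * Nat.card Z) ≤ Nat.card Tb * m :=
    le_trans (Nat.mul_le_mul_left m hcardA) (h2 ▸ h1)
  have h4 : Nat.card Tb * m * 2 ≤ m * (Nat.card Tb * Nat.card Z) := by
    have : 2 ≤ Nat.card Z := hZ1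
    calc Nat.card Tb * m * 2 = m * (Nat.card Tb * 2) := by ring
      _ ≤ m * (Nat.card Tb * Nat.card Z) :=
        Nat.mul_le_mul_left m (Nat.mul_le_mul_left _ this)
  have h5 : 0 < Nat.card Tb * m := Nat.mul_pos hTb0 hm0
  omega

end abquot

end Cfsg.Agent.Helper76.CD2
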