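import Cfsg.Agent.Lib.Helper79.Orthogonality
import Cfsg.Agent.Lib.Helper80.CharBasic
import Cfsg.Agent.Lib.Helper74.LinChar

/-!
# Isaacs–Passman (S4463), nonsolvable quotient case: class counting

* `exists_small_class`: a nontrivial finite group all of whose irreducible character degrees are `≤ b`
  has an element `x ≠ 1` with `|Q : C_Q(x)| ≤ b²`;
* `exists_corefree_small_index`: if moreover every nontrivial normal subgroup of `Q` contains `Q'`
  and `Q'` is nonabelian, then `Q` has a core-free subgroup of index `≤ b²`.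
-/

set_option autoImplicit false
set_option linter.unusedVariables false
set_option linter.unusedSectionVars false
set_option linter.style.haveILetI false

namespace Cfsg.Agent.Helper76.IP

open Cfsg Cfsg.Agent.Helper79
open scoped ComplexConjugate

universe u

section classcount
variable {Q : Type u} [Group Q] [Finite Q]

/-- `|Q| ≤ 1 + (k(Q) - 1) b²` in the form `|Q| + b² ≤ 1 + k(Q) b²` -/
theorem h76_card_le_classes (b : ℕ) (hb : ∀ χ : IrrCharacter Q, charDegree (χ : Q → ℂ) ≤ b) :
    Nat.card Q + b ^ 2 ≤ 1 + Nat.card (ConjClasses Q) * b ^ 2 := by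
  classical
  haveI : Fintype Q := Fintype.ofFinite Q
  let χ₀ : IrrCharacter Q := Cfsg.Agent.Helper74.Lin.ofHom 1
  have hχ₀ : charDegree (χ₀ : Q → ℂ) = 1 := by
    have h1 := (irr_one_eq χ₀).1
    have h2 : (χ₀ : Q → ℂ) 1 = 1 := Cfsg.Agent.Helper74.Lin.ofHom_one_eq 1
    rw [h2] at h1
    exact_mod_cast h1.symm
  have hsum := sum_sq_degree_nat (G := Q)
  rw [← Finset.add_sum_erase Finset.univ _ (Finset.mem_univ χ₀), hχ₀] at hsum
  have hle : ∑ χ ∈ Finset.univ.erase χ₀, charDegree (χ : Q → ℂ) ^ 2 ≤
      (Finset.univ.erase χ₀).card * b ^ 2 := by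
    rw [← smul_eq_mul]
    apply Finset.sum_le_card_nsmul
    intro χ _
    exact Nat.pow_le_pow_left (hb χ) 2
  have hcard : (Finset.univ.erase χ₀).card + 1 = Nat.card (ConjClasses Q) := by
    rw [Finset.card_erase_of_mem (Finset.mem_univ χ₀), Finset.card_univ,
      ← Cfsg.Agent.Helper80.card_irr, Nat.card_eq_fintype_card]
    have : 0 < Fintype.card (IrrCharacter Q) := Fintype.card_pos_iff.2 ⟨χ₀⟩
    omega
  rw [← hcard]
  nlinarith

/-- the number of commuting pairs is `Σ_x |C(x)|` -/
theorem h76_sum_centralizer [Fintype Q] :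
    ∑ x : Q, Nat.card (Subgroup.centralizer ({x} : Set Q)) =
      Nat.card (ConjClasses Q) * Nat.card Q := by
  classical
  rw [← card_comm_eq_card_conjClasses_mul_card Q, Nat.card_eq_fintype_card,
    Fintype.card_congr (Equiv.subtypeProdEquivSigmaSubtype (fun a b : Q => Commute a b)),
    Fintype.card_sigma]
  apply Finset.sum_congr rfl
  intro x _
  rw [Nat.card_eq_fintype_card]
  apply Fintype.card_congr
  refine ⟨fun y => ⟨y.1, ?_⟩, fun y => ⟨y.1, ?_⟩, fun y => rfl, fun y => rfl⟩
  · have := y.2
    rw [Subgroup.mem_centralizer_iff] at this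
    exact (this x rfl)
  · rw [Subgroup.mem_centralizer_iff]
    intro h hh
    rw [Set.mem_singleton_iff] at hh
    subst hh
    exact y.2

/-- a small nontrivial class -/
theorem exists_small_class [Nontrivial Q] (b : ℕ)
    (hb : ∀ χ : IrrCharacter Q, charDegree (χ : Q → ℂ) ≤ b) :
    ∃ x : Q, x ≠ 1 ∧ (Subgroup.centralizer ({x} : Set Q)).index ≤ b ^ 2 := by
  classical
  haveI : Fintype Q := Fintype.ofFinite Q
  by_contra hcon
  push Not at hcon
  have hQ1 : 1 < Nat.card Q := Finite.one_lt_card
  set k := Nat.card (ConjClasses Q) with hk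
  set n := Nat.card Q with hn
  have h1 := h76_card_le_classes (Q := Q) b hb
  have h2 := h76_sum_centralizer (Q := Q)
  rw [← hn, ← hk] at h1 h2
  -- each nontrivial centralizer is small
  have hsmall : ∀ x : Q, x ≠ 1 →
      b ^ 2 * Nat.card (Subgroup.centralizer ({x} : Set Q)) + 1 ≤ n := by
    intro x hx
    have := hcon x hx
    have hidx := Subgroup.card_mul_index (Subgroup.centralizer ({x} : Set Q))
    have hpos : 0 < Nat.card (Subgroup.centralizer ({x} : Set Q)) := Nat.card_pos
    have : b ^ 2 * Nat.card (Subgroup.centralizer ({x} : Set Q)) <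
        (Subgroup.centralizer ({x} : Set Q)).index *
          Nat.card (Subgroup.centralizer ({x} : Set Q)) :=
      Nat.mul_lt_mul_of_pos_right this hpos
    rw [mul_comm ((Subgroup.centralizer ({x} : Set Q)).index), hidx] at this
    omega
  have hone : Nat.card (Subgroup.centralizer ({(1 : Q)} : Set Q)) = n := by
    have : Subgroup.centralizer ({(1 : Q)} : Set Q) = ⊤ := by
      rw [eq_top_iff]
      intro y _
      rw [Subgroup.mem_centralizer_iff]
      intro h hh
      rw [Set.mem_singleton_iff] at hh
      subst hh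
      simp
    rw [this, Subgroup.card_top]
  -- sum estimate
  have hsum : b ^ 2 * (k * n) + (n - 1) ≤ b ^ 2 * n + (n - 1) * n := by
    rw [← h2, ← Finset.add_sum_erase Finset.univ _ (Finset.mem_univ (1 : Q)), hone]
    have hle : ∑ x ∈ Finset.univ.erase (1 : Q),
        (b ^ 2 * Nat.card (Subgroup.centralizer ({x} : Set Q)) + 1) ≤
        (Finset.univ.erase (1 : Q)).card * n := by
      rw [← smul_eq_mul]
      apply Finset.sum_le_card_nsmul
      intro x hx
      exact hsmall x (Finset.ne_of_mem_erase hx)
    rw [Finset.sum_add_distrib, Finset.sum_const, smul_eq_mul, mul_one, ← Finset.mul_sum] at hle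
    have hc : (Finset.univ.erase (1 : Q)).card = n - 1 := by
      rw [Finset.card_erase_of_mem (Finset.mem_univ _), Finset.card_univ, hn,
        Nat.card_eq_fintype_card]
    rw [hc] at hle
    rw [mul_add]
    omega
  -- arithmetic contradiction
  have hn1 : 1 ≤ n := by omega
  obtain ⟨m, hm⟩ : ∃ m, n = m + 2 := ⟨n - 2, by omega⟩
  rw [hm] at hsum h1
  have e1 : m + 2 - 1 = m + 1 := by omega
  rw [e1] at hsum
  have h3 : (m + 2) + b ^ 2 ≤ 1 + k * b ^ 2 := h1
  nlinarith

end classcount

section corefree
variable {Q : Type u} [Group Q] [Finite Q]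

/-- a core-free subgroup of index `≤ b²` -/
theorem exists_corefree_small_index (b : ℕ)
    (hb : ∀ χ : IrrCharacter Q, charDegree (χ : Q → ℂ) ≤ b)
    (hq : ∀ L : Subgroup Q, L.Normal → L ≠ ⊥ → commutator Q ≤ L)
    (hnab : ¬ ∀ x ∈ commutator Q, ∀ y ∈ commutator Q, x * y = y * x) :
    ∃ Hb : Subgroup Q, Hb.normalCore = ⊥ ∧ Hb.index ≤ b ^ 2 := by
  classical
  haveI : Nontrivial Q := by
    by_contra h
    rw [not_nontrivial_iff_subsingleton] at h
    exact hnab (fun x _ y _ => Subsingleton.elim _ _)
  obtain ⟨x, hx1, hidx⟩ := exists_small_class (Q := Q) b hb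
  refine ⟨Subgroup.centralizer ({x} : Set Q), ?_, hidx⟩
  by_contra hcore
  have hle := hq _ (Subgroup.normalCore_normal _) hcore
  -- `x` centralizes `Q'`
  have hxc : ∀ y ∈ commutator Q, y * x = x * y := by
    intro y hy
    have := Subgroup.normalCore_le _ (hle hy)
    rw [Subgroup.mem_centralizer_iff] at this
    exact (this x rfl).symm
  -- the centralizer of `Q'` is a nontrivial normal subgroup
  have hCn : (Subgroup.centralizer ((commutator Q : Subgroup Q) : Set Q)).Normal := by
    haveI : (commutator Q).Normal := by rw [commutator_def]; infer_instance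
    infer_instance
  have hxC : x ∈ Subgroup.centralizer ((commutator Q : Subgroup Q) : Set Q) := by
    rw [Subgroup.mem_centralizer_iff]
    intro y hy
    exact hxc y hy
  have hCne : Subgroup.centralizer ((commutator Q : Subgroup Q) : Set Q) ≠ ⊥ := by
    intro h
    rw [h, Subgroup.mem_bot] at hxC
    exact hx1 hxC
  have hle2 := hq _ hCn hCne
  apply hnab
  intro a ha c hc
  have := hle2 ha
  rw [Subgroup.mem_centralizer_iff] at this
  exact (this c hc).symm

end corefree

end Cfsg.Agent.Helper76.IP
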