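import Mathlib
import Cfsg.Agent.Lib.Helper78.CharSchur
import Cfsg.Agent.Lib.Helper78.CharCount
import Cfsg.Agent.Lib.Helper79.CharBasic
import Cfsg.Agent.Lib.Helper3.CharDecomp

/-!
# O5760 (S0980), character long pole: core (helper76)

Exceptional-character data for a TI subgroup `P` (`1_G`, `X`, `θ₁`, `θ₂` are the only irreducible characters not
vanishing on `P \ 1`), an involution `u` not conjugate into `P`, `y ∈ P \ 1`:
column orthogonality gives `1 + ε X(u) + w b = 0`, and the class multiplication sum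
`Σ χ(u)² χ(y⁻¹)/χ(1)` equals `(d - b)² / (d x)`.
-/

set_option autoImplicit false

namespace Cfsg.Agent.Helper76.O5760Core

open Cfsg
open scoped ComplexConjugate

universe u

theorem h76_sum_four {I : Type*} [Fintype I] (f : I → ℂ) (i0 i1 i2 i3 : I)
    (h01 : i0 ≠ i1) (h02 : i0 ≠ i2) (h03 : i0 ≠ i3) (h12 : i1 ≠ i2) (h13 : i1 ≠ i3) (h23 : i2 ≠ i3)
    (hf : ∀ i, i ≠ i0 → i ≠ i1 → i ≠ i2 → i ≠ i3 → f i = 0) :
    ∑ i, f i = f i0 + f i1 + f i2 + f i3 := by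
  classical
  have hsub : ∑ i, f i = ∑ i ∈ ({i0, i1, i2, i3} : Finset I), f i := by
    symm
    apply Finset.sum_subset (Finset.subset_univ _)
    intro i _ hi
    simp only [Finset.mem_insert, Finset.mem_singleton, not_or] at hi
    exact hf i hi.1 hi.2.1 hi.2.2.1 hi.2.2.2
  rw [hsub, Finset.sum_insert, Finset.sum_insert, Finset.sum_insert, Finset.sum_singleton]
  · ring
  · simp [h23]
  · simp [h12, h13]
  · simp [h01, h02, h03]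

variable {G : Type u} [Group G] [Fintype G]

theorem h76_inv_of_order_two (u : G) (hu : orderOf u = 2) : u⁻¹ = u := by
  have h2 : u ^ 2 = 1 := by rw [← hu]; exact pow_orderOf_eq_one u
  rw [pow_two] at h2
  exact inv_eq_of_mul_eq_one_right h2

theorem h76_invol_real (χ : IrrCharacter G) (u : G) (hu : orderOf u = 2) :
    (((χ : G → ℂ) u).re : ℂ) = (χ : G → ℂ) u := by
  apply Complex.conj_eq_iff_re.mp
  rw [← Cfsg.Agent.Helper79.irr_inv, h76_inv_of_order_two u hu]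

/-- the core identity -/
theorem h76_class_sum_core (P : Subgroup G)
    (ε w : ℤ) (d x : ℕ) (X θ₁ θ₂ : IrrCharacter G)
    (hsign : (ε = -1 ∧ w = 1 ∧ x = d + 1) ∨ (ε = 1 ∧ w = -1 ∧ d = x + 1))
    (hX : charDegree (X : G → ℂ) = x) (h1 : charDegree (θ₁ : G → ℂ) = d)
    (h2 : charDegree (θ₂ : G → ℂ) = d) (h12 : θ₁ ≠ θ₂) (hX1 : X ≠ θ₁) (hX2 : X ≠ θ₂)
    (hXt : (X : G → ℂ) ≠ fun _ => 1) (h1t : (θ₁ : G → ℂ) ≠ fun _ => 1)
    (h2t : (θ₂ : G → ℂ) ≠ fun _ => 1)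
    (hXv : ∀ k ∈ P, k ≠ 1 → (X : G → ℂ) k = (ε : ℂ))
    (hθv : ∀ k ∈ P, k ≠ 1 → (θ₁ : G → ℂ) k + (θ₂ : G → ℂ) k = (w : ℂ))
    (h0 : ∀ ψ : IrrCharacter G, ((ψ : G → ℂ) ≠ fun _ => 1) → ψ ≠ X → ψ ≠ θ₁ → ψ ≠ θ₂ →
      ∀ k ∈ P, k ≠ 1 → (ψ : G → ℂ) k = 0)
    (hag : ∀ g : G, (∀ a : G, a * g * a⁻¹ ∉ P) → (θ₁ : G → ℂ) g = (θ₂ : G → ℂ) g)
    (y : G) (hy : y ∈ P) (hy1 : y ≠ 1) (u : G) (hu : orderOf u = 2)
    (hnc : ∀ a : G, a * u * a⁻¹ ∉ P) :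
    ∃ b : ℝ, (θ₁ : G → ℂ) u = (b : ℂ) ∧ (θ₂ : G → ℂ) u = (b : ℂ) ∧
      ∑ χ : IrrCharacter G, (χ : G → ℂ) u * (χ : G → ℂ) u * (χ : G → ℂ) y⁻¹ / (χ : G → ℂ) 1 =
        (((d : ℝ) - b) ^ 2 / ((d : ℝ) * (x : ℝ)) : ℝ) := by
  classical
  -- the trivial character
  set triv : IrrCharacter G := ⟨fun _ => 1, Cfsg.Agent.Helper3.isIrrCharacter_one⟩ with htriv
  have ne_triv : ∀ ψ : IrrCharacter G, (ψ : G → ℂ) ≠ (fun _ => 1) → triv ≠ ψ := by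
    intro ψ hψ h
    apply hψ
    rw [← h]
  have of_ne_triv : ∀ ψ : IrrCharacter G, ψ ≠ triv → (ψ : G → ℂ) ≠ (fun _ => 1) := by
    intro ψ hψ h
    apply hψ
    exact Subtype.ext h
  have hyi : y⁻¹ ∈ P := P.inv_mem hy
  have hyi1 : y⁻¹ ≠ 1 := by simpa using hy1
  -- degrees
  have hXone : (X : G → ℂ) 1 = (x : ℂ) := by rw [(Cfsg.Agent.Helper79.irr_one_eq X).1, hX]
  have h1one : (θ₁ : G → ℂ) 1 = (d : ℂ) := by rw [(Cfsg.Agent.Helper79.irr_one_eq θ₁).1, h1]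
  have h2one : (θ₂ : G → ℂ) 1 = (d : ℂ) := by rw [(Cfsg.Agent.Helper79.irr_one_eq θ₂).1, h2]
  have hxpos : 0 < x := by rw [← hX]; exact (Cfsg.Agent.Helper79.irr_one_eq X).2
  have hdpos : 0 < d := by rw [← h1]; exact (Cfsg.Agent.Helper79.irr_one_eq θ₁).2
  -- real values at `u`
  set b : ℝ := ((θ₁ : G → ℂ) u).re with hb
  set c : ℝ := ((X : G → ℂ) u).re with hc
  have hb1 : (θ₁ : G → ℂ) u = (b : ℂ) := (h76_invol_real θ₁ u hu).symm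
  have hcX : (X : G → ℂ) u = (c : ℂ) := (h76_invol_real X u hu).symm
  have hb2 : (θ₂ : G → ℂ) u = (b : ℂ) := by rw [← hag u hnc, hb1]
  refine ⟨b, hb1, hb2, ?_⟩
  -- column orthogonality
  have hnotconj : ¬ IsConj u y := by
    intro h
    obtain ⟨a, ha⟩ := isConj_iff.mp h
    exact hnc a (by rw [ha]; exact hy)
  have horth := Cfsg.Agent.Helper78.sum_irr_mul_conj u y
  rw [if_neg hnotconj] at horth
  rw [h76_sum_four (fun χ : IrrCharacter G => (χ : G → ℂ) u * conj ((χ : G → ℂ) y)) triv X θ₁ θ₂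
    (ne_triv X hXt) (ne_triv θ₁ h1t) (ne_triv θ₂ h2t) hX1 hX2 h12
    (fun ψ h0' hX' h1' h2' => by
      show (ψ : G → ℂ) u * conj ((ψ : G → ℂ) y) = 0
      rw [h0 ψ (of_ne_triv ψ h0') hX' h1' h2' y hy hy1, map_zero, mul_zero])] at horth
  have horth' : (1 : ℂ) + (c : ℂ) * (ε : ℂ) + (b : ℂ) * (w : ℂ) = 0 := by
    have e1 : (triv : G → ℂ) u * conj ((triv : G → ℂ) y) = 1 := by
      show (1 : ℂ) * conj (1 : ℂ) = 1
      simp
    have e2 : (X : G → ℂ) u * conj ((X : G → ℂ) y) = (c : ℂ) * (ε : ℂ) := by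
      rw [hcX, hXv y hy hy1]
      simp
    have e3 : (θ₁ : G → ℂ) u * conj ((θ₁ : G → ℂ) y) + (θ₂ : G → ℂ) u * conj ((θ₂ : G → ℂ) y)
        = (b : ℂ) * (w : ℂ) := by
      rw [hb1, hb2, ← mul_add, ← map_add, hθv y hy hy1]
      simp
    have := horth
    rw [add_assoc (_ + _) _ _, e3, e1, e2] at this
    exact this
  -- class sum
  rw [h76_sum_four (fun χ : IrrCharacter G =>
      (χ : G → ℂ) u * (χ : G → ℂ) u * (χ : G → ℂ) y⁻¹ / (χ : G → ℂ) 1) triv X θ₁ θ₂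
    (ne_triv X hXt) (ne_triv θ₁ h1t) (ne_triv θ₂ h2t) hX1 hX2 h12
    (fun ψ h0' hX' h1' h2' => by
      show (ψ : G → ℂ) u * (ψ : G → ℂ) u * (ψ : G → ℂ) y⁻¹ / (ψ : G → ℂ) 1 = 0
      rw [h0 ψ (of_ne_triv ψ h0') hX' h1' h2' y⁻¹ hyi hyi1, mul_zero, zero_div])]
  have f1 : (triv : G → ℂ) u * (triv : G → ℂ) u * (triv : G → ℂ) y⁻¹ / (triv : G → ℂ) 1 = 1 := by
    show (1 : ℂ) * 1 * 1 / 1 = 1
    simp
  have f2 : (X : G → ℂ) u * (X : G → ℂ) u * (X : G → ℂ) y⁻¹ / (X : G → ℂ) 1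
      = (c : ℂ) * (c : ℂ) * (ε : ℂ) / (x : ℂ) := by
    rw [hcX, hXv y⁻¹ hyi hyi1, hXone]
  have f3 : (θ₁ : G → ℂ) u * (θ₁ : G → ℂ) u * (θ₁ : G → ℂ) y⁻¹ / (θ₁ : G → ℂ) 1
      + (θ₂ : G → ℂ) u * (θ₂ : G → ℂ) u * (θ₂ : G → ℂ) y⁻¹ / (θ₂ : G → ℂ) 1
      = (b : ℂ) * (b : ℂ) * (w : ℂ) / (d : ℂ) := by
    rw [hb1, hb2, h1one, h2one, ← add_div, ← mul_add, hθv y⁻¹ hyi hyi1]
  rw [add_assoc (_ + _) _ _, f3, f1, f2]
  -- the algebra
  have hdR : (d : ℝ) ≠ 0 := by exact_mod_cast hdpos.ne'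
  have hxR : (x : ℝ) ≠ 0 := by exact_mod_cast hxpos.ne'
  rcases hsign with ⟨hε, hw, hxd⟩ | ⟨hε, hw, hxd⟩
  · subst hε hw
    have hcb : c = 1 + b := by
      have := congrArg Complex.re horth'
      simp at this
      linarith
    have key : (1 : ℝ) + c * c * (-1) / (x : ℝ) + b * b * 1 / (d : ℝ)
        = ((d : ℝ) - b) ^ 2 / ((d : ℝ) * (x : ℝ)) := by
      have hx' : (x : ℝ) = (d : ℝ) + 1 := by rw [hxd]; push_cast; ring
      rw [hcb, hx']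
      have hd1 : (d : ℝ) + 1 ≠ 0 := by rw [← hx']; exact hxR
      field_simp
      ring
    rw [← key]
    push_cast
    ring
  · subst hε hw
    have hcb : c = b - 1 := by
      have := congrArg Complex.re horth'
      simp at this
      linarith
    have key : (1 : ℝ) + c * c * 1 / (x : ℝ) + b * b * (-1) / (d : ℝ)
        = ((d : ℝ) - b) ^ 2 / ((d : ℝ) * (x : ℝ)) := by
      have hd' : (d : ℝ) = (x : ℝ) + 1 := by rw [hxd]; push_cast; ring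
      rw [hcb, hd']
      have hx1 : (x : ℝ) + 1 ≠ 0 := by rw [← hd']; exact hdR
      field_simp
      ring
    rw [← key]
    push_cast
    ring

end Cfsg.Agent.Helper76.O5760Core
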