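import Mathlib
import Cfsg.Agent.Lib.Helper78.CharSchur
import Cfsg.Agent.Lib.Helper78.CharBasic
import Cfsg.Agent.Lib.Helper79.CharBasic
import Cfsg.Agent.Lib.Helper79.M11CTMN
import Cfsg.Agent.Lib.Helper76.O5760Core

/-!
# O5760 (helper50's server, S0980): piece (A3) `a_count` (helper76)
-/

set_option autoImplicit false

namespace Cfsg.Agent.Helper76.O5760

open Cfsg MulAction
open scoped ComplexConjugate

universe u

open scoped Classical in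
/-- (A3) -/
theorem a_count {G : Type u} [Group G] [Fintype G] (P : Subgroup G) (y : G) (hyP : y ∈ P) (hy : orderOf y = 5)
    (X : IrrCharacter G) (E : Finset (IrrCharacter G)) (ε w : ℤ) (x d : ℕ)
    (hXE : X ∉ E) (hX1 : (X : G → ℂ) ≠ (fun _ => 1)) (hEcard : E.card = 2)
    (hEdeg : ∀ ψ ∈ E, charDegree (ψ : G → ℂ) = d) (hEne : ∀ ψ ∈ E, (ψ : G → ℂ) ≠ fun _ => 1)
    (hXdeg : charDegree (X : G → ℂ) = x) (hx : 1 < x) (hd : 0 < d)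
    (hsign : (ε = -1 ∧ w = 1 ∧ x = d + 1) ∨ (ε = 1 ∧ w = -1 ∧ d = x + 1))
    (hXval : ∀ k ∈ P, k ≠ 1 → (X : G → ℂ) k = (ε : ℂ))
    (hzero : ∀ ψ : IrrCharacter G, ψ ∉ E → ψ ≠ X → (ψ : G → ℂ) ≠ (fun _ => 1) →
      ∀ k ∈ P, k ≠ 1 → (ψ : G → ℂ) k = 0)
    (hEsum : ∀ k ∈ P, k ≠ 1 → ∑ ψ ∈ E, (ψ : G → ℂ) k = (w : ℂ))
    (hEeq : ∀ ψ ∈ E, ∀ ψ' ∈ E, ∀ g : G, (∀ a : G, a * g * a⁻¹ ∉ P) → (ψ : G → ℂ) g = (ψ' : G → ℂ) g)
    (hPord : ∀ k ∈ P, k ^ 5 = 1)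
    (u : G) (hu : orderOf u = 2) (θ : IrrCharacter G) (hθ : θ ∈ E) :
    ∃ b : ℤ, ((b : ℤ) : ℂ) = (θ : G → ℂ) u ∧ |b| ≤ (d : ℤ) ∧
      ((Finset.univ.filter (fun ab : G × G =>
        ab.1 * u * ab.1⁻¹ * (ab.2 * u * ab.2⁻¹) * y⁻¹ = 1)).card : ℚ) * (x : ℚ) * (d : ℚ) =
        (Nat.card G : ℚ) * ((d : ℚ) - (b : ℚ)) ^ 2 := by
  obtain ⟨θ₁, θ₂, h12, rfl⟩ := Finset.card_eq_two.mp hEcard
  have hm1 : θ₁ ∈ ({θ₁, θ₂} : Finset (IrrCharacter G)) := by simp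
  have hm2 : θ₂ ∈ ({θ₁, θ₂} : Finset (IrrCharacter G)) := by simp
  have hXθ1 : X ≠ θ₁ := fun h => hXE (h ▸ hm1)
  have hXθ2 : X ≠ θ₂ := fun h => hXE (h ▸ hm2)
  have hy1 : y ≠ 1 := by
    intro h
    rw [h, orderOf_one] at hy
    omega
  have hnc : ∀ a : G, a * u * a⁻¹ ∉ P := by
    intro a ha
    have h1 : orderOf (a * u * a⁻¹) = 2 := by
      have := (MulAut.conj a).orderOf_eq u
      rw [MulAut.conj_apply] at this
      rw [this, hu]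
    have h2 := orderOf_dvd_of_pow_eq_one (hPord _ ha)
    rw [h1] at h2
    omega
  have hθv : ∀ k ∈ P, k ≠ 1 → (θ₁ : G → ℂ) k + (θ₂ : G → ℂ) k = (w : ℂ) := by
    intro k hk hk1
    have := hEsum k hk hk1
    rwa [Finset.sum_pair h12] at this
  have h0 : ∀ ψ : IrrCharacter G, ((ψ : G → ℂ) ≠ fun _ => 1) → ψ ≠ X → ψ ≠ θ₁ → ψ ≠ θ₂ →
      ∀ k ∈ P, k ≠ 1 → (ψ : G → ℂ) k = 0 := by
    intro ψ hψ1 hψX hψ1' hψ2'
    apply hzero ψ _ hψX hψ1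
    simp only [Finset.mem_insert, Finset.mem_singleton, not_or]
    exact ⟨hψ1', hψ2'⟩
  obtain ⟨b₀, hb1, hb2, hsum⟩ := Cfsg.Agent.Helper76.O5760Core.h76_class_sum_core P
    ε w d x X θ₁ θ₂ hsign hXdeg (hEdeg θ₁ hm1) (hEdeg θ₂ hm2) h12 hXθ1 hXθ2 hX1
    (hEne θ₁ hm1) (hEne θ₂ hm2) hXval hθv h0 (hEeq θ₁ hm1 θ₂ hm2) y hyP hy1 u hu hnc
  have hθu : (θ : G → ℂ) u = (b₀ : ℂ) := by
    simp only [Finset.mem_insert, Finset.mem_singleton] at hθ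
    rcases hθ with rfl | rfl
    · exact hb1
    · exact hb2
  have hθdeg : charDegree (θ : G → ℂ) = d := hEdeg θ hθ
  have hθone : (θ : G → ℂ) 1 = (d : ℂ) := by
    rw [(Cfsg.Agent.Helper79.irr_one_eq θ).1, hθdeg]
  -- integrality of the value at the involution
  obtain ⟨m, hm⟩ := Cfsg.Agent.Helper79.M11CT.mult_nat
    (Cfsg.Agent.Helper78.IsIrrCharacter.isCharacter θ.2) u 2 (by norm_num) hu (1 : ℂ) (by norm_num)
  have hm' : (2 : ℂ) * (m : ℂ) = (d : ℂ) + (b₀ : ℂ) := by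
    have : ∑ k ∈ Finset.range 2, (θ : G → ℂ) (u ^ k) * (1 : ℂ) ^ (2 - k)
        = (θ : G → ℂ) 1 + (θ : G → ℂ) u := by
      simp [Finset.sum_range_succ]
    rw [this, hθone, hθu] at hm
    exact_mod_cast hm
  have hb0 : b₀ = 2 * (m : ℝ) - (d : ℝ) := by
    have : ((2 * (m : ℝ) : ℝ) : ℂ) = (((d : ℝ) + b₀ : ℝ) : ℂ) := by
      push_cast
      exact hm'
    have := Complex.ofReal_injective this
    linarith
  refine ⟨2 * (m : ℤ) - (d : ℤ), ?_, ?_, ?_⟩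
  · rw [hθu, hb0]
    push_cast
    ring
  · -- `|b| ≤ d`
    have hnorm := Cfsg.Agent.Helper79.irr_norm_le θ u
    rw [hθu, hθdeg, Complex.norm_real, Real.norm_eq_abs, hb0] at hnorm
    have : |((2 * (m : ℤ) - (d : ℤ) : ℤ) : ℝ)| ≤ ((d : ℤ) : ℝ) := by
      push_cast
      exact hnorm
    exact_mod_cast this
  · -- the count
    have hcount := Cfsg.Agent.Helper78.sum_irr_mul_mul_div u u y⁻¹
    rw [hsum] at hcount
    have hdR : (d : ℝ) ≠ 0 := by exact_mod_cast hd.ne'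
    have hxR : (x : ℝ) ≠ 0 := by
      have : 0 < x := by omega
      exact_mod_cast this.ne'
    set cnt : ℕ := (Finset.univ.filter (fun ab : G × G =>
        ab.1 * u * ab.1⁻¹ * (ab.2 * u * ab.2⁻¹) * y⁻¹ = 1)).card with hcnt
    have hreal : (Nat.card G : ℝ) * (((d : ℝ) - b₀) ^ 2 / ((d : ℝ) * (x : ℝ))) = (cnt : ℝ) := by
      have : (((Nat.card G : ℝ) * (((d : ℝ) - b₀) ^ 2 / ((d : ℝ) * (x : ℝ))) : ℝ) : ℂ)
          = ((cnt : ℝ) : ℂ) := by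
        push_cast
        push_cast at hcount
        exact hcount
      exact Complex.ofReal_injective this
    have hfinal : (cnt : ℝ) * (x : ℝ) * (d : ℝ) = (Nat.card G : ℝ) * ((d : ℝ) - b₀) ^ 2 := by
      rw [← hreal]
      field_simp
    have hQ : (((cnt : ℚ) * (x : ℚ) * (d : ℚ) : ℚ) : ℝ)
        = (((Nat.card G : ℚ) * ((d : ℚ) - ((2 * (m : ℤ) - (d : ℤ) : ℤ) : ℚ)) ^ 2 : ℚ) : ℝ) := by
      push_cast
      rw [hfinal, hb0]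
    exact_mod_cast hQ

end Cfsg.Agent.Helper76.O5760
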