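import Cfsg.Agent.Lib.Helper55.CD3Defs
import Cfsg.Agent.Lib.Helper74.LinChar
import Cfsg.Agent.Lib.Helper79.Inflation
import Cfsg.Agent.Lib.Helper76.CD2CaseB

/-!
# CD3 (A4b) for helper55's server (S4460): abelian normal `p`-complement ⇒ M-group.
-/

set_option autoImplicit false
set_option linter.unusedVariables false
set_option linter.unusedSectionVars false
set_option linter.style.haveILetI false

namespace Cfsg.Agent.Helper76.CD3

open Cfsg Cfsg.Agent.Helper79 Cfsg.Agent.Helper81 Cfsg.Agent.Helper55.CD3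
open scoped ComplexConjugate

universe u

section core
variable {T : Type u} [Group T] [Fintype T]

/-- a `T`-invariant linear character `lam` of a normal subgroup `N` of index prime to `|N|`, with
`T/N` nilpotent: every irreducible character of `T` over `lam` is monomial -/
theorem h76_monomial_over_invariant (N : Subgroup T) [hN : N.Normal] [Fintype N] (lam : N →* ℂˣ)
    (hinv : ∀ (g : T) (n : N), lam ⟨g * n * g⁻¹, hN.conj_mem n n.2 g⟩ = lam n)
    (hcop : Nat.Coprime N.index (Nat.card N)) [Group.IsNilpotent (T ⧸ N)]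
    (ψ : IrrCharacter T)
    (hne : classInner (fun n : N => (ψ : T → ℂ) n) (fun n : N => ((lam n : ℂˣ) : ℂ)) ≠ 0) :
    ∃ (J : Subgroup T) (ν : J →* ℂˣ), (ψ : T → ℂ) = Cfsg.indFun J (fun h => ((ν h : ℂˣ) : ℂ)) := by
  classical
  haveI : Fintype (T ⧸ N) := Fintype.ofFinite _
  -- extend `lam` to `μ`
  obtain ⟨μ, hμ, -⟩ := exists_hom_extension_coprime N hN lam hinv (Nat.card N)
    (fun n => by
      rw [← map_pow, pow_card_eq_one', map_one]) hcop
  -- Clifford: `ψ_N = c • lam`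
  have hlamirr : IsIrrCharacter N (fun n : N => ((lam n : ℂˣ) : ℂ)) :=
    (Cfsg.Agent.Helper74.Lin.ofHom lam).2
  have hcl := clifford N hN ψ.2 hlamirr hne
  have hconj : conjSet N hN (fun n : N => ((lam n : ℂˣ) : ℂ)) =
      {fun n : N => ((lam n : ℂˣ) : ℂ)} := by
    ext φ
    constructor
    · rintro ⟨g, rfl⟩
      rw [Set.mem_singleton_iff]
      funext n
      rw [conjFun_apply, hinv]
    · intro h
      rw [Set.mem_singleton_iff] at h
      refine ⟨1, ?_⟩
      rw [h, conjFun_one]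
  rw [hconj, finsum_mem_singleton] at hcl
  set c : ℂ := classInner (fun n : N => (ψ : T → ℂ) n) (fun n : N => ((lam n : ℂˣ) : ℂ)) with hc
  have hψN : ∀ n : N, (ψ : T → ℂ) n = c * ((lam n : ℂˣ) : ℂ) := by
    intro n
    have := congrFun hcl n
    simpa using this
  -- the twist
  let β : IrrCharacter T := Cfsg.Agent.Helper74.Lin.twistIrr μ⁻¹ ψ
  have hβ : ∀ g : T, (β : T → ℂ) g = (((μ g)⁻¹ : ℂˣ) : ℂ) * (ψ : T → ℂ) g := fun g => rfl
  have hβ1 : (β : T → ℂ) 1 = c := by
    rw [hβ, map_one, inv_one, Units.val_one, one_mul]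
    have := hψN 1
    rw [map_one, Units.val_one, mul_one] at this
    exact this
  have hker : N ≤ irrKer β := by
    intro n hn
    rw [mem_irrKer, hβ1, hβ]
    have h1 := hψN ⟨n, hn⟩
    have h2 := hμ ⟨n, hn⟩
    simp only at h1 h2
    rw [h1, h2]
    rw [mul_comm c, ← mul_assoc, ← Units.val_mul, inv_mul_cancel, Units.val_one, one_mul]
  obtain ⟨βb, hβb⟩ := exists_deflate N β hker
  have hmonb := Cfsg.Agent.Helper3.nilpotent_monomial (βb : T ⧸ N → ℂ) βb.2
  have hval : ∀ g : T, (β : T → ℂ) g = (βb : T ⧸ N → ℂ) (QuotientGroup.mk' N g) := by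
    intro g
    rw [← hβb, inflate_apply]
    rfl
  obtain ⟨J, ν, hJ⟩ := Cfsg.Agent.Helper3.monomial_of_quotient N hval hmonb
  -- `ψ = β μ`
  refine ⟨J, ν * μ.comp J.subtype, ?_⟩
  have hμcf : IsClassFunction T (fun g : T => ((μ g : ℂˣ) : ℂ)) := by
    intro g h
    simp only [map_mul, map_inv]
    rw [mul_comm (μ h), mul_assoc, mul_inv_cancel, mul_one]
  have hprod := indFun_mul_restrict J (fun h : J => ((ν h : ℂˣ) : ℂ)) hμcf
  have e1 : (fun h : J => (((ν * μ.comp J.subtype) h : ℂˣ) : ℂ)) =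
      (fun h : J => ((ν h : ℂˣ) : ℂ)) * fun n : J => ((μ (n : T) : ℂˣ) : ℂ) := by
    funext h
    simp
  rw [e1, hprod, ← hJ]
  funext g
  rw [Pi.mul_apply, hβ, mul_comm, ← mul_assoc, ← Units.val_mul, mul_inv_cancel, Units.val_one,
    one_mul]

end core

section fin
variable {G : Type u} [Group G] [Fintype G]

/-- (A4b) abelian normal `p`-complement ⇒ `G` is an M-group. -/
theorem mgroup_of_abelian_pcompl (p : ℕ) (hp : p.Prime) (H : Subgroup G) [H.Normal]
    (hH : (Nat.card H).Coprime p) (k : ℕ) (hk : H.index = p ^ k)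
    (hHab : ∀ a ∈ H, ∀ b ∈ H, a * b = b * a) (χ : IrrCharacter G) : Monomial (χ : G → ℂ) := by
  classical
  have hN : H.Normal := inferInstance
  haveI : Fintype H := Fintype.ofFinite H
  haveI : Fact p.Prime := ⟨hp⟩
  -- a linear constituent
  obtain ⟨θ, e, -, -, hne⟩ := Cfsg.Agent.Helper76.CD2.exists_under H χ
  have hθdeg : charDegree (θ : H → ℂ) = 1 := by
    apply Cfsg.Agent.Helper76.CD2.all_linear_of_comm
    intro a b
    exact Subtype.ext (hHab a a.2 b b.2)
  have hθ1 : (θ : H → ℂ) 1 = 1 := by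
    rw [(irr_one_eq θ).1, hθdeg, Nat.cast_one]
  let lam : H →* ℂˣ := Cfsg.Agent.Helper74.Lin.toHom θ hθ1
  have hlam : ∀ h : H, ((lam h : ℂˣ) : ℂ) = (θ : H → ℂ) h := fun h => rfl
  -- the inertia group
  let T : Subgroup G := Cfsg.Agent.Helper3.inertiaSubgroup H hN (θ : H → ℂ)
  have hT : ∀ g : G, g ∈ T ↔ conjFun H hN (θ : H → ℂ) g = (θ : H → ℂ) := fun g => Iff.rfl
  haveI : Fintype T := Fintype.ofFinite T
  have hHT : H ≤ T := Cfsg.Agent.Helper3.le_inertiaSubgroup H hN
    (isClassFunction_of_isCharacter (IsIrrCharacter.isCharacter θ.2))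
  obtain ⟨ψ, hψ, hind, hψne⟩ := clifford_corr_surj H T hN hHT θ.2 hT χ.2 hne
  -- transport to the group `T`
  let H' : Subgroup T := H.subgroupOf T
  haveI hN' : H'.Normal := hN.subgroupOf T
  haveI : Fintype H' := Fintype.ofFinite H'
  let ι : H' ≃* H := Subgroup.subgroupOfEquivOfLe hHT
  let lam' : H' →* ℂˣ := lam.comp ι.toMonoidHom
  have hinv' : ∀ (g : T) (n : H'), lam' ⟨g * n * g⁻¹, hN'.conj_mem n n.2 g⟩ = lam' n := by
    intro g n
    apply Units.ext
    show ((lam (ι ⟨g * n * g⁻¹, hN'.conj_mem n n.2 g⟩) : ℂˣ) : ℂ) = ((lam (ι n) : ℂˣ) : ℂ)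
    rw [hlam, hlam]
    have hg := (hT g).1 g.2
    have := congrFun hg (ι n)
    rw [conjFun_apply] at this
    rw [← this]
    congr 1
  have hidx : H'.index ∣ p ^ k := by
    have h1 : H'.index = H.relIndex T := rfl
    rw [h1, ← hk, ← Subgroup.relIndex_mul_index hHT]
    exact Dvd.intro _ rfl
  have hcardH' : Nat.card H' = Nat.card H := Nat.card_congr ι.toEquiv
  have hcop' : Nat.Coprime H'.index (Nat.card H') := by
    rw [hcardH']
    exact Nat.Coprime.coprime_dvd_left hidx (Nat.Coprime.pow_left k hH.symm)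
  haveI : Group.IsNilpotent (T ⧸ H') := by
    obtain ⟨j, -, hj⟩ := (Nat.dvd_prime_pow hp).1 hidx
    have hcard : Nat.card (T ⧸ H') = p ^ j := by
      rw [← hj]; rfl
    exact (IsPGroup.of_card hcard).isNilpotent
  have hne' : classInner (fun n : H' => ψ n) (fun n : H' => ((lam' n : ℂˣ) : ℂ)) ≠ 0 := by
    have := classInner_comp_equiv ι (resTo hHT ψ) (θ : H → ℂ)
    have e2 : (fun n : H' => ((lam' n : ℂˣ) : ℂ)) = fun x => (θ : H → ℂ) (ι x) := by
      funext n
      exact hlam (ι n)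
    rw [e2]
    have e3 : (fun n : H' => ψ n) = fun x => resTo hHT ψ (ι x) := by
      funext n
      rfl
    rw [e3, this, hψne]
    exact hne
  obtain ⟨J, ν, hJ⟩ := h76_monomial_over_invariant H' lam' hinv' hcop' ⟨ψ, hψ⟩ hne'
  obtain ⟨H₂, lam₂, h2⟩ := Cfsg.Agent.Helper3.monomial_of_induced T (ψ := ψ) ⟨J, ν, hJ⟩
  exact ⟨H₂, lam₂, by rw [← hind, h2]⟩

end fin

end Cfsg.Agent.Helper76.CD3
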