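import Mathlib

/-!
# O2520 server (helper55, S0984), WAVE 2 piece (FAITH) `faithful_of_simple`
-/

set_option autoImplicit false

namespace Cfsg.Agent.Helper76.O2520

universe u

/-- (FAITH) an irreducible representation of degree `≥ 2` of a simple group is faithful. -/
theorem faithful_of_simple {G : Type u} [Group G] [Fintype G] [IsSimpleGroup G] {n : ℕ}
    (ρ : Representation ℂ G (Fin n → ℂ)) (hirr : ρ.IsIrreducible) (hn : 2 ≤ n) :
    ∀ g : G, ρ g = 1 → g = 1 := by
  intro g hg
  have hker : g ∈ MonoidHom.ker ρ := MonoidHom.mem_ker.mpr hg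
  rcases (MonoidHom.normal_ker ρ).eq_bot_or_eq_top with h | h
  · rw [h] at hker
    exact Subgroup.mem_bot.mp hker
  · exfalso
    have htriv : ∀ x, ρ x = 1 := fun x => by
      have hx : x ∈ MonoidHom.ker ρ := h ▸ Subgroup.mem_top x
      exact MonoidHom.mem_ker.mp hx
    let i0 : Fin n := ⟨0, by omega⟩
    let i1 : Fin n := ⟨1, by omega⟩
    have hne : i1 ≠ i0 := by
      intro hh
      have := congrArg Fin.val hh
      simp [i0, i1] at this
    let L : Subrepresentation ρ := ⟨Submodule.span ℂ {(Pi.single i0 1 : Fin n → ℂ)}, by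
      intro x v hv
      rw [htriv x]
      exact hv⟩
    have hmem0 : (Pi.single i0 1 : Fin n → ℂ) ∈ L.toSubmodule :=
      Submodule.subset_span (Set.mem_singleton _)
    rcases hirr.eq_bot_or_eq_top L with hL | hL
    · rw [hL] at hmem0
      have h0 : (Pi.single i0 1 : Fin n → ℂ) = 0 := (Submodule.mem_bot ℂ).mp hmem0
      have h1 := congrFun h0 i0
      simp at h1
    · have hmem1 : (Pi.single i1 1 : Fin n → ℂ) ∈ L.toSubmodule := by
        rw [hL]
        exact Submodule.mem_top
      obtain ⟨c, hc⟩ := Submodule.mem_span_singleton.mp hmem1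
      have h1 := congrFun hc i1
      rw [Pi.smul_apply, Pi.single_eq_of_ne hne, Pi.single_eq_same, smul_zero] at h1
      exact zero_ne_one h1

end Cfsg.Agent.Helper76.O2520
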