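import Cfsg.Agent.Lib.Helper76.AbelianNormal
import Mathlib.GroupTheory.SpecificGroups.Cyclic
import Mathlib.GroupTheory.IndexNormal

set_option autoImplicit false

namespace Cfsg.Agent.Helper76

open scoped commutatorElement

universe u

/-- In a group with a subgroup `N` of prime index, an element outside `N` generates the group
together with `N`. -/
lemma sup_zpowers_eq_top_of_prime_index {P : Type*} [Group P] (p : ℕ) [Fact p.Prime]
    (N : Subgroup P) (hN : N.index = p) (x : P)
    (hx : x ∉ N) : N ⊔ Subgroup.zpowers x = ⊤ := by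
  have hp : p.Prime := Fact.out
  have h1 := Subgroup.relIndex_mul_index (le_sup_left : N ≤ N ⊔ Subgroup.zpowers x)
  rw [hN] at h1
  have h2 : (N ⊔ Subgroup.zpowers x).index ∣ p := ⟨_, by rw [← h1, mul_comm]⟩
  rcases (Nat.dvd_prime hp).mp h2 with h | h
  · exact Subgroup.index_eq_one.mp h
  · exfalso
    rw [h] at h1
    have h3 : N.relIndex (N ⊔ Subgroup.zpowers x) = 1 := by
      have := hp.pos
      nlinarith
    rw [Subgroup.relIndex_eq_one] at h3
    apply hx
    apply h3
    apply (le_sup_right : Subgroup.zpowers x ≤ N ⊔ Subgroup.zpowers x)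
    exact Subgroup.mem_zpowers x

/-- A finite group whose order divides `p²` is commutative. -/
lemma isMulCommutative_of_card_dvd_prime_sq {G : Type*} [Group G] [Finite G] (p : ℕ)
    [Fact p.Prime] (h : Nat.card G ∣ p ^ 2) : IsMulCommutative G := by
  have hp : p.Prime := Fact.out
  obtain ⟨k, hk, hk2⟩ := (Nat.dvd_prime_pow hp).mp h
  interval_cases k
  · rw [pow_zero, Nat.card_eq_one_iff_unique] at hk2
    obtain ⟨hs, _⟩ := hk2
    exact ⟨⟨fun a b => Subsingleton.elim _ _⟩⟩
  · rw [pow_one] at hk2
    have : IsCyclic G := isCyclic_of_prime_card hk2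
    exact ⟨⟨fun a b => IsCyclic.commGroup.mul_comm a b⟩⟩
  · exact IsPGroup.isMulCommutative_of_card_eq_prime_sq hk2

/-- A group of order dividing `p^(n+2)` has nilpotency class at most `n+1`. -/
theorem nilpotencyClass_le_of_card_dvd (p : ℕ) [Fact p.Prime] (n : ℕ) :
    ∀ (G : Type u) [Group G] [Finite G], Nat.card G ∣ p ^ (n + 2) →
      Group.nilpotencyClass G ≤ n + 1 := by
  have hp : p.Prime := Fact.out
  induction n with
  | zero =>
    intro G _ _ h
    have hc := isMulCommutative_of_card_dvd_prime_sq p h
    have : Group.IsNilpotent G := (IsPGroup.of_card_dvd_pow h).isNilpotent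
    exact Group.IsNilpotent.nilpotencyClass_le_one_iff.mpr hc
  | succ n ih =>
    intro G _ _ h
    have hPG : IsPGroup p G := IsPGroup.of_card_dvd_pow h
    have hnil : Group.IsNilpotent G := hPG.isNilpotent
    rcases subsingleton_or_nontrivial G with hs | hnt
    · have := (Group.nilpotencyClass_zero_iff_subsingleton (G := G)).mpr hs
      omega
    · rw [Group.nilpotencyClass_eq_quotient_center_plus_one]
      have hcen : Nontrivial (Subgroup.center G) := hPG.center_nontrivial
      have hq : Nat.card (G ⧸ Subgroup.center G) ∣ p ^ (n + 2) := by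
        obtain ⟨k, hk, hk2⟩ := (Nat.dvd_prime_pow hp).mp h
        have h1 := Subgroup.card_eq_card_quotient_mul_card_subgroup (Subgroup.center G)
        obtain ⟨j, hj0, hj⟩ := (hPG.to_subgroup (Subgroup.center G)).nontrivial_iff_card.mp hcen
        obtain ⟨i, hi⟩ := IsPGroup.iff_card.mp (hPG.to_quotient (Subgroup.center G))
        rw [hk2, hj, hi, ← pow_add] at h1
        have h2 := Nat.pow_right_injective hp.two_le h1
        rw [hi]
        apply pow_dvd_pow
        omega
      have := ih (G ⧸ Subgroup.center G) hq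
      omega

end Cfsg.Agent.Helper76

namespace Cfsg.Agent.Helper76

open scoped commutatorElement

universe v

variable {P : Type v} [Group P]

/-- If `W ≤ C` is central in `C` and has index dividing a prime, then `C` is commutative. -/
lemma comm_of_central_relIndex_dvd_prime (p : ℕ) [Fact p.Prime] (C W : Subgroup P) (_hWC : W ≤ C)
    (hcen : ∀ w ∈ W, ∀ c ∈ C, w * c = c * w) (hidx : W.relIndex C ∣ p) :
    ∀ c ∈ C, ∀ c' ∈ C, c * c' = c' * c := by
  have h1 : W.subgroupOf C ≤ Subgroup.center C := by
    intro w hw
    rw [Subgroup.mem_subgroupOf] at hw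
    rw [Subgroup.mem_center_iff]
    intro c
    apply Subtype.ext
    simp only [Subgroup.coe_mul]
    exact (hcen _ hw _ c.2).symm
  have h2 : (Subgroup.center C).index ∣ p :=
    (Subgroup.index_dvd_of_le h1).trans hidx
  have h3 : Nat.card (C ⧸ Subgroup.center C) ∣ p := by
    rw [← Subgroup.index_eq_card]; exact h2
  have : IsCyclic (C ⧸ Subgroup.center C) := isCyclic_of_card_dvd_prime h3
  have hc := isMulCommutative_of_isCyclic_quotient_center_self C
  intro c hc1 c' hc2
  have := mul_comm' (⟨c, hc1⟩ : C) ⟨c', hc2⟩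
  simpa using congrArg Subtype.val this

/-- `Z ⊔ ⟨x⟩` is commutative. -/
lemma comm_center_sup_zpowers (x : P) :
    ∀ y ∈ Subgroup.center P ⊔ Subgroup.zpowers x, ∀ y' ∈ Subgroup.center P ⊔ Subgroup.zpowers x,
      y * y' = y' * y := by
  have hx : Subgroup.center P ⊔ Subgroup.zpowers x ≤ Subgroup.centralizer {x} := by
    apply sup_le
    · exact Subgroup.center_le_centralizer _
    · rw [Subgroup.zpowers_le, Subgroup.mem_centralizer_iff]
      intro h hh
      rw [Set.mem_singleton_iff] at hh
      rw [hh]
  intro y hy y' hy'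
  have hy1 : Subgroup.center P ⊔ Subgroup.zpowers x ≤ Subgroup.centralizer {y} := by
    apply sup_le
    · exact Subgroup.center_le_centralizer _
    · rw [Subgroup.zpowers_le, Subgroup.mem_centralizer_iff]
      intro h hh
      rw [Set.mem_singleton_iff] at hh
      rw [hh]
      have := hx hy
      rw [Subgroup.mem_centralizer_iff] at this
      exact (this x rfl).symm
  have := hy1 hy'
  rw [Subgroup.mem_centralizer_iff] at this
  exact this y rfl

/-- The commutator homomorphism `g ↦ ⁅g, x⁆` into the centre, for `x` in the second centre. -/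
def commCenterHom (x : P) (hx : ∀ g : P, g * x * g⁻¹ * x⁻¹ ∈ Subgroup.center P) :
    P →* Subgroup.center P where
  toFun g := ⟨g * x * g⁻¹ * x⁻¹, hx g⟩
  map_one' := by ext; simp
  map_mul' g h := by
    ext
    simp only [Subgroup.coe_mul, mul_inv_rev]
    have hz := hx h
    rw [Subgroup.mem_center_iff] at hz
    have h1 := hz g
    -- g h x h⁻¹ g⁻¹ x⁻¹ = g (h x h⁻¹ x⁻¹) x g⁻¹ x⁻¹ = (h x h⁻¹ x⁻¹) g x g⁻¹ x⁻¹
    calc g * h * x * (h⁻¹ * g⁻¹) * x⁻¹ = (g * (h * x * h⁻¹ * x⁻¹)) * x * g⁻¹ * x⁻¹ := by group
      _ = ((h * x * h⁻¹ * x⁻¹) * g) * x * g⁻¹ * x⁻¹ := by rw [h1]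
      _ = (h * x * h⁻¹ * x⁻¹) * (g * x * g⁻¹ * x⁻¹) := by group
      _ = g * x * g⁻¹ * x⁻¹ * (h * x * h⁻¹ * x⁻¹) := by
        have h2 := hz (g * x * g⁻¹ * x⁻¹)
        rw [h2]

lemma commCenterHom_ker (x : P) (hx : ∀ g : P, g * x * g⁻¹ * x⁻¹ ∈ Subgroup.center P) :
    (commCenterHom x hx).ker = Subgroup.centralizer {x} := by
  ext g
  rw [MonoidHom.mem_ker, Subgroup.mem_centralizer_iff, Subtype.ext_iff]
  simp only [commCenterHom, MonoidHom.coe_mk, OneHom.coe_mk, Subgroup.coe_one]
  constructor
  · intro h y hy
    rw [Set.mem_singleton_iff] at hy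
    rw [hy]
    have : g * x * g⁻¹ = x := by
      rw [mul_inv_eq_one] at h; exact h
    rw [mul_inv_eq_iff_eq_mul] at this
    exact this.symm
  · intro h
    have h1 := h x rfl
    rw [mul_inv_eq_one, mul_inv_eq_iff_eq_mul]
    exact h1.symm

end Cfsg.Agent.Helper76

namespace Cfsg.Agent.Helper76

open scoped commutatorElement

universe w

variable {P : Type w} [Group P]

lemma card_lt_card_of_lt [Finite P] {H K : Subgroup P} (h : H < K) : Nat.card H < Nat.card K := by
  rcases (Subgroup.card_le_of_le h.le).lt_or_eq with h1 | h1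
  · exact h1
  · exfalso
    exact h.ne (Subgroup.eq_of_le_of_card_ge h.le h1.ge)

/-- In a nonabelian group of order `p⁴` the centre has order `p` or `p²`. -/
lemma card_center_of_card_p4 (p : ℕ) [Fact p.Prime] (hP : Nat.card P = p ^ 4)
    (hna : ¬ IsMulCommutative P) :
    Nat.card (Subgroup.center P) = p ∨ Nat.card (Subgroup.center P) = p ^ 2 := by
  have hp : p.Prime := Fact.out
  obtain ⟨k, hk0, hk⟩ := IsPGroup.card_center_eq_prime_pow hP (by norm_num)
  have h1 := Subgroup.card_mul_index (Subgroup.center P)
  rw [hk, hP] at h1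
  have hk4 : k ≤ 4 := by
    have : p ^ k ∣ p ^ 4 := ⟨_, h1.symm⟩
    exact (Nat.pow_dvd_pow_iff_le_right hp.one_lt).mp this
  have hidx : (Subgroup.center P).index = p ^ (4 - k) := by
    have : p ^ k * (Subgroup.center P).index = p ^ k * p ^ (4 - k) := by
      rw [h1, ← pow_add]; congr 1; omega
    exact Nat.eq_of_mul_eq_mul_left (pow_pos hp.pos k) this
  interval_cases k
  · left; rw [hk, pow_one]
  · right; exact hk
  · exfalso
    apply hna
    have h3 : Nat.card (P ⧸ Subgroup.center P) ∣ p := by
      rw [← Subgroup.index_eq_card, hidx]; simp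
    have : IsCyclic (P ⧸ Subgroup.center P) := isCyclic_of_card_dvd_prime h3
    exact isMulCommutative_of_isCyclic_quotient_center_self P
  · exfalso
    apply hna
    have : Subgroup.center P = ⊤ := by
      rw [← Subgroup.index_eq_one, hidx]; simp
    exact Subgroup.center_eq_top_iff.mp this

variable [Finite P]

/-- A nonabelian group of order `p⁴` has an abelian subgroup of index `p`. -/
lemma exists_abelian_index_p (p : ℕ) [Fact p.Prime] (hP : Nat.card P = p ^ 4)
    (hna : ¬ IsMulCommutative P) :
    ∃ A : Subgroup P, A.index = p ∧ ∀ a ∈ A, ∀ a' ∈ A, a * a' = a' * a := by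
  have hp : p.Prime := Fact.out
  have hPG : IsPGroup p P := IsPGroup.of_card hP
  have hZtop : Subgroup.center P ≠ ⊤ := fun h => hna (Subgroup.center_eq_top_iff.mp h)
  -- general facts about `W = Z ⊔ ⟨x⟩` for `x ∉ Z`
  have hWfacts : ∀ x : P, x ∉ Subgroup.center P →
      Subgroup.center P < Subgroup.center P ⊔ Subgroup.zpowers x ∧
      Subgroup.center P ⊔ Subgroup.zpowers x ≠ ⊤ := by
    intro x hx
    constructor
    · apply lt_of_le_of_ne le_sup_left
      intro h
      apply hx
      rw [h]
      exact (le_sup_right : Subgroup.zpowers x ≤ _) (Subgroup.mem_zpowers x)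
    · intro h
      apply hna
      rw [isMulCommutative_iff]
      intro a b
      exact comm_center_sup_zpowers x a (by rw [h]; trivial) b (by rw [h]; trivial)
  rcases card_center_of_card_p4 p hP hna with hZ | hZ
  · -- |Z| = p : use an element of the second centre
    have hQ : IsPGroup p (P ⧸ Subgroup.center P) := hPG.to_quotient _
    have hQnt : Nontrivial (P ⧸ Subgroup.center P) := by
      rw [← Finite.one_lt_card_iff_nontrivial, ← Subgroup.index_eq_card]
      exact Subgroup.one_lt_index_of_ne_top hZtop
    have hcQ : Nontrivial (Subgroup.center (P ⧸ Subgroup.center P)) := hQ.center_nontrivial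
    obtain ⟨u, hu⟩ := exists_ne (1 : Subgroup.center (P ⧸ Subgroup.center P))
    obtain ⟨x, hxu⟩ := QuotientGroup.mk'_surjective (Subgroup.center P) (u : P ⧸ Subgroup.center P)
    have hxZ : x ∉ Subgroup.center P := by
      intro h
      apply hu
      apply Subtype.ext
      rw [← hxu, Subgroup.coe_one, QuotientGroup.mk'_apply, QuotientGroup.eq_one_iff]
      exact h
    have hx2 : ∀ g : P, g * x * g⁻¹ * x⁻¹ ∈ Subgroup.center P := by
      intro g
      rw [← QuotientGroup.eq_one_iff]
      have hu2 := u.2
      rw [Subgroup.mem_center_iff] at hu2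
      have h1 := hu2 (QuotientGroup.mk' _ g)
      rw [← hxu] at h1
      simp only [QuotientGroup.mk'_apply] at h1
      simp only [QuotientGroup.mk_mul, QuotientGroup.mk_inv]
      rw [h1]
      group
    set C := Subgroup.centralizer {x} with hC
    have hCidx : C.index = p := by
      have h1 : C.index ∣ p := by
        rw [hC, ← commCenterHom_ker x hx2, Subgroup.index_ker, ← hZ]
        exact Subgroup.card_subgroup_dvd_card _
      rcases (Nat.dvd_prime hp).mp h1 with h | h
      · exfalso
        apply hxZ
        rw [Subgroup.index_eq_one] at h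
        rw [Subgroup.mem_center_iff]
        intro g
        have : g ∈ C := by rw [h]; trivial
        rw [hC, Subgroup.mem_centralizer_iff] at this
        exact (this x rfl).symm
      · exact h
    refine ⟨C, hCidx, ?_⟩
    have hCcard : Nat.card C = p ^ 3 := by
      have h1 := Subgroup.card_mul_index C
      rw [hCidx, hP] at h1
      have : Nat.card C * p = p ^ 3 * p := by rw [h1]; ring
      exact Nat.eq_of_mul_eq_mul_right hp.pos this
    set W := Subgroup.center P ⊔ Subgroup.zpowers x with hW
    have hWC : W ≤ C := by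
      apply sup_le
      · exact Subgroup.center_le_centralizer _
      · rw [Subgroup.zpowers_le, hC, Subgroup.mem_centralizer_iff]
        intro h hh
        rw [Set.mem_singleton_iff] at hh
        rw [hh]
    have hWcen : ∀ w ∈ W, ∀ c ∈ C, w * c = c * w := by
      intro w hw c hc
      have h1 : W ≤ Subgroup.centralizer {c} := by
        apply sup_le
        · exact Subgroup.center_le_centralizer _
        · rw [Subgroup.zpowers_le, Subgroup.mem_centralizer_iff]
          intro h hh
          rw [Set.mem_singleton_iff] at hh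
          rw [hh]
          rw [hC, Subgroup.mem_centralizer_iff] at hc
          exact (hc x rfl).symm
      have := h1 hw
      rw [Subgroup.mem_centralizer_iff] at this
      exact (this c rfl).symm
    have hWcard : ∃ j, 2 ≤ j ∧ Nat.card W = p ^ j := by
      obtain ⟨j, hj⟩ := IsPGroup.iff_card.mp (hPG.to_subgroup W)
      refine ⟨j, ?_, hj⟩
      have h1 := card_lt_card_of_lt (hWfacts x hxZ).1
      rw [hZ, hj] at h1
      by_contra hlt
      have : j ≤ 1 := by omega
      have h2 : p ^ j ≤ p ^ 1 := Nat.pow_le_pow_right hp.pos this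
      rw [pow_one] at h2
      omega
    obtain ⟨j, hj2, hj⟩ := hWcard
    have hrel : W.relIndex C ∣ p := by
      have h1 := Subgroup.card_mul_index (W.subgroupOf C)
      have h2 : Nat.card (W.subgroupOf C) = Nat.card W :=
        Nat.card_congr (Subgroup.subgroupOfEquivOfLe hWC).toEquiv
      rw [h2, hj, hCcard] at h1
      have hj3 : j ≤ 3 := by
        have : p ^ j ∣ p ^ 3 := ⟨_, h1.symm⟩
        exact (Nat.pow_dvd_pow_iff_le_right hp.one_lt).mp this
      have h3 : (W.subgroupOf C).index = p ^ (3 - j) := by
        have : p ^ j * (W.subgroupOf C).index = p ^ j * p ^ (3 - j) := by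
          rw [h1, ← pow_add]; congr 1; omega
        exact Nat.eq_of_mul_eq_mul_left (pow_pos hp.pos j) this
      unfold Subgroup.relIndex
      rw [h3]
      have : 3 - j ≤ 1 := by omega
      calc p ^ (3 - j) ∣ p ^ 1 := pow_dvd_pow p this
        _ = p := pow_one p
    exact comm_of_central_relIndex_dvd_prime p C W hWC hWcen hrel
  · -- |Z| = p² : take `Z ⊔ ⟨x⟩`
    obtain ⟨x, hxZ⟩ : ∃ x : P, x ∉ Subgroup.center P := by
      by_contra h
      apply hZtop
      rw [eq_top_iff]
      intro g _
      by_contra hg
      exact h ⟨g, hg⟩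
    refine ⟨Subgroup.center P ⊔ Subgroup.zpowers x, ?_, comm_center_sup_zpowers x⟩
    set W := Subgroup.center P ⊔ Subgroup.zpowers x with hW
    obtain ⟨j, hj⟩ := IsPGroup.iff_card.mp (hPG.to_subgroup W)
    have h1 := card_lt_card_of_lt (hWfacts x hxZ).1
    rw [hZ, hj] at h1
    have hj2 : 2 < j := (Nat.pow_lt_pow_iff_right hp.one_lt).mp h1
    have h2 := Subgroup.card_mul_index W
    rw [hj, hP] at h2
    have hj4 : j ≤ 4 := by
      have : p ^ j ∣ p ^ 4 := ⟨_, h2.symm⟩
      exact (Nat.pow_dvd_pow_iff_le_right hp.one_lt).mp this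
    have hj4' : j ≠ 4 := by
      intro h
      apply (hWfacts x hxZ).2
      apply Subgroup.eq_top_of_card_eq
      rw [hj, hP, h]
    have hj3 : j = 3 := by omega
    rw [hj3] at h2
    have : p ^ 3 * W.index = p ^ 3 * p := by rw [h2]; ring
    exact Nat.eq_of_mul_eq_mul_left (pow_pos hp.pos 3) this

/-- **Lemma M**: in a nonabelian group of order `p⁴`, `|P'| · |Z(P)| = p³`. -/
theorem card_commutator_mul_card_center_of_card_p4 (p : ℕ) [Fact p.Prime]
    (hP : Nat.card P = p ^ 4) (hna : ¬ IsMulCommutative P) :
    Nat.card (commutator P) * Nat.card (Subgroup.center P) = p ^ 3 := by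
  have hp : p.Prime := Fact.out
  obtain ⟨A, hAidx, hA⟩ := exists_abelian_index_p p hP hna
  have hAn : A.Normal := by
    apply Subgroup.normal_of_index_eq_minFac_card
    rw [hAidx, hP, Nat.pow_minFac (by norm_num), hp.minFac_eq]
  have hAcard : Nat.card A = p ^ 3 := by
    have h1 := Subgroup.card_mul_index A
    rw [hAidx, hP] at h1
    have : Nat.card A * p = p ^ 3 * p := by rw [h1]; ring
    exact Nat.eq_of_mul_eq_mul_right hp.pos this
  have hcomm1 : Nat.card (commutator P) ≠ 1 := by
    intro h
    apply hna
    rw [Subgroup.card_eq_one] at h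
    rw [isMulCommutative_iff]
    intro a b
    rw [← commutatorElement_eq_one_iff_mul_comm]
    have : ⁅a, b⁆ ∈ commutator P := by
      rw [commutator_def]
      exact Subgroup.commutator_mem_commutator (Subgroup.mem_top a) (Subgroup.mem_top b)
    rw [h] at this
    exact Subgroup.mem_bot.mp this
  -- the centre is contained in A
  have hZA : Subgroup.center P ≤ A := by
    by_contra hle
    obtain ⟨z, hz, hzA⟩ := SetLike.not_le_iff_exists.mp hle
    have hgen := sup_zpowers_eq_top_of_prime_index p A hAidx z hzA
    have L := card_eq_card_commutator_mul_card_centralizer A hAn hA z hgen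
    have : A ⊓ Subgroup.centralizer {z} = A := by
      apply inf_eq_left.mpr
      intro a _
      rw [Subgroup.mem_centralizer_iff]
      intro h hh
      rw [Set.mem_singleton_iff] at hh
      rw [hh]
      rw [Subgroup.mem_center_iff] at hz
      exact (hz a).symm
    rw [this] at L
    have hApos : 0 < Nat.card A := Nat.card_pos
    have : Nat.card (commutator P) = 1 := by
      have h2 : 1 * Nat.card A = Nat.card (commutator P) * Nat.card A := by rw [one_mul]; exact L
      exact (Nat.eq_of_mul_eq_mul_right hApos h2).symm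
    exact hcomm1 this
  obtain ⟨b, hb⟩ : ∃ b : P, b ∉ A := by
    by_contra h
    have : A = ⊤ := by
      rw [eq_top_iff]; intro g _
      by_contra hg
      exact h ⟨g, hg⟩
    rw [this, Subgroup.index_top] at hAidx
    exact hp.one_lt.ne hAidx
  have hgen := sup_zpowers_eq_top_of_prime_index p A hAidx b hb
  have L := card_eq_card_commutator_mul_card_centralizer A hAn hA b hgen
  rw [inf_centralizer_eq_inf_center A hA b hgen, inf_eq_right.mpr hZA, hAcard] at L
  exact L.symm

end Cfsg.Agent.Helper76
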