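import Mathlib
import Cfsg.Agent.Lib.Helper78.CharSchur
import Cfsg.Agent.Lib.Helper79.CharBasic
import Cfsg.Agent.Lib.Helper76.O5760Core

/-!
# O5760 (helper7's server, S0980): piece (A3) `class_sum` (helper76)
-/

set_option autoImplicit false

namespace Cfsg.Agent.Helper76.O5760b

open Cfsg MulAction
open scoped ComplexConjugate

universe u v

/-- (A3) Values on an involution `u` and the class sum. -/
theorem class_sum {G : Type u} [Group G] [Fintype G] (R : Sylow 5 G)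
    (ε w : ℤ) (d x : ℕ) (X θ₁ θ₂ : IrrCharacter G)
    (hε : ε = 1 ∨ ε = -1) (hw : w = 1 ∨ w = -1) (hdeg : 1 + ε * (x : ℤ) + (d : ℤ) * w = 0)
    (hX : charDegree (X : G → ℂ) = x) (h1 : charDegree (θ₁ : G → ℂ) = d)
    (h2 : charDegree (θ₂ : G → ℂ) = d) (h12 : θ₁ ≠ θ₂) (hX1 : X ≠ θ₁) (hX2 : X ≠ θ₂)
    (hXt : (X : G → ℂ) ≠ fun _ => 1) (h1t : (θ₁ : G → ℂ) ≠ fun _ => 1) (h2t : (θ₂ : G → ℂ) ≠ fun _ => 1)
    (hXv : ∀ k ∈ (R : Subgroup G), k ≠ 1 → (X : G → ℂ) k = (ε : ℂ))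
    (hθv : ∀ k ∈ (R : Subgroup G), k ≠ 1 → (θ₁ : G → ℂ) k + (θ₂ : G → ℂ) k = (w : ℂ))
    (h0 : ∀ ψ : IrrCharacter G, ((ψ : G → ℂ) ≠ fun _ => 1) → ψ ≠ X → ψ ≠ θ₁ → ψ ≠ θ₂ →
      ∀ k ∈ (R : Subgroup G), k ≠ 1 → (ψ : G → ℂ) k = 0)
    (hag : ∀ y : G, (∀ g : G, g * y * g⁻¹ ∉ (R : Subgroup G)) → (θ₁ : G → ℂ) y = (θ₂ : G → ℂ) y)
    (hR : Nat.card (R : Subgroup G) = 5)
    (y : G) (hy : y ∈ (R : Subgroup G)) (hy1 : y ≠ 1) (u : G) (hu : orderOf u = 2) :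
    ∃ b : ℝ, (θ₁ : G → ℂ) u = (b : ℂ) ∧
      ∑ χ : IrrCharacter G, (χ : G → ℂ) u * (χ : G → ℂ) u * (χ : G → ℂ) y⁻¹ / (χ : G → ℂ) 1 =
        (((d : ℝ) - b) ^ 2 / ((d : ℝ) * (x : ℝ)) : ℝ) := by
  have hxpos : 0 < x := by rw [← hX]; exact (Cfsg.Agent.Helper79.irr_one_eq X).2
  have hdpos : 0 < d := by rw [← h1]; exact (Cfsg.Agent.Helper79.irr_one_eq θ₁).2
  have hsign : (ε = -1 ∧ w = 1 ∧ x = d + 1) ∨ (ε = 1 ∧ w = -1 ∧ d = x + 1) := by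
    rcases hε with rfl | rfl <;> rcases hw with rfl | rfl
    · exfalso; omega
    · right; refine ⟨rfl, rfl, ?_⟩; omega
    · left; refine ⟨rfl, rfl, ?_⟩; omega
    · exfalso; omega
  have hnc : ∀ a : G, a * u * a⁻¹ ∉ (R : Subgroup G) := by
    intro a ha
    have h1 : orderOf (a * u * a⁻¹) = 2 := by
      have := (MulAut.conj a).orderOf_eq u
      rw [MulAut.conj_apply] at this
      rw [this, hu]
    have h2 := Subgroup.orderOf_dvd_natCard (R : Subgroup G) ha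
    rw [h1, hR] at h2
    omega
  obtain ⟨b, hb1, _, hsum⟩ := Cfsg.Agent.Helper76.O5760Core.h76_class_sum_core (R : Subgroup G)
    ε w d x X θ₁ θ₂ hsign hX h1 h2 h12 hX1 hX2 hXt h1t h2t hXv hθv h0 hag y hy hy1 u hu hnc
  exact ⟨b, hb1, hsum⟩

end Cfsg.Agent.Helper76.O5760b
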