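import Mathlib
import Cfsg.Prelude.Def_Involutions
import Cfsg.Agent.Lib.Helper45.CIT

/-!
# S2202 lemma server, task T2a (helper76 for helper4)

In a group `L` whose involution centralizers have exponent two, with a noncyclic non-normal
Sylow 2-subgroup, no subgroup of odd order is transitive (by conjugation) on the involutions.
-/

set_option autoImplicit false
set_option linter.style.haveILetI false

namespace Cfsg.Agent.Helper76.AbInv

open Cfsg.Agent.Helper45.SE Cfsg.Agent.Helper45.CIT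
open Pointwise

theorem eq_one_of_sq_of_odd {L : Type*} [Group L] {y : L} (h2 : y ^ 2 = 1)
    (hodd : Odd (orderOf y)) : y = 1 := by
  have hd : orderOf y ∣ 2 := orderOf_dvd_of_pow_eq_one h2
  have : orderOf y = 1 := by
    rcases (Nat.dvd_prime Nat.prime_two).mp hd with h | h
    · exact h
    · rw [h] at hodd; exact absurd hodd (by decide)
  exact orderOf_eq_one_iff.mp this

theorem odd_orderOf_of_mem {L : Type*} [Group L] [Finite L] {Y : Subgroup L}
    (hY : Odd (Nat.card Y)) {y : L} (hy : y ∈ Y) : Odd (orderOf y) := by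
  have h1 : orderOf (⟨y, hy⟩ : Y) ∣ Nat.card Y := orderOf_dvd_natCard _
  rw [Subgroup.orderOf_mk] at h1
  exact hY.of_dvd_nat h1

/-- The `CIT` hypothesis from the exponent-two form. -/
theorem hyp_of {L : Type*} [Group L] (T : Sylow 2 L)
    (hnc : ¬ IsCyclic ↥(T : Subgroup L)) (hnn : ¬ (T : Subgroup L).Normal)
    (hC : ∀ t c : L, orderOf t = 2 → c * t = t * c → c ^ 2 = 1) : Hyp T := by
  refine ⟨hnc, hnn, ?_⟩
  intro t ht
  have hsq : ∀ c ∈ Subgroup.centralizer ({t} : Set L), c ^ 2 = 1 := by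
    intro c hc
    rw [Subgroup.mem_centralizer_singleton_iff] at hc
    exact hC t c ht hc
  refine ⟨⟨⟨?_⟩⟩, hsq⟩
  rintro ⟨a, ha⟩ ⟨b, hb⟩
  apply Subtype.ext
  have h1 := hsq a ha
  have h2 := hsq b hb
  have h3 := hsq (a * b) (Subgroup.mul_mem _ ha hb)
  show a * b = b * a
  have ha' : a⁻¹ = a := inv_eq_of_mul_eq_one_right (by rw [← pow_two]; exact h1)
  have hb' : b⁻¹ = b := inv_eq_of_mul_eq_one_right (by rw [← pow_two]; exact h2)
  have hab : (a * b)⁻¹ = a * b := inv_eq_of_mul_eq_one_right (by rw [← pow_two]; exact h3)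
  calc a * b = (a * b)⁻¹ := hab.symm
    _ = b⁻¹ * a⁻¹ := mul_inv_rev a b
    _ = b * a := by rw [ha', hb']

/-- T2a. -/
theorem no_odd_transitive {L : Type*} [Group L] [Finite L] (T : Sylow 2 L)
    (hnc : ¬ IsCyclic ↥(T : Subgroup L)) (hnn : ¬ (T : Subgroup L).Normal)
    (hC : ∀ t c : L, orderOf t = 2 → c * t = t * c → c ^ 2 = 1)
    (Y : Subgroup L) (hY : Odd (Nat.card Y))
    (htr : ∀ s t : L, orderOf s = 2 → orderOf t = 2 → ∃ y ∈ Y, y * s * y⁻¹ = t) : False := by
  have h : Hyp T := hyp_of T hnc hnn hC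
  have hse := h.se
  obtain ⟨z, hz, hzT, -⟩ := h.exists_central
  have hz1 := ne_one' hz
  have hzfix : z • pt0 T = pt0 T := fix_pt0 hzT
  -- a point different from `pt0`
  obtain ⟨w0, hw0⟩ : ∃ w : L ⧸ NT T, pt0 T ≠ w := by
    by_contra hcon
    push Not at hcon
    apply h.se.1
    rw [eq_top_iff]
    intro g _
    have := hcon (QuotientGroup.mk g)
    rw [pt0, QuotientGroup.eq] at this
    simpa using this
  -- elements of `Y` of "square one" are trivial
  have hYtriv : ∀ c ∈ Y, c ^ 2 = 1 → c = 1 := fun c hc h2 =>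
    eq_one_of_sq_of_odd h2 (odd_orderOf_of_mem hY hc)
  -- the point stabiliser in `Y`
  set Y0 : Subgroup L := Y ⊓ NT T with hY0
  -- `|Y0| = q - 1`
  have hcardY0 : Nat.card Y0 = Nat.card (T : Subgroup L) - 1 := by
    rw [← card_ne_one]
    apply Nat.card_eq_of_bijective
      (fun d : Y0 => (⟨⟨d.1 * z * d.1⁻¹, conj_mem_T d.2.2 hzT⟩, by
        intro h1
        have h2 : d.1 * z * d.1⁻¹ = 1 := congrArg Subtype.val h1
        apply hz1
        have : z = d.1⁻¹ * (d.1 * z * d.1⁻¹) * d.1 := by group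
        rw [this, h2]; group⟩ : {t : (T : Subgroup L) // t ≠ 1}))
    constructor
    · intro d1 d2 he
      have he' : d1.1 * z * d1.1⁻¹ = d2.1 * z * d2.1⁻¹ := by
        have := congrArg (fun t : {t : (T : Subgroup L) // t ≠ 1} => (t.1 : L)) he
        exact this
      have hc : (d2.1⁻¹ * d1.1) * z = z * (d2.1⁻¹ * d1.1) := by
        calc d2.1⁻¹ * d1.1 * z = d2.1⁻¹ * (d1.1 * z * d1.1⁻¹) * d1.1 := by group
          _ = d2.1⁻¹ * (d2.1 * z * d2.1⁻¹) * d1.1 := by rw [he']
          _ = z * (d2.1⁻¹ * d1.1) := by group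
      have h2 := hC z _ hz hc
      have h3 := hYtriv _ (Y.mul_mem (Y.inv_mem d2.2.1) d1.2.1) h2
      exact Subtype.ext (inv_mul_eq_one.mp h3).symm
    · rintro ⟨⟨t, htT⟩, ht1⟩
      have ht1' : t ≠ 1 := fun h1 => ht1 (Subtype.ext h1)
      have ht2 := h.orderOf_eq_two htT ht1'
      obtain ⟨y, hyY, hy⟩ := htr z t hz ht2
      have hfix1 : t • (y • pt0 T) = y • pt0 T := by
        rw [← hy, ← mul_smul]
        have : y * z * y⁻¹ * y = y * z := by group
        rw [this, mul_smul, hzfix]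
      have hfix2 : t • pt0 T = pt0 T := fix_pt0 htT
      have hyN : y ∈ NT T := mem_NT_iff.mpr (fix_unique hse ht2 hfix1 hfix2)
      exact ⟨⟨y, hyY, hyN⟩, Subtype.ext (Subtype.ext hy)⟩
  -- Schur–Zassenhaus conjugacy inside `N(T)`
  set A : Subgroup (NT T) := (T : Subgroup L).subgroupOf (NT T) with hA
  haveI : A.Normal := Subgroup.normal_in_normalizer
  haveI : IsMulCommutative A := ⟨⟨fun a b => by
    apply Subtype.ext; apply Subtype.ext
    exact h.comm _ (Subgroup.mem_subgroupOf.mp a.2) _ (Subgroup.mem_subgroupOf.mp b.2)⟩⟩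
  have hcardA : Nat.card A = Nat.card (T : Subgroup L) :=
    Nat.card_congr (Subgroup.subgroupOfEquivOfLe h.le_NT).toEquiv
  have hqpos : 0 < Nat.card (T : Subgroup L) := Nat.card_pos
  have hidx : A.index = Nat.card (T : Subgroup L) - 1 := by
    have h1 := A.card_mul_index
    rw [hcardA, h.card_NT] at h1
    exact Nat.eq_of_mul_eq_mul_left hqpos h1
  have hcop : (Nat.card A).Coprime A.index := by
    rw [hcardA, hidx]
    obtain ⟨m, hm⟩ : ∃ m, Nat.card (T : Subgroup L) = m + 1 :=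
      ⟨Nat.card (T : Subgroup L) - 1, by omega⟩
    rw [hm]
    simp
  set Y' : Subgroup (NT T) := Y0.subgroupOf (NT T) with hY'
  have hcardY' : Nat.card Y' = Nat.card (T : Subgroup L) - 1 := by
    rw [← hcardY0]
    exact Nat.card_congr (Subgroup.subgroupOfEquivOfLe (inf_le_right : Y0 ≤ NT T)).toEquiv
  have hcompl : Subgroup.IsComplement' A Y' := by
    apply Subgroup.isComplement'_of_card_mul_and_disjoint
    · rw [hcardA, hcardY', h.card_NT]
    · rw [Subgroup.disjoint_def]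
      intro x hxA hxY
      have hxT : (x : L) ∈ (T : Subgroup L) := Subgroup.mem_subgroupOf.mp hxA
      have hxY0 : (x : L) ∈ Y0 := Subgroup.mem_subgroupOf.mp hxY
      have h2 : (x : L) ^ 2 = 1 := by rw [pow_two]; exact h.sq _ hxT
      exact Subtype.ext (hYtriv _ hxY0.1 h2)
  obtain ⟨a, haA, he⟩ := Cfsg.Agent.S0002.result A hcop _ _ (h.isComplement' hw0).symm hcompl
  have haT : (a : L) ∈ (T : Subgroup L) := Subgroup.mem_subgroupOf.mp haA
  set w : L ⧸ NT T := (a : L) • w0 with hw_def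
  have hw : pt0 T ≠ w := by
    intro h1
    apply hw0
    have h2 : (a : L) • pt0 T = pt0 T := fix_pt0 haT
    rw [← h2] at h1
    exact smul_left_cancel _ h1
  -- `Y0` fixes `w`
  have hfixw : ∀ d ∈ Y0, d • w = w := by
    intro d hd
    have h1 : (⟨d, hd.2⟩ : NT T) ∈ Y' := Subgroup.mem_subgroupOf.mpr hd
    rw [← he, mem_conj_smul', Subgroup.mem_subgroupOf] at h1
    have h2 : (a : L)⁻¹ * d * (a : L) ∈ Dw T w0 := h1
    have h3 := (mem_Dw.mp h2).2
    have : d • ((a : L) • w0) = (a : L) • (((a : L)⁻¹ * d * (a : L)) • w0) := by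
      rw [← mul_smul, ← mul_smul]; congr 1; group
    rw [hw_def, this, h3]
  -- `Y0 = D_w`
  have hY0Dw : Y0 = Dw T w := by
    apply Subgroup.eq_of_le_of_card_ge
    · intro d hd
      exact mem_Dw.mpr ⟨hd.2, hfixw d hd⟩
    · rw [h.card_Dw hw, hcardY0]
  have hfixset : ∀ x : L ⧸ NT T, (∀ d ∈ Y0, d • x = x) → x = pt0 T ∨ x = w := by
    intro x hx
    apply h.fix_Dw hw
    intro d hd
    rw [← hY0Dw] at hd
    exact hx d hd
  -- an element of `Y` moving `pt0` to `w`
  obtain ⟨y, hyY, hyw⟩ : ∃ y ∈ Y, y • pt0 T = w := by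
    obtain ⟨g, hg⟩ : ∃ g : L, g • pt0 T = w := by
      induction w using QuotientGroup.induction_on with
      | H g => exact ⟨g, smul_pt0 g⟩
    have hz' : orderOf (g * z * g⁻¹) = 2 := by rw [orderOf_conj', hz]
    obtain ⟨y, hyY, hy⟩ := htr z (g * z * g⁻¹) hz hz'
    refine ⟨y, hyY, ?_⟩
    have hfix1 : (g * z * g⁻¹) • (y • pt0 T) = y • pt0 T := by
      rw [← hy, ← mul_smul]
      have : y * z * y⁻¹ * y = y * z := by group
      rw [this, mul_smul, hzfix]
    have hfix2 : (g * z * g⁻¹) • (g • pt0 T) = g • pt0 T := by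
      rw [← mul_smul]
      have : g * z * g⁻¹ * g = g * z := by group
      rw [this, mul_smul, hzfix]
    rw [← hg]
    exact fix_unique hse hz' hfix1 hfix2
  have hyinv : y⁻¹ • w = pt0 T := by rw [inv_smul_eq_iff, hyw]
  -- `y • w` is fixed by `Y0`
  have hfix_yw : ∀ d ∈ Y0, d • (y • w) = y • w := by
    intro d hd
    have hd'' : y⁻¹ * d * y ∈ Y0 := by
      refine ⟨Y.mul_mem (Y.mul_mem (Y.inv_mem hyY) hd.1) hyY, ?_⟩
      apply mem_NT_iff.mpr
      rw [mul_smul, mul_smul, hyw, hfixw d hd, hyinv]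
    have h1 := hfixw _ hd''
    have hmul : d * y = y * (y⁻¹ * d * y) := by group
    have : d • (y • w) = y • ((y⁻¹ * d * y) • w) := by
      rw [← mul_smul, hmul, mul_smul]
    rw [this, h1]
  have hswap : y • w = pt0 T := by
    rcases hfixset _ hfix_yw with h1 | h1
    · exact h1
    · exfalso
      apply hw
      rw [← hyw] at h1
      have h2 := smul_left_cancel _ h1
      rw [hyw] at h2
      exact h2.symm
  -- contradiction with the odd order of `y`
  have hsq : (y ^ 2) • pt0 T = pt0 T := by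
    rw [pow_two, mul_smul, hyw, hswap]
  have hsqmem : y ^ 2 ∈ MulAction.stabilizer L (pt0 T) := MulAction.mem_stabilizer_iff.mpr hsq
  obtain ⟨k, hk⟩ := odd_orderOf_of_mem hY hyY
  have hpow : y ^ (2 * k + 1) = 1 := by rw [← hk]; exact pow_orderOf_eq_one y
  have hmem2 : (y ^ 2) ^ k ∈ MulAction.stabilizer L (pt0 T) := Subgroup.pow_mem _ hsqmem k
  have h3 : (y ^ 2) ^ k • pt0 T = pt0 T := MulAction.mem_stabilizer_iff.mp hmem2
  have h4 : y ^ (2 * k + 1) = y * (y ^ 2) ^ k := by
    rw [← pow_mul, pow_succ']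
  apply hw
  calc pt0 T = (1 : L) • pt0 T := (one_smul _ _).symm
    _ = (y ^ (2 * k + 1)) • pt0 T := by rw [hpow]
    _ = y • ((y ^ 2) ^ k • pt0 T) := by rw [h4, mul_smul]
    _ = w := by rw [h3, hyw]

end Cfsg.Agent.Helper76.AbInv
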