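import Mathlib
import Cfsg.Prelude.Def_Involutions
import Cfsg.Agent.Lib.Helper4.AbInv.Defs
import Cfsg.Agent.Lib.Helper76.AbInvT2a

/-!
# S2202 lemma server, task T2b, part 1 (helper76 for helper4): general lemmas

* `oddPart`: the subgroup of odd order elements of an (abelian) involution centralizer;
* Sylow 2-subgroups are abelian under `AbInvHyp`;
* `good_no_odd_transitive`: T2a for a group with an internal decomposition `L × B`.
-/

set_option autoImplicit false
set_option linter.style.haveILetI false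

namespace Cfsg.Agent.Helper76.AbInv

open Cfsg.Agent.Helper4.AbInv Cfsg.Agent.Helper45.SE
open Pointwise

section basics

variable {K : Type*} [Group K]

theorem odd_orderOf_mul {x y : K} (hc : Commute x y) (hx : Odd (orderOf x))
    (hy : Odd (orderOf y)) : Odd (orderOf (x * y)) :=
  (hx.mul hy).of_dvd_nat hc.orderOf_mul_dvd_mul_orderOf

theorem odd_card_of_forall_odd [Finite K] (S : Subgroup K) (h : ∀ x ∈ S, Odd (orderOf x)) :
    Odd (Nat.card S) := by
  by_contra hne
  rw [Nat.not_odd_iff_even] at hne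
  obtain ⟨s, hsS, hs⟩ := exists_invol_of_even S hne
  have := h s hsS
  rw [hs] at this
  exact absurd this (by decide)

theorem inv_comm_of_comm {x t : K} (hx : x * t = t * x) : x⁻¹ * t = t * x⁻¹ := by
  calc x⁻¹ * t = x⁻¹ * (t * x) * x⁻¹ := by group
    _ = x⁻¹ * (x * t) * x⁻¹ := by rw [hx]
    _ = t * x⁻¹ := by group

/-- The odd order elements of the centralizer of the involution `t`. -/
def oddPart (hab : AbInvHyp K) (t : K) (ht : orderOf t = 2) : Subgroup K where
  carrier := {x | x * t = t * x ∧ Odd (orderOf x)}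
  mul_mem' := by
    rintro x y ⟨hx, hxo⟩ ⟨hy, hyo⟩
    refine ⟨by rw [mul_assoc, hy, ← mul_assoc, hx, mul_assoc], ?_⟩
    exact odd_orderOf_mul (show Commute x y from hab t ht x y hx hy) hxo hyo
  one_mem' := ⟨by simp, by simp⟩
  inv_mem' := by
    rintro x ⟨hx, hxo⟩
    exact ⟨inv_comm_of_comm hx, by rwa [orderOf_inv]⟩

theorem mem_oddPart {hab : AbInvHyp K} {t : K} {ht : orderOf t = 2} {x : K} :
    x ∈ oddPart hab t ht ↔ x * t = t * x ∧ Odd (orderOf x) := Iff.rfl

theorem oddPart_eq_of_commute (hab : AbInvHyp K) {s t : K} (hs : orderOf s = 2)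
    (ht : orderOf t = 2) (hst : s * t = t * s) : oddPart hab s hs = oddPart hab t ht := by
  ext x
  simp only [mem_oddPart]
  constructor
  · rintro ⟨hx, hxo⟩
    exact ⟨hab s hs x t hx hst.symm, hxo⟩
  · rintro ⟨hx, hxo⟩
    exact ⟨hab t ht x s hx hst, hxo⟩

theorem mem_oddPart_conj (hab : AbInvHyp K) {s s' : K} (hs : orderOf s = 2)
    (hs' : orderOf s' = 2) (k : K) (hrel : s' = k * s * k⁻¹) (x : K) :
    x ∈ oddPart hab s' hs' ↔ k⁻¹ * x * k ∈ oddPart hab s hs := by
  subst hrel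
  simp only [mem_oddPart]
  have ho : orderOf (k⁻¹ * x * k) = orderOf x := by
    have := orderOf_conj' k⁻¹ x
    rwa [inv_inv] at this
  constructor
  · rintro ⟨hx, hxo⟩
    refine ⟨?_, by rwa [ho]⟩
    calc k⁻¹ * x * k * s = k⁻¹ * (x * (k * s * k⁻¹)) * k := by group
      _ = k⁻¹ * ((k * s * k⁻¹) * x) * k := by rw [hx]
      _ = s * (k⁻¹ * x * k) := by group
  · rintro ⟨hx, hxo⟩
    refine ⟨?_, by rwa [ho] at hxo⟩
    calc x * (k * s * k⁻¹) = k * ((k⁻¹ * x * k) * s) * k⁻¹ := by group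
      _ = k * (s * (k⁻¹ * x * k)) * k⁻¹ := by rw [hx]
      _ = k * s * k⁻¹ * x := by group

theorem isPGroup_zpowers_of_invol {t : K} (ht : orderOf t = 2) :
    IsPGroup 2 (Subgroup.zpowers t) := by
  apply IsPGroup.of_card (n := 1)
  rw [Nat.card_zpowers, ht, pow_one]

variable [Finite K]

omit [Finite K] in
theorem exists_sylow_mem {t : K} (ht : orderOf t = 2) :
    ∃ Q : Sylow 2 K, t ∈ (Q : Subgroup K) := by
  haveI : Fact (Nat.Prime 2) := ⟨Nat.prime_two⟩
  obtain ⟨Q, hQ⟩ := (isPGroup_zpowers_of_invol ht).exists_le_sylow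
  exact ⟨Q, hQ (Subgroup.mem_zpowers t)⟩

/-- Sylow 2-subgroups are abelian. -/
theorem sylow_comm (hab : AbInvHyp K) (S : Sylow 2 K) :
    ∀ x ∈ (S : Subgroup K), ∀ y ∈ (S : Subgroup K), x * y = y * x := by
  haveI : Fact (Nat.Prime 2) := ⟨Nat.prime_two⟩
  intro x hx y hy
  by_cases htriv : Nontrivial (S : Subgroup K)
  · have hcen : Nontrivial (Subgroup.center (S : Subgroup K)) := S.isPGroup'.center_nontrivial
    have hp : IsPGroup 2 (Subgroup.center (S : Subgroup K)) := S.isPGroup'.to_subgroup _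
    obtain ⟨n, hn⟩ := IsPGroup.iff_card.mp hp
    have hn0 : n ≠ 0 := by
      intro h0
      rw [h0, pow_zero] at hn
      have := (Nat.card_eq_one_iff_unique.mp hn).1
      exact not_subsingleton _ this
    have h2dvd : 2 ∣ Nat.card (Subgroup.center (S : Subgroup K)) := by
      rw [hn]; exact dvd_pow_self 2 hn0
    obtain ⟨z, hz⟩ :=
      exists_prime_orderOf_dvd_card' (G := Subgroup.center (S : Subgroup K)) 2 h2dvd
    have hzG : orderOf ((z : (S : Subgroup K)) : K) = 2 := by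
      rw [Subgroup.orderOf_coe, Subgroup.orderOf_coe, hz]
    have hcz : ∀ n ∈ (S : Subgroup K),
        n * ((z : (S : Subgroup K)) : K) = ((z : (S : Subgroup K)) : K) * n := by
      intro n hn
      have := Subgroup.mem_center_iff.mp z.2 ⟨n, hn⟩
      have h2 := congrArg (Subtype.val) this
      simpa using h2
    exact hab _ hzG x y (hcz x hx) (hcz y hy)
  · rw [not_nontrivial_iff_subsingleton] at htriv
    have hx1 : x = 1 := by
      have := Subsingleton.elim (⟨x, hx⟩ : (S : Subgroup K)) 1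
      exact congrArg Subtype.val this
    rw [hx1]; simp

/-- If a Sylow 2-subgroup is normal, any two involutions commute. -/
theorem invol_commute_of_normal_sylow (hab : AbInvHyp K) (S : Sylow 2 K)
    (hS : (S : Subgroup K).Normal) {s t : K} (hs : orderOf s = 2) (ht : orderOf t = 2) :
    s * t = t * s := by
  haveI : Fact (Nat.Prime 2) := ⟨Nat.prime_two⟩
  haveI := Sylow.unique_of_normal S hS
  obtain ⟨Q1, h1⟩ := exists_sylow_mem hs
  obtain ⟨Q2, h2⟩ := exists_sylow_mem ht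
  have e1 : Q1 = S := Subsingleton.elim _ _
  have e2 : Q2 = S := Subsingleton.elim _ _
  rw [e1] at h1; rw [e2] at h2
  exact sylow_comm hab S s h1 t h2

omit [Finite K] in
theorem mem_sylow_smul {Q : Sylow 2 K} {h x : K} (hx : x ∈ (Q : Subgroup K)) :
    h * x * h⁻¹ ∈ ((h • Q : Sylow 2 K) : Subgroup K) := by
  rw [Sylow.smul_def, Sylow.pointwise_smul_def, Cfsg.Agent.Helper45.CIT.mem_conj_smul']
  have : h⁻¹ * (h * x * h⁻¹) * h = x := by group
  rw [this]; exact hx

/-- All the odd parts have the same order. -/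
theorem card_oddPart_eq (hab : AbInvHyp K) {s t : K} (hs : orderOf s = 2) (ht : orderOf t = 2) :
    Nat.card (oddPart hab s hs) = Nat.card (oddPart hab t ht) := by
  haveI : Fact (Nat.Prime 2) := ⟨Nat.prime_two⟩
  obtain ⟨R, hR⟩ := exists_sylow_mem hs
  obtain ⟨Q, hQ⟩ := exists_sylow_mem ht
  obtain ⟨h, rfl⟩ := MulAction.exists_smul_eq K Q R
  have ht' : orderOf (h * t * h⁻¹) = 2 := by rw [orderOf_conj', ht]
  have hmem : h * t * h⁻¹ ∈ ((h • Q : Sylow 2 K) : Subgroup K) := mem_sylow_smul hQ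
  have hcomm : s * (h * t * h⁻¹) = (h * t * h⁻¹) * s := sylow_comm hab _ s hR _ hmem
  rw [oddPart_eq_of_commute hab hs ht' hcomm]
  apply Nat.card_congr
  exact
    { toFun := fun x => ⟨h⁻¹ * x.1 * h, (mem_oddPart_conj hab ht ht' h rfl x.1).mp x.2⟩
      invFun := fun y => ⟨h * y.1 * h⁻¹, (mem_oddPart_conj hab ht ht' h rfl _).mpr (by
        have : h⁻¹ * (h * y.1 * h⁻¹) * h = y.1 := by group
        rw [this]; exact y.2)⟩
      left_inv := fun x => Subtype.ext (by
        show h * (h⁻¹ * x.1 * h) * h⁻¹ = x.1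
        group)
      right_inv := fun y => Subtype.ext (by
        show h⁻¹ * (h * y.1 * h⁻¹) * h = y.1
        group) }

end basics

section good

variable {H : Type*} [Group H] (L B : Subgroup H)

theorem exists_decomp [hLn : L.Normal] (hsup : L ⊔ B = ⊤) (x : H) :
    ∃ l ∈ L, ∃ b ∈ B, l * b = x := by
  have h1 : x ∈ ((L ⊔ B : Subgroup H) : Set H) := by rw [hsup]; trivial
  rw [Subgroup.normal_mul] at h1
  exact Set.mem_mul.mp h1

variable {L B}

theorem B_comm (hB : B ≤ Subgroup.center H) {b : H} (hb : b ∈ B) (x : H) : b * x = x * b :=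
  (Subgroup.mem_center_iff.mp (hB hb) x).symm

theorem pow_eq_one_of_mul (hB : B ≤ Subgroup.center H) (hLB : L ⊓ B = ⊥) {l b : H}
    (hl : l ∈ L) (hb : b ∈ B) {n : ℕ} (h : (l * b) ^ n = 1) : l ^ n = 1 ∧ b ^ n = 1 := by
  have hc : Commute l b := (B_comm hB hb l).symm
  rw [hc.mul_pow] at h
  have h1 : l ^ n = (b ^ n)⁻¹ := eq_inv_of_mul_eq_one_left h
  have h2 : l ^ n ∈ L ⊓ B := ⟨L.pow_mem hl n, by rw [h1]; exact B.inv_mem (B.pow_mem hb n)⟩
  rw [hLB, Subgroup.mem_bot] at h2
  refine ⟨h2, ?_⟩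
  rw [h2, one_mul] at h; exact h

variable [Finite H]

/-- 2-elements lie in `L`. -/
theorem mem_L_of_pow_two [hLn : L.Normal] (hB : B ≤ Subgroup.center H)
    (hBodd : Odd (Nat.card B)) (hLB : L ⊓ B = ⊥) (hsup : L ⊔ B = ⊤) {x : H} {k : ℕ}
    (hx : x ^ (2 ^ k) = 1) : x ∈ L := by
  obtain ⟨l, hl, b, hb, rfl⟩ := exists_decomp L B hsup x
  obtain ⟨-, h2⟩ := pow_eq_one_of_mul hB hLB hl hb hx
  have hdvd : orderOf b ∣ 2 ^ k := orderOf_dvd_of_pow_eq_one h2
  have hodd : Odd (orderOf b) := odd_orderOf_of_mem hBodd hb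
  have h1 : orderOf b = 1 := (hodd.coprime_two_right.pow_right k).eq_one_of_dvd hdvd
  rw [orderOf_eq_one_iff.mp h1, mul_one]
  exact hl

/-- T2a transported to a group with an internal decomposition `L × B`, `B` central of odd
order, `L` with involution centralizers of exponent two. -/
theorem good_no_odd_transitive (L B : Subgroup H) (hLn : L.Normal)
    (hB : B ≤ Subgroup.center H) (hBodd : Odd (Nat.card B)) (hLB : L ⊓ B = ⊥)
    (hsup : L ⊔ B = ⊤)
    (hexp : ∀ t ∈ L, orderOf t = 2 → ∀ c ∈ L, c * t = t * c → c ^ 2 = 1)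
    (T : Sylow 2 H) (hnc : ¬ IsCyclic ↥(T : Subgroup H)) (hnn : ¬ (T : Subgroup H).Normal)
    (D : Subgroup H) (hD : Odd (Nat.card D))
    (htr : ∀ s t : H, orderOf s = 2 → orderOf t = 2 → ∃ d ∈ D, d * s * d⁻¹ = t) : False := by
  haveI := hLn
  have hTL : (T : Subgroup H) ≤ L := by
    intro x hx
    obtain ⟨k, hk⟩ := T.isPGroup' ⟨x, hx⟩
    have hk' : x ^ (2 ^ k) = 1 := by
      have := congrArg Subtype.val hk
      simpa using this
    exact mem_L_of_pow_two hB hBodd hLB hsup hk'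
  set T' : Sylow 2 ↥L := T.subtype hTL with hT'
  have eT' : (T' : Subgroup ↥L) = (T : Subgroup H).subgroupOf L := Sylow.coe_subtype _ hTL
  have hnc' : ¬ IsCyclic ↥(T' : Subgroup ↥L) := by
    intro hc
    apply hnc
    rw [eT'] at hc
    exact (Subgroup.subgroupOfEquivOfLe hTL).isCyclic.mp hc
  have hnn' : ¬ (T' : Subgroup ↥L).Normal := by
    intro hn
    apply hnn
    constructor
    intro x hx h
    obtain ⟨l, hl, b, hb, rfl⟩ := exists_decomp L B hsup h
    have h1 : l * b * x * (l * b)⁻¹ = l * x * l⁻¹ := by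
      have hbx := B_comm hB hb x
      calc l * b * x * (l * b)⁻¹ = l * (b * x) * b⁻¹ * l⁻¹ := by group
        _ = l * (x * b) * b⁻¹ * l⁻¹ := by rw [hbx]
        _ = l * x * l⁻¹ := by group
    rw [h1]
    have hxL : x ∈ L := hTL hx
    have hmem : (⟨x, hxL⟩ : ↥L) ∈ (T' : Subgroup ↥L) := by
      rw [eT']; exact Subgroup.mem_subgroupOf.mpr hx
    have h2 := hn.conj_mem ⟨x, hxL⟩ hmem ⟨l, hl⟩
    rw [eT', Subgroup.mem_subgroupOf] at h2
    exact h2
  -- the projection of `D` to `L`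
  let Y : Subgroup ↥L :=
    { carrier := {l | ∃ b ∈ B, (l : H) * b ∈ D}
      mul_mem' := by
        rintro l1 l2 ⟨b1, hb1, h1⟩ ⟨b2, hb2, h2⟩
        refine ⟨b1 * b2, B.mul_mem hb1 hb2, ?_⟩
        have hc := B_comm hB hb1 (l2 : H)
        have : ((l1 * l2 : ↥L) : H) * (b1 * b2) = ((l1 : H) * b1) * ((l2 : H) * b2) := by
          rw [Subgroup.coe_mul]
          calc (l1 : H) * l2 * (b1 * b2) = l1 * (l2 * b1) * b2 := by group
            _ = l1 * (b1 * l2) * b2 := by rw [hc]
            _ = ((l1 : H) * b1) * ((l2 : H) * b2) := by group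
        rw [this]; exact D.mul_mem h1 h2
      one_mem' := ⟨1, B.one_mem, by simp [D.one_mem]⟩
      inv_mem' := by
        rintro l ⟨b, hb, h⟩
        refine ⟨b⁻¹, B.inv_mem hb, ?_⟩
        have hc := B_comm hB (B.inv_mem hb) ((l : H)⁻¹)
        have : ((l⁻¹ : ↥L) : H) * b⁻¹ = ((l : H) * b)⁻¹ := by
          rw [mul_inv_rev, Subgroup.coe_inv, hc]
        rw [this]; exact D.inv_mem h }
  have hYmem : ∀ l : ↥L, l ∈ Y ↔ ∃ b ∈ B, (l : H) * b ∈ D := fun l => Iff.rfl
  have hYodd : Odd (Nat.card Y) := by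
    apply odd_card_of_forall_odd
    intro l hl
    obtain ⟨b, hb, hlb⟩ := (hYmem l).mp hl
    have hm : Odd (orderOf ((l : H) * b)) := odd_orderOf_of_mem hD hlb
    obtain ⟨h1, -⟩ := pow_eq_one_of_mul hB hLB l.2 hb (pow_orderOf_eq_one ((l : H) * b))
    have hdvd : orderOf (l : H) ∣ orderOf ((l : H) * b) := orderOf_dvd_of_pow_eq_one h1
    rw [← Subgroup.orderOf_coe]
    exact hm.of_dvd_nat hdvd
  have hC' : ∀ t c : ↥L, orderOf t = 2 → c * t = t * c → c ^ 2 = 1 := by
    intro t c ht hct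
    have ht' : orderOf (t : H) = 2 := by rw [Subgroup.orderOf_coe]; exact ht
    have hct' : (c : H) * t = t * c := by
      have := congrArg Subtype.val hct
      simpa using this
    have := hexp t t.2 ht' c c.2 hct'
    apply Subtype.ext
    rw [Subgroup.coe_pow, this, Subgroup.coe_one]
  have htr' : ∀ s t : ↥L, orderOf s = 2 → orderOf t = 2 → ∃ y ∈ Y, y * s * y⁻¹ = t := by
    intro s t hs ht
    have hs' : orderOf (s : H) = 2 := by rw [Subgroup.orderOf_coe]; exact hs
    have ht' : orderOf (t : H) = 2 := by rw [Subgroup.orderOf_coe]; exact ht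
    obtain ⟨d, hdD, hd⟩ := htr s t hs' ht'
    obtain ⟨l, hl, b, hb, rfl⟩ := exists_decomp L B hsup d
    refine ⟨⟨l, hl⟩, (hYmem _).mpr ⟨b, hb, hdD⟩, ?_⟩
    apply Subtype.ext
    have hbs := B_comm hB hb (s : H)
    have h1 : l * b * (s : H) * (l * b)⁻¹ = l * s * l⁻¹ := by
      calc l * b * (s : H) * (l * b)⁻¹ = l * (b * s) * b⁻¹ * l⁻¹ := by group
        _ = l * (s * b) * b⁻¹ * l⁻¹ := by rw [hbs]
        _ = l * s * l⁻¹ := by group
    rw [h1] at hd
    simpa using hd
  exact no_odd_transitive T' hnc' hnn' hC' Y hYodd htr'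

end good

end Cfsg.Agent.Helper76.AbInv
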