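import Mathlib
import Cfsg.Prelude.Def_Involutions
import Cfsg.Agent.Lib.Helper4.AbInv.Defs
import Cfsg.Agent.Lib.Helper76.AbInvT2b1
import Cfsg.Agent.S1225

/-!
# S2202 lemma server, task T2b (helper76 for helper4): `case1`

If `O(G) = 1`, the induction hypothesis holds for proper subgroups of even order and `TIHyp`
fails, we get a contradiction.
-/

set_option autoImplicit false
set_option linter.style.haveILetI false

namespace Cfsg.Agent.Helper76.AbInv

open Cfsg.Agent.Helper4.AbInv Cfsg.Agent.Helper45.SE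
open Pointwise

universe u

/-- In a subgroup `Y` with `Good ↥Y` containing the centralizer of the involution `s`, the odd
part of `C(s)` is the image of the central factor `B`. -/
theorem oddPart_iff_of_good {G : Type*} [Group G] [Finite G] (hab : AbInvHyp G)
    (Y : Subgroup G) (L B : Subgroup ↥Y) (hLn : L.Normal) (hB : B ≤ Subgroup.center ↥Y)
    (hBodd : Odd (Nat.card B)) (hLB : L ⊓ B = ⊥) (hsup : L ⊔ B = ⊤)
    (hexp : ∀ t ∈ L, orderOf t = 2 → ∀ c ∈ L, c * t = t * c → c ^ 2 = 1)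
    {s : G} (hs : orderOf s = 2) (hsY : s ∈ Y) (hcent : ∀ x : G, x * s = s * x → x ∈ Y)
    (x : G) : x ∈ oddPart hab s hs ↔ ∃ hx : x ∈ Y, (⟨x, hx⟩ : ↥Y) ∈ B := by
  haveI := hLn
  set s' : ↥Y := ⟨s, hsY⟩ with hs'_def
  have hs' : orderOf s' = 2 := by rw [Subgroup.orderOf_mk]; exact hs
  have hs'L : s' ∈ L := by
    apply mem_L_of_pow_two hB hBodd hLB hsup (k := 1)
    rw [pow_one, ← hs']; exact pow_orderOf_eq_one s'
  constructor
  · rintro ⟨hxs, hxo⟩
    have hxY : x ∈ Y := hcent x hxs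
    refine ⟨hxY, ?_⟩
    set x' : ↥Y := ⟨x, hxY⟩ with hx'_def
    have hx's' : x' * s' = s' * x' := Subtype.ext hxs
    have hx'o : Odd (orderOf x') := by rw [Subgroup.orderOf_mk]; exact hxo
    obtain ⟨l, hl, b, hb, hlb⟩ := exists_decomp L B hsup x'
    have hbs := B_comm hB hb s'
    have hbl := B_comm hB hb l
    -- `l` commutes with `s'`
    have hls : l * s' = s' * l := by
      have h1 : l = x' * b⁻¹ := by rw [← hlb]; group
      have hbs' : b⁻¹ * s' = s' * b⁻¹ := inv_comm_of_comm hbs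
      rw [h1]
      calc x' * b⁻¹ * s' = x' * (b⁻¹ * s') := by group
        _ = x' * (s' * b⁻¹) := by rw [hbs']
        _ = (x' * s') * b⁻¹ := by group
        _ = (s' * x') * b⁻¹ := by rw [hx's']
        _ = s' * (x' * b⁻¹) := by group
    have hl2 : l ^ 2 = 1 := hexp s' hs'L hs' l hl hls
    have hlo : Odd (orderOf l) := by
      have hpow : (l * b) ^ orderOf x' = 1 := by rw [hlb]; exact pow_orderOf_eq_one x'
      obtain ⟨h1, -⟩ := pow_eq_one_of_mul hB hLB hl hb hpow
      exact hx'o.of_dvd_nat (orderOf_dvd_of_pow_eq_one h1)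
    have hl1 : l = 1 := eq_one_of_sq_of_odd hl2 hlo
    rw [hl1, one_mul] at hlb
    rw [← hlb]; exact hb
  · rintro ⟨hxY, hxB⟩
    refine ⟨?_, ?_⟩
    · have := B_comm hB hxB s'
      exact congrArg Subtype.val this
    · have := odd_orderOf_of_mem hBodd hxB
      rwa [Subgroup.orderOf_mk] at this

/-- T2b. -/
theorem case1 {G : Type u} [Group G] [Finite G] (hab : AbInvHyp G)
    (P : Sylow 2 G) (hnc : ¬ IsCyclic ↥(P : Subgroup G)) (hnn : ¬ (P : Subgroup G).Normal)
    (hO : ∀ K : Subgroup G, K.Normal → Odd (Nat.card K) → K = ⊥)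
    (IH : ∀ Y : Subgroup G, Y ≠ ⊤ → Even (Nat.card Y) → Concl ↥Y)
    (hTI : ¬ TIHyp G) : False := by
  haveI : Fact (Nat.Prime 2) := ⟨Nat.prime_two⟩
  unfold TIHyp at hTI
  push Not at hTI
  obtain ⟨t, a, g, ht, hat, hao, ha1, hga, hnc2⟩ := hTI
  set t' : G := g * t * g⁻¹ with ht'_def
  have ht' : orderOf t' = 2 := by rw [ht'_def, orderOf_conj', ht]
  have hat' : a * t' = t' * a := by
    have hga' : g⁻¹ * a = a * g⁻¹ := inv_comm_of_comm hga
    calc a * (g * t * g⁻¹) = (a * g) * t * g⁻¹ := by group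
      _ = (g * a) * t * g⁻¹ := by rw [hga]
      _ = g * (a * t) * g⁻¹ := by group
      _ = g * (t * a) * g⁻¹ := by rw [hat]
      _ = g * t * (a * g⁻¹) := by group
      _ = g * t * (g⁻¹ * a) := by rw [hga']
      _ = g * t * g⁻¹ * a := by group
  -- the Sylow 2-subgroup containing `t`
  obtain ⟨Q, hQt⟩ := exists_sylow_mem ht
  have hQnc : ¬ IsCyclic ↥(Q : Subgroup G) := by
    obtain ⟨k, rfl⟩ := MulAction.exists_smul_eq G P Q
    intro hc
    exact hnc ((Sylow.equivSMul P k).isCyclic.mpr hc)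
  have hQcomm := sylow_comm hab Q
  have hQt_comm : ∀ x ∈ (Q : Subgroup G), x * t = t * x := fun x hx => hQcomm x hx t hQt
  -- the induction hypothesis gives `Good`
  have key : ∀ Y : Subgroup G, Y ≠ ⊤ → (Q : Subgroup G) ≤ Y → t' ∈ Y → Good ↥Y := by
    intro Y hY hQY ht'Y
    have htY : t ∈ Y := hQY hQt
    have hev : Even (Nat.card Y) := even_card_of_mem Y ht htY
    rcases IH Y hY hev with h1 | h1 | h1
    · exfalso
      have h2 := h1 (Q.subtype hQY)
      have e : ((Q.subtype hQY : Sylow 2 ↥Y) : Subgroup ↥Y) = (Q : Subgroup G).subgroupOf Y :=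
        Sylow.coe_subtype _ hQY
      rw [e] at h2
      exact hQnc ((Subgroup.subgroupOfEquivOfLe hQY).isCyclic.mp h2)
    · exfalso
      have hn := h1 (Q.subtype hQY)
      have habY := hab.subgroup Y
      have h2 := invol_commute_of_normal_sylow habY _ hn (s := ⟨t', ht'Y⟩) (t := ⟨t, htY⟩)
        (by rw [Subgroup.orderOf_mk]; exact ht') (by rw [Subgroup.orderOf_mk]; exact ht)
      exact hnc2 (congrArg Subtype.val h2)
    · exact h1
  -- Step 1: `Y1 = C(a)`
  set Y1 : Subgroup G := Subgroup.centralizer {a} with hY1_def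
  have hY1mem : ∀ x, x ∈ Y1 ↔ a * x = x * a := fun x =>
    Subgroup.mem_centralizer_singleton_iff.trans eq_comm
  have hY1top : Y1 ≠ ⊤ := by
    intro htop
    have hall : ∀ x : G, a * x = x * a := fun x => (hY1mem x).mp (htop ▸ Subgroup.mem_top x)
    have hn : (Subgroup.zpowers a).Normal := by
      constructor
      intro x hx k
      obtain ⟨n, rfl⟩ := Subgroup.mem_zpowers_iff.mp hx
      have hk : Commute a k := hall k
      have : k * a ^ n * k⁻¹ = a ^ n := by
        have h1 : Commute (a ^ n) k := hk.zpow_left n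
        rw [← h1.eq]; group
      rw [this]; exact hx
    have hodd : Odd (Nat.card (Subgroup.zpowers a)) := by rw [Nat.card_zpowers]; exact hao
    have h3 := hO _ hn hodd
    have h4 : a ∈ (⊥ : Subgroup G) := h3 ▸ Subgroup.mem_zpowers a
    exact ha1 (Subgroup.mem_bot.mp h4)
  have hQY1 : (Q : Subgroup G) ≤ Y1 := by
    intro x hx
    rw [hY1mem]
    exact hab t ht a x hat (hQt_comm x hx)
  have ht'Y1 : t' ∈ Y1 := (hY1mem _).mpr hat'
  obtain ⟨L1, B1, hL1n, hB1, hB1odd, hLB1, hsup1, hexp1⟩ := key Y1 hY1top hQY1 ht'Y1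
  have hcentY1 : ∀ s : G, orderOf s = 2 → s ∈ Y1 → ∀ x : G, x * s = s * x → x ∈ Y1 := by
    intro s hs hsY x hx
    rw [hY1mem] at hsY ⊢
    exact hab s hs a x hsY hx
  set A : Subgroup G := oddPart hab t ht with hA_def
  have hA1 := oddPart_iff_of_good hab Y1 L1 B1 hL1n hB1 hB1odd hLB1 hsup1 hexp1 ht (hQY1 hQt)
    (hcentY1 t ht (hQY1 hQt))
  have hA2 := oddPart_iff_of_good hab Y1 L1 B1 hL1n hB1 hB1odd hLB1 hsup1 hexp1 ht' ht'Y1
    (hcentY1 t' ht' ht'Y1)
  have hAeq : oddPart hab t' ht' = A := by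
    ext x
    rw [hA2 x, hA_def, hA1 x]
  -- `g` normalizes `A`
  have hgA : ∀ x, x ∈ A ↔ g * x * g⁻¹ ∈ A := by
    intro x
    have h1 := mem_oddPart_conj hab ht ht' g ht'_def (g * x * g⁻¹)
    have h2 : g⁻¹ * (g * x * g⁻¹) * g = x := by group
    rw [h2, hAeq] at h1
    exact h1.symm
  -- Step 2: `X = N(A)`
  set X : Subgroup G := Subgroup.normalizer (A : Set G) with hX_def
  have hgX : g ∈ X := Subgroup.mem_normalizer_iff.mpr hgA
  have hCtX : ∀ x : G, x * t = t * x → x ∈ X := by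
    intro x hx
    rw [hX_def, Subgroup.mem_normalizer_iff]
    intro y
    constructor
    · intro hy
      have hxy : x * y = y * x := hab t ht x y hx hy.1
      have h1 : x * y * x⁻¹ = y := by rw [hxy]; group
      rw [h1]; exact hy
    · intro hy
      have hx' : x⁻¹ * t = t * x⁻¹ := inv_comm_of_comm hx
      have hc : x⁻¹ * (x * y * x⁻¹) = (x * y * x⁻¹) * x⁻¹ := hab t ht _ _ hx' hy.1
      have h1 : y = x⁻¹ * (x * y * x⁻¹) * x := by group
      have h2 : x * y * x⁻¹ * x⁻¹ * x = x * y * x⁻¹ := by group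
      rw [h1, hc, h2]; exact hy
  have hQX : (Q : Subgroup G) ≤ X := fun x hx => hCtX x (hQt_comm x hx)
  have htX : t ∈ X := hQX hQt
  have ht'X : t' ∈ X := X.mul_mem (X.mul_mem hgX htX) (X.inv_mem hgX)
  have haA : a ∈ A := ⟨hat, hao⟩
  have hAodd : Odd (Nat.card A) := odd_card_of_forall_odd A (fun x hx => hx.2)
  have hXtop : X ≠ ⊤ := by
    intro htop
    have hn : A.Normal := Subgroup.normalizer_eq_top_iff.mp htop
    have h3 := hO A hn hAodd
    have h4 : a ∈ (⊥ : Subgroup G) := h3 ▸ haA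
    exact ha1 (Subgroup.mem_bot.mp h4)
  obtain ⟨L, B, hLn, hB, hBodd, hLB, hsup, hexp⟩ := key X hXtop hQX ht'X
  have hAB := oddPart_iff_of_good hab X L B hLn hB hBodd hLB hsup hexp ht htX hCtX
  have hAcen : ∀ x ∈ A, ∀ y ∈ X, x * y = y * x := by
    intro x hx y hy
    obtain ⟨hxX, hxB⟩ := (hAB x).mp hx
    have h1 := B_comm hB hxB ⟨y, hy⟩
    exact congrArg Subtype.val h1
  have hAs : ∀ (s : G) (hs : orderOf s = 2), s ∈ X → oddPart hab s hs = A := by
    intro s hs hsX
    symm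
    apply Subgroup.eq_of_le_of_card_ge
    · intro x hx
      exact ⟨hAcen x hx s hsX, hx.2⟩
    · rw [card_oddPart_eq hab hs ht]
  -- Step 3: `X` is strongly embedded
  have hse : Cfsg.IsStronglyEmbedded X := by
    refine ⟨hXtop, even_card_of_mem X ht htX, ?_⟩
    intro k hk
    by_contra hodd
    rw [Nat.not_odd_iff_even] at hodd
    obtain ⟨s, hsmem, hs⟩ := exists_invol_of_even _ hodd
    have hsX : s ∈ X := hsmem.1
    have hsk : k⁻¹ * s * k ∈ X := (mem_conj_map X k s).mp hsmem.2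
    have hs' : orderOf (k⁻¹ * s * k) = 2 := by
      have := orderOf_conj' k⁻¹ s
      rw [inv_inv] at this
      rw [this, hs]
    have e1 := hAs s hs hsX
    have e2 := hAs _ hs' hsk
    apply hk
    rw [hX_def, Subgroup.mem_normalizer_iff]
    intro x
    have h3 := mem_oddPart_conj hab hs hs' k⁻¹ (by rw [inv_inv]) x
    rw [inv_inv, e1, e2] at h3
    exact h3
  -- Step 4: an involution outside `X`
  obtain ⟨u, hu, huX⟩ : ∃ u : G, orderOf u = 2 ∧ u ∉ X := by
    by_contra hcon
    push Not at hcon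
    let N : Subgroup G := Subgroup.centralizer {s : G | orderOf s = 2}
    have hNn : N.Normal := by
      constructor
      intro n hn k
      rw [Subgroup.mem_centralizer_iff] at hn ⊢
      intro s hs
      have hs' : orderOf (k⁻¹ * s * k) = 2 := by
        have := orderOf_conj' k⁻¹ s
        rw [inv_inv] at this
        rw [this]; exact hs
      have h1 := hn (k⁻¹ * s * k) hs'
      calc s * (k * n * k⁻¹) = k * ((k⁻¹ * s * k) * n) * k⁻¹ := by group
        _ = k * (n * (k⁻¹ * s * k)) * k⁻¹ := by rw [h1]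
        _ = k * n * k⁻¹ * s := by group
    have hNodd : Odd (Nat.card N) := by
      by_contra hne
      rw [Nat.not_odd_iff_even] at hne
      obtain ⟨z, hzN, hz⟩ := exists_invol_of_even N hne
      rw [Subgroup.mem_centralizer_iff] at hzN
      have h1 : t * z = z * t := hzN t ht
      have h2 : t' * z = z * t' := hzN t' ht'
      exact hnc2 (hab z hz t' t h2 h1)
    have hAN : a ∈ N := by
      rw [Subgroup.mem_centralizer_iff]
      intro s hs
      exact (hAcen a haA s (hcon s hs)).symm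
    have h3 := hO N hNn hNodd
    have h4 : a ∈ (⊥ : Subgroup G) := h3 ▸ hAN
    exact ha1 (Subgroup.mem_bot.mp h4)
  -- Step 5: the odd group `X ∩ uXu⁻¹` is transitive on the involutions of `X`
  set TX : Sylow 2 ↥X := Q.subtype hQX with hTX
  have eTX : (TX : Subgroup ↥X) = (Q : Subgroup G).subgroupOf X := Sylow.coe_subtype _ hQX
  have hTXnc : ¬ IsCyclic ↥(TX : Subgroup ↥X) := by
    intro hc
    rw [eTX] at hc
    exact hQnc ((Subgroup.subgroupOfEquivOfLe hQX).isCyclic.mp hc)
  have hTXnn : ¬ (TX : Subgroup ↥X).Normal := by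
    intro hn
    have h2 := invol_commute_of_normal_sylow (hab.subgroup X) TX hn (s := ⟨t', ht'X⟩)
      (t := ⟨t, htX⟩) (by rw [Subgroup.orderOf_mk]; exact ht')
      (by rw [Subgroup.orderOf_mk]; exact ht)
    exact hnc2 (congrArg Subtype.val h2)
  let D' : Subgroup G := X ⊓ X.map (MulAut.conj u).toMonoidHom
  have hD'odd : Odd (Nat.card D') := hse.2.2 u huX
  let D : Subgroup ↥X := D'.subgroupOf X
  have hDodd : Odd (Nat.card D) := by
    have h1 : Nat.card D = Nat.card D' :=
      Nat.card_congr (Subgroup.subgroupOfEquivOfLe (inf_le_left : D' ≤ X)).toEquiv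
    rw [h1]; exact hD'odd
  have htrD : ∀ s1 s2 : ↥X, orderOf s1 = 2 → orderOf s2 = 2 → ∃ d ∈ D, d * s1 * d⁻¹ = s2 := by
    intro s1 s2 h1 h2
    have h1' : orderOf (s1 : G) = 2 := by rw [Subgroup.orderOf_coe]; exact h1
    have h2' : orderOf (s2 : G) = 2 := by rw [Subgroup.orderOf_coe]; exact h2
    obtain ⟨⟨d, hdD, hd⟩, -⟩ :=
      Cfsg.Agent.S1225.result X hse u hu huX s1 s2 h1' s1.2 h2' s2.2
    exact ⟨⟨d, hdD.1⟩, Subgroup.mem_subgroupOf.mpr hdD, Subtype.ext hd⟩
  exact good_no_odd_transitive L B hLn hB hBodd hLB hsup hexp TX hTXnc hTXnn D hDodd htrD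

end Cfsg.Agent.Helper76.AbInv
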