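import Mathlib
import Cfsg.Agent.Lib.Helper67.BGCruxDefs
import Cfsg.Agent.Lib.Helper76.EqOrd1

/-!
# CRUX C6-A7 (`c6_sylCard`) for helper67's crux server: the two Sylow computations in `M ⊓ H = C ⊔ E`.
-/

set_option autoImplicit false
set_option linter.style.haveILetI false

namespace Cfsg.Agent.Helper76.BGCrux

open Subgroup Cfsg
open Cfsg.Agent.Helper52 (sylCard)
open Cfsg.Agent.Helper67.BGCrux

variable {G : Type*} [Group G] [Finite G]

/-- `|U H| = |U| |H|` when `H` normalizes `U` and `U ∩ H = 1`. -/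
theorem a7_card_sup_eq_mul (U H : Subgroup G) (hH : H ≤ normalizer (U : Set G))
    (hUH : U ⊓ H = ⊥) : Nat.card ↥(U ⊔ H) = Nat.card U * Nat.card H := by
  have h1 : U.relIndex H = U.relIndex (U ⊔ H) := by
    apply Cfsg.Agent.Helper52.relIndex_eq_of_forall_mul U H (U ⊔ H) le_sup_right
    intro m hm
    have hm' : m ∈ ((U ⊔ H : Subgroup G) : Set G) := hm
    rw [sup_comm, coe_mul_of_left_le_normalizer_right H U hH] at hm'
    obtain ⟨t, ht, d, hd, rfl⟩ := Set.mem_mul.mp hm'
    exact ⟨t, ht, d, hd, rfl⟩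
  have h2 : Nat.card U * U.relIndex (U ⊔ H) = Nat.card ↥(U ⊔ H) :=
    Cfsg.Agent.Helper52.card_mul_relIndex_eq le_sup_left
  have h3 : U.relIndex H = Nat.card H := by
    rw [Subgroup.relIndex, (Subgroup.subgroupOf_eq_bot).mpr (disjoint_iff.mpr hUH),
      Subgroup.index_bot]
  rw [← h2, ← h1, h3]

/-- the index of `B` in `M = A B` (`A ∩ B = 1`) is `|A|`. -/
theorem a7_relIndex_compl {A B M : Subgroup G} (h : IsComplIn A B M) :
    B.relIndex M = Nat.card A := by
  obtain ⟨hA, hB, hdisj, hfac⟩ := h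
  rw [← Cfsg.Agent.Helper52.relIndex_eq_of_forall_mul B A M hA hfac]
  rw [Subgroup.relIndex, (Subgroup.subgroupOf_eq_bot).mpr
    (disjoint_iff.mpr (by rw [inf_comm]; exact hdisj)), Subgroup.index_bot]

/-- `sylCard` ignores a cofactor prime to `p`. -/
theorem a7_sylCard_eq {p : ℕ} (_hp : p.Prime) {K L : Subgroup G} {n : ℕ}
    (h : Nat.card L = Nat.card K * n) (hn : ¬ p ∣ n) : sylCard p L = sylCard p K := by
  have hn0 : n ≠ 0 := by
    rintro rfl
    exact hn (dvd_zero p)
  unfold sylCard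
  rw [h, Nat.factorization_mul Nat.card_pos.ne' hn0, Finsupp.add_apply,
    Nat.factorization_eq_zero_of_not_dvd hn, add_zero]

theorem c6_sylCard {M E Y H E1 E3 : Subgroup G} {s : ℕ} (rows : Rows G) (cfg : Cfg M E Y s)
    (es : EStruct M E E1 E3) (hs : HSide M E Y H s) (hEY : E ≤ normalizer (Y : Set G)) (hYE3 : Y ≤ E3) :
    (∀ W : Subgroup G, W ≤ E3 → Nat.card W = sylCard s E3 →
      Nat.card W = sylCard s (M ⊓ H) ∧ normalizer (W : Set G) ≤ H ∧ E ≤ normalizer (W : Set G)) ∧
    (∀ (q : ℕ) [Fact q.Prime] (Cq : Subgroup G), Cq ≤ sigmaCore M ⊓ centralizer (Y : Set G) →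
      Nat.card Cq = sylCard q (sigmaCore M ⊓ centralizer (Y : Set G)) → Cq ≠ ⊥ →
      Nat.card Cq = sylCard q (M ⊓ H)) := by
  have hsP : s.Prime := cfg.hs.1
  have hsσ : s ∉ sigma M := cfg.hs.2.1
  obtain ⟨hEM, hσM, hEσ, hfac⟩ := cfg.hE
  have hHall := (rows.r1350 M cfg.hM).1
  -- `E` normalizes `C`
  have hσn : M ≤ normalizer ((sigmaCore M : Subgroup G) : Set G) := by
    intro m hm
    rw [mem_normalizer_iff_map_conj_eq]
    unfold sigmaCore
    haveI : (piCore (sigma M) M).Normal := piCore_normal _ _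
    ext x
    constructor
    · rintro ⟨y, hy, rfl⟩
      obtain ⟨z, hz, rfl⟩ := hy
      refine ⟨⟨m, hm⟩ * z * ⟨m, hm⟩⁻¹, ?_, ?_⟩
      · exact (inferInstance : (piCore (sigma M) M).Normal).conj_mem z hz ⟨m, hm⟩
      · simp
    · rintro ⟨z, hz, rfl⟩
      refine ⟨m⁻¹ * z * m, ⟨⟨m, hm⟩⁻¹ * z * ⟨m, hm⟩, ?_, ?_⟩, ?_⟩
      · have := (inferInstance : (piCore (sigma M) M).Normal).conj_mem z hz (⟨m, hm⟩⁻¹)
        simpa using this
      · simp
      · simp [mul_assoc]
  have hEC : E ≤ normalizer ((sigmaCore M ⊓ centralizer (Y : Set G) : Subgroup G) : Set G) := by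
    intro e he
    rw [mem_normalizer_iff_map_conj_eq]
    have h1 := mem_normalizer_iff_map_conj_eq.mp (hσn (hEM he))
    have h2 := mem_normalizer_iff_map_conj_eq.mp (hEY he)
    rw [Subgroup.map_inf _ _ _ (MulAut.conj e).injective, h1]
    congr 1
    ext x
    constructor
    · rintro ⟨y, hy, rfl⟩
      have hy' : y ∈ centralizer (Y : Set G) := hy
      rw [mem_centralizer_iff] at hy' ⊢
      intro z hz
      have hz' : z ∈ Y.map (MulAut.conj e : G →* G) := by rw [h2]; exact hz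
      obtain ⟨w, hw, rfl⟩ := hz'
      have := hy' w hw
      simp only [MonoidHom.coe_coe, MulAut.conj_apply]
      calc e * w * e⁻¹ * (e * y * e⁻¹) = e * (w * y) * e⁻¹ := by group
        _ = e * (y * w) * e⁻¹ := by rw [this]
        _ = e * y * e⁻¹ * (e * w * e⁻¹) := by group
    · intro hx
      refine ⟨e⁻¹ * x * e, ?_, by simp [mul_assoc]⟩
      show e⁻¹ * x * e ∈ centralizer (Y : Set G)
      rw [mem_centralizer_iff] at hx ⊢
      intro z hz
      have hz' : e * z * e⁻¹ ∈ Y := by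
        have : e * z * e⁻¹ ∈ Y.map (MulAut.conj e : G →* G) := ⟨z, hz, by simp⟩
        rwa [h2] at this
      have := hx _ hz'
      calc z * (e⁻¹ * x * e) = e⁻¹ * (e * z * e⁻¹ * x) * e := by group
        _ = e⁻¹ * (x * (e * z * e⁻¹)) * e := by rw [this]
        _ = e⁻¹ * x * e * z := by group
  have hCE : (sigmaCore M ⊓ centralizer (Y : Set G)) ⊓ E = ⊥ := by
    apply le_antisymm _ bot_le
    rw [← hEσ]
    exact le_inf inf_le_right (inf_le_left.trans inf_le_left)
  have hcardMH : Nat.card ↥(M ⊓ H) =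
      Nat.card ↥(sigmaCore M ⊓ centralizer (Y : Set G)) * Nat.card E := by
    rw [hs.hMH]
    exact a7_card_sup_eq_mul _ _ hEC hCE
  have hCdvd : Nat.card ↥(sigmaCore M ⊓ centralizer (Y : Set G)) ∣ Nat.card (sigmaCore M) :=
    Subgroup.card_dvd_of_le inf_le_left
  have hsC : ¬ s ∣ Nat.card ↥(sigmaCore M ⊓ centralizer (Y : Set G)) := by
    intro h
    exact hsσ (hHall.2.1 s hsP (h.trans hCdvd))
  have hsI : ¬ s ∣ E3.relIndex E := es.hE3.2.2 s hsP cfg.hs
  have hcardE : Nat.card E3 * E3.relIndex E = Nat.card E :=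
    Cfsg.Agent.Helper52.card_mul_relIndex_eq es.hE3.1
  have hrelE : (sigmaCore M).relIndex M = Nat.card E :=
    a7_relIndex_compl ⟨hEM, hσM, hEσ, hfac⟩
  have : IsCyclic E3 := es.cyc3
  refine ⟨?_, ?_⟩
  · intro W hW hWc
    have hsyl : sylCard s (M ⊓ H) = sylCard s E3 := by
      apply a7_sylCard_eq hsP (n := E3.relIndex E * Nat.card ↥(sigmaCore M ⊓ centralizer (Y : Set G)))
      · rw [hcardMH, ← hcardE]; ring
      · intro h
        rcases (Nat.Prime.dvd_mul hsP).mp h with h | h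
        · exact hsI h
        · exact hsC h
    -- `Y ≤ W`
    have hsE3 : s ∣ Nat.card E3 := by
      rw [← cfg.hY]; exact Subgroup.card_dvd_of_le hYE3
    have hsW : s ∣ Nat.card W := by
      rw [hWc]
      unfold sylCard
      apply dvd_pow_self
      intro h0
      have := (Nat.factorization_eq_zero_iff _ _).mp h0
      rcases this with h | h | h
      · exact h hsP
      · exact h hsE3
      · exact Nat.card_pos.ne' h
    have hYW : Y ≤ W := by
      haveI : Fact s.Prime := ⟨hsP⟩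
      obtain ⟨w, hw⟩ := exists_prime_orderOf_dvd_card' (G := W) s hsW
      have hz : Nat.card (zpowers (w : G)) = s := by
        rw [Nat.card_zpowers, Subgroup.orderOf_coe, hw]
      have hzW : zpowers (w : G) ≤ W := by
        rw [zpowers_le]; exact w.2
      have : zpowers (w : G) = Y :=
        Cfsg.Agent.Helper76.EqOrd.eq_of_card_eq_of_le_isCyclic E3 _ _ (hzW.trans hW) hYE3
          (by rw [hz, cfg.hY])
      rw [← this]; exact hzW
    refine ⟨by rw [hWc, hsyl], ?_, ?_⟩
    · refine le_trans ?_ hs.hNH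
      intro g hg
      have hgW := Cfsg.Agent.Helper76.EqOrd.map_conj_of_mem_normalizer W g hg
      rw [mem_normalizer_iff_map_conj_eq]
      apply Cfsg.Agent.Helper76.EqOrd.eq_of_card_eq_of_le_isCyclic E3 _ _ _ hYE3
        (Cfsg.Agent.Helper76.EqOrd.card_map_conj Y g)
      calc Y.map (MulAut.conj g).toMonoidHom ≤ W.map (MulAut.conj g).toMonoidHom :=
            Subgroup.map_mono hYW
        _ = W := hgW
        _ ≤ E3 := hW
    · intro e he
      have heE3 := Cfsg.Agent.Helper76.EqOrd.map_conj_of_mem_normalizer E3 e (es.norm3 he)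
      rw [mem_normalizer_iff_map_conj_eq]
      apply Cfsg.Agent.Helper76.EqOrd.eq_of_card_eq_of_le_isCyclic E3 _ _ _ hW
        (Cfsg.Agent.Helper76.EqOrd.card_map_conj W e)
      calc W.map (MulAut.conj e).toMonoidHom ≤ E3.map (MulAut.conj e).toMonoidHom :=
            Subgroup.map_mono hW
        _ = E3 := heE3
  · intro q hq Cq hCq hCqc hCq1
    have hqP : q.Prime := hq.out
    have hqC : q ∣ Nat.card ↥(sigmaCore M ⊓ centralizer (Y : Set G)) := by
      by_contra hnd
      apply hCq1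
      rw [← Subgroup.card_eq_one, hCqc]
      unfold sylCard
      rw [Nat.factorization_eq_zero_of_not_dvd hnd, pow_zero]
    have hqσ : q ∈ sigma M := hHall.2.1 q hqP (hqC.trans hCdvd)
    have hqE : ¬ q ∣ Nat.card E := by
      rw [← hrelE]
      exact hHall.2.2 q hqP hqσ
    rw [hCqc]
    symm
    exact a7_sylCard_eq hqP hcardMH hqE

end Cfsg.Agent.Helper76.BGCrux
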