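import Mathlib
import Cfsg.Agent.Lib.Helper98.BrownDefs

/-!
# BROWN (E2) for helper98's S4291 server: existence of the good subgroup when
`G/K ≅ QuaternionGroup (2^k)` with `K` normal of odd order (quotient `V₄`).
-/

set_option autoImplicit false
set_option linter.style.haveILetI false

namespace Cfsg.Agent.Helper76.Brown

open Cfsg.Agent.Helper98.Brown

/-- the reduction `ZMod (2n) → ZMod 2`. -/
noncomputable def e2c (n : ℕ) : ZMod (2 * n) →+* ZMod 2 :=
  ZMod.castHom (Dvd.intro n rfl) (ZMod 2)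

theorem e2c_n (n : ℕ) (hn : Even n) : e2c n (n : ZMod (2 * n)) = 0 := by
  rw [map_natCast]
  obtain ⟨m, rfl⟩ := hn
  rw [← two_mul, Nat.cast_mul]
  have : ((2 : ℕ) : ZMod 2) = 0 := by decide
  rw [this, zero_mul]

/-- the map `Q_{4n} → V₄` as a function. -/
noncomputable def e2fun (n : ℕ) : QuaternionGroup n → DihedralGroup 2
  | QuaternionGroup.a i => DihedralGroup.r (e2c n i)
  | QuaternionGroup.xa i => DihedralGroup.sr (e2c n i)

/-- the homomorphism `Q_{4n} → V₄` for even `n`. -/
noncomputable def e2hom (n : ℕ) (hn : Even n) : QuaternionGroup n →* DihedralGroup 2 :=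
  MonoidHom.mk' (e2fun n) (by
    intro x y
    rcases x with i | i <;> rcases y with j | j
    · simp only [QuaternionGroup.a_mul_a, e2fun, DihedralGroup.r_mul_r, map_add]
    · simp only [QuaternionGroup.a_mul_xa, e2fun, DihedralGroup.r_mul_sr, map_sub]
    · simp only [QuaternionGroup.xa_mul_a, e2fun, DihedralGroup.sr_mul_r, map_add]
    · simp only [QuaternionGroup.xa_mul_xa, e2fun, DihedralGroup.sr_mul_sr, map_add, map_sub,
        e2c_n n hn, zero_add])

theorem e2hom_surjective (n : ℕ) (hn : Even n) : Function.Surjective (e2hom n hn) := by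
  have hc : ∀ i : ZMod 2, e2c n ((i.val : ℕ) : ZMod (2 * n)) = i := by
    intro i
    rw [map_natCast, ZMod.natCast_zmod_val]
  intro x
  rcases x with i | i
  · exact ⟨QuaternionGroup.a ((i.val : ℕ) : ZMod (2 * n)), by
      show DihedralGroup.r (e2c n _) = _
      rw [hc]⟩
  · exact ⟨QuaternionGroup.xa ((i.val : ℕ) : ZMod (2 * n)), by
      show DihedralGroup.sr (e2c n _) = _
      rw [hc]⟩

theorem e2hom_ker_comm (n : ℕ) (hn : Even n) (x y : QuaternionGroup n)
    (hx : e2hom n hn x = 1) (hy : e2hom n hn y = 1) : x * y = y * x := by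
  rcases x with i | i
  · rcases y with j | j
    · rw [QuaternionGroup.a_mul_a, QuaternionGroup.a_mul_a, add_comm]
    · exfalso
      have : DihedralGroup.sr (e2c n j) = (1 : DihedralGroup 2) := hy
      rw [DihedralGroup.one_def] at this
      cases this
  · exfalso
    have : DihedralGroup.sr (e2c n i) = (1 : DihedralGroup 2) := hx
    rw [DihedralGroup.one_def] at this
    cases this

variable {G : Type*} [Group G]

theorem good_of_quaternion_quotient [Finite G] (h : FpfLike G) (K : Subgroup G) [K.Normal]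
    (hK : (Nat.card K).Coprime 2) (k : ℕ) (hk : 1 ≤ k)
    (e : G ⧸ K ≃* QuaternionGroup (2 ^ k)) : ∃ N : Subgroup G, Good N := by
  have hn : Even (2 ^ k) := by
    obtain ⟨m, rfl⟩ : ∃ m, k = m + 1 := ⟨k - 1, by omega⟩
    rw [pow_succ]
    exact even_two.mul_left _
  let π : G →* G ⧸ K := QuotientGroup.mk' K
  let f : G →* DihedralGroup 2 := (e2hom (2 ^ k) hn).comp (e.toMonoidHom.comp π)
  have hfsurj : Function.Surjective f := by
    intro x
    obtain ⟨q, hq⟩ := e2hom_surjective (2 ^ k) hn x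
    obtain ⟨g, hg⟩ := QuotientGroup.mk'_surjective K (e.symm q)
    refine ⟨g, ?_⟩
    show e2hom (2 ^ k) hn (e (π g)) = x
    rw [hg, MulEquiv.apply_symm_apply, hq]
  -- 2-elements of `K` are trivial
  have hK2 : ∀ x : G, x ∈ K → (∃ j : ℕ, x ^ 2 ^ j = 1) → x = 1 := by
    rintro x hxK ⟨j, hj⟩
    have h1 : orderOf x ∣ 2 ^ j := orderOf_dvd_of_pow_eq_one hj
    have h2 : orderOf x ∣ Nat.card K := by
      have := orderOf_dvd_natCard (⟨x, hxK⟩ : K)
      rwa [Subgroup.orderOf_mk] at this
    have h3 : (Nat.card K).Coprime (2 ^ j) := Nat.Coprime.pow_right j hK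
    have h4 : orderOf x = 1 := Nat.eq_one_of_dvd_coprimes h3 h2 h1
    exact orderOf_eq_one_iff.mp h4
  refine ⟨f.ker, MonoidHom.normal_ker f, ?_, Or.inr (Or.inl ⟨f, hfsurj, rfl⟩)⟩
  intro p hp P
  -- the Sylow subgroup as a subgroup of `G`
  let A : Subgroup G := (P : Subgroup f.ker).map f.ker.subtype
  have hA : IsPGroup p A := P.2.map _
  have eA : (P : Subgroup f.ker) ≃* A :=
    (P : Subgroup f.ker).equivMapOfInjective f.ker.subtype f.ker.subtype_injective
  have hcyc : IsCyclic A := by
    by_cases hp2 : p = 2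
    · subst hp2
      apply h.comm A hA
      rintro a ⟨a', ha', rfl⟩ b ⟨b', hb', rfl⟩
      have hfa : f (a' : G) = 1 := a'.2
      have hfb : f (b' : G) = 1 := b'.2
      have hcomm := e2hom_ker_comm (2 ^ k) hn (e (π a')) (e (π b')) hfa hfb
      have h1 : π ((a' : G) * b') = π ((b' : G) * a') := by
        apply e.injective
        rw [map_mul, map_mul, map_mul, map_mul]
        exact hcomm
      have h2 : ((b' : G) * a')⁻¹ * ((a' : G) * b') ∈ K := by
        rw [← QuotientGroup.eq_one_iff]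
        show π (((b' : G) * a')⁻¹ * ((a' : G) * b')) = 1
        rw [map_mul, map_inv, h1, inv_mul_cancel]
      have h3 : ((b' : G) * a')⁻¹ * ((a' : G) * b') ∈ A :=
        A.mul_mem (A.inv_mem (A.mul_mem ⟨b', hb', rfl⟩ ⟨a', ha', rfl⟩))
          (A.mul_mem ⟨a', ha', rfl⟩ ⟨b', hb', rfl⟩)
      obtain ⟨j, hj⟩ := hA ⟨_, h3⟩
      have hj' : (((b' : G) * a')⁻¹ * ((a' : G) * b')) ^ 2 ^ j = 1 := by
        have := congrArg Subtype.val hj
        simpa using this
      have h4 := hK2 _ h2 ⟨j, hj'⟩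
      exact (inv_mul_eq_one.mp h4).symm
    · exact h.odd p hp2 A hA
  exact isCyclic_of_surjective eA.symm.toMonoidHom eA.symm.surjective

end Cfsg.Agent.Helper76.Brown
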