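import Mathlib
import Cfsg.Agent.Lib.Helper32.C3Defs
import Cfsg.Agent.Lib.Helper9.C3M3Defs

/-!
# C3M3 piece (H1) `conj_diag` (helper76, for helper9's sub-server C3M3, S4415)
-/

set_option autoImplicit false

namespace Cfsg.Agent.Helper76.C3M3

open Cfsg.Agent.Helper32.C3 Cfsg.Agent.Helper9.C3M3

universe u v

section Mono

variable {G : Type u} [Group G] [Finite G] {V : Type v} [AddCommGroup V] [Module (ZMod 3) V]
  [Finite V] (ρ : Representation (ZMod 3) G V) (R Q : Subgroup G) (b : G)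
  (e : Module.Basis (Fin 4) (ZMod 3) V) (π : G →* Equiv.Perm (Fin 4))
  (s : G → Fin 4 → (ZMod 3)ˣ)

/-- (H1) conjugating a diagonal element permutes its signs. -/
theorem conj_diag [R.Normal] (hsm : ∀ g h i, s (g * h) i = s h i * s g (π h i))
    (hs1 : ∀ i, s 1 i = 1) (g d : G) (hd : d ∈ R ⊓ π.ker) :
    g * d * g⁻¹ ∈ R ⊓ π.ker ∧ ∀ i, s (g * d * g⁻¹) i = s d ((π g)⁻¹ i) := by
  have hdR : d ∈ R := hd.1
  have hdk : π d = 1 := MonoidHom.mem_ker.mp hd.2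
  refine ⟨⟨‹R.Normal›.conj_mem d hdR g, (MonoidHom.normal_ker π).conj_mem d hd.2 g⟩, ?_⟩
  intro i
  have h1 := hsm (g * d) g⁻¹ i
  have h2 := hsm g d (π g⁻¹ i)
  have h3 := hsm g g⁻¹ i
  rw [mul_inv_cancel, hs1, map_inv] at h3
  rw [h1, h2, hdk, Equiv.Perm.one_apply, map_inv, mul_left_comm, ← h3, mul_one]

end Mono

end Cfsg.Agent.Helper76.C3M3
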