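import Cfsg.Agent.Lib.Helper76.CD2Deg
import Cfsg.Agent.Lib.Helper78.ItoMichlerPSolv
import Cfsg.Agent.Lib.Helper76.SolvPSolv
import Cfsg.Agent.Lib.Helper52.Coprime
import Cfsg.Agent.S3910

set_option autoImplicit false
set_option linter.style.haveILetI false
set_option linter.unusedSectionVars false

/-! Structure of a non-nilpotent group with degrees `{1, m}` all of whose proper quotients are
nilpotent: group-theoretic part. -/

namespace Cfsg.Agent.Helper76.CD2

open Cfsg Cfsg.Agent.Helper79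
open scoped commutatorElement

universe u

theorem nilpotent_of_inj {A B : Type*} [Group A] [Group B] [hB : Group.IsNilpotent B]
    (f : A →* B) (hf : Function.Injective f) : Group.IsNilpotent A := by
  have h1 : Group.IsNilpotent f.range := inferInstance
  exact Group.nilpotent_of_mulEquiv (MonoidHom.ofInjective hf).symm

section struct
variable {H : Type u} [Group H] [Finite H]

/-- a minimal normal subgroup exists -/
theorem exists_min_normal [Nontrivial H] :
    ∃ M : Subgroup H, M.Normal ∧ M ≠ ⊥ ∧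
      ∀ L : Subgroup H, L.Normal → L ≠ ⊥ → L ≤ M → L = M := by
  classical
  let P : ℕ → Prop := fun n => ∃ L : Subgroup H, L.Normal ∧ L ≠ ⊥ ∧ Nat.card L = n
  have hP : ∃ n, P n := ⟨Nat.card (⊤ : Subgroup H), ⊤, inferInstance, top_ne_bot, rfl⟩
  obtain ⟨M, hMn, hMb, hMc⟩ := Nat.find_spec hP
  refine ⟨M, hMn, hMb, ?_⟩
  intro L hLn hLb hLM
  apply Subgroup.eq_of_le_of_card_ge hLM
  rw [hMc]
  exact Nat.find_min' hP ⟨L, hLn, hLb, rfl⟩

variable (hnil : ¬ Group.IsNilpotent H)
  (hquot : ∀ L : Subgroup H, ∀ _ : L.Normal, L ≠ ⊥ → Group.IsNilpotent (H ⧸ L))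

include hnil hquot in
/-- the minimal normal subgroup is unique -/
theorem min_normal_unique (M : Subgroup H) (hMn : M.Normal)
    (hmin : ∀ L : Subgroup H, L.Normal → L ≠ ⊥ → L ≤ M → L = M)
    (L : Subgroup H) (hLn : L.Normal) (hLb : L ≠ ⊥) : M ≤ L := by
  by_contra hML
  haveI := hMn
  haveI := hLn
  by_cases hb : M = ⊥
  · exact hML (hb ▸ bot_le)
  have hinf : M ⊓ L = ⊥ := by
    by_contra h
    have := hmin (M ⊓ L) inferInstance h inf_le_left
    exact hML (this ▸ inf_le_right)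
  haveI := hquot M hMn hb
  haveI := hquot L hLn hLb
  let f : H →* (H ⧸ M) × (H ⧸ L) := (QuotientGroup.mk' M).prod (QuotientGroup.mk' L)
  have hf : Function.Injective f := by
    rw [← MonoidHom.ker_eq_bot_iff, eq_bot_iff]
    intro x hx
    rw [MonoidHom.mem_ker] at hx
    have h1 : (QuotientGroup.mk' M) x = 1 := congrArg Prod.fst hx
    have h2 : (QuotientGroup.mk' L) x = 1 := congrArg Prod.snd hx
    rw [QuotientGroup.mk'_apply, QuotientGroup.eq_one_iff] at h1 h2
    rw [← hinf]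
    exact Subgroup.mem_inf.mpr ⟨h1, h2⟩
  exact hnil (nilpotent_of_inj f hf)

include hnil hquot in
theorem center_eq_bot : Subgroup.center H = ⊥ := by
  by_contra h
  have := hquot (Subgroup.center H) inferInstance h
  exact hnil (Group.of_quotient_center_nilpotent this)

include hnil hquot in
/-- the normal abelian Sylow subgroup containing the minimal normal subgroup -/
theorem exists_sylow (m : ℕ)
    (hcd : ∀ χ : IrrCharacter H, charDegree (χ : H → ℂ) = 1 ∨ charDegree (χ : H → ℂ) = m)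
    [hsolv : Group.IsSolvable H] (M : Subgroup H) (hMb : M ≠ ⊥)
    (hU : ∀ L : Subgroup H, L.Normal → L ≠ ⊥ → M ≤ L) :
    ∃ (q : ℕ) (Q : Subgroup H), q.Prime ∧ Q.Normal ∧ IsPGroup q Q ∧ ¬ q ∣ Q.index ∧
      (∀ a ∈ Q, ∀ b ∈ Q, a * b = b * a) ∧ M ≤ Q ∧ ¬ q ∣ m := by
  classical
  have hM1 : Nat.card M ≠ 1 := by
    intro h
    exact hMb (Subgroup.card_eq_one.1 h)
  obtain ⟨q, hq, hqM⟩ := Nat.exists_prime_and_dvd hM1
  haveI : Fact q.Prime := ⟨hq⟩
  have hqm : ¬ q ∣ m := by
    intro hqm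
    have hdeg : ∀ χ : IrrCharacter H, charDegree (χ : H → ℂ) ≠ 1 → q ∣ charDegree (χ : H → ℂ) := by
      intro χ hχ
      rw [(hcd χ).resolve_left hχ]; exact hqm
    obtain ⟨N, hNn, hNc, k, hk⟩ := Cfsg.Agent.S4456.result q hq hdeg
    have hNb : N ≠ ⊥ := by
      rintro rfl
      apply hnil
      have hcard : Nat.card H = q ^ k := by
        rw [← hk, Subgroup.index_bot]
      exact (IsPGroup.of_card hcard).isNilpotent
    have h1 : Nat.card M ∣ Nat.card N := Subgroup.card_dvd_of_le (hU N hNn hNb)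
    have h2 : q ∣ Nat.card N := dvd_trans hqM h1
    exact hq.one_lt.ne' (Nat.Coprime.eq_one_of_dvd hNc.symm h2)
  have hdeg : ∀ χ : IrrCharacter H, ¬ q ∣ charDegree (χ : H → ℂ) := by
    intro χ hχ
    rcases hcd χ with h1 | h1
    · rw [h1] at hχ
      exact hq.one_lt.ne' (Nat.dvd_one.1 hχ)
    · rw [h1] at hχ; exact hqm hχ
  obtain ⟨Q, hQn, hQp, hQi, hQc⟩ := Cfsg.Agent.Helper78.hasNormalAbelianSylow_of_isPSolvable q
    (Cfsg.Agent.Helper76.isPSolvable_of_isSolvable' q) hdeg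
  have hQb : Q ≠ ⊥ := by
    rintro rfl
    apply hQi
    rw [Subgroup.index_bot]
    exact dvd_trans hqM (Subgroup.card_subgroup_dvd_card M)
  exact ⟨q, Q, hq, hQn, hQp, hQi, hQc, hU Q hQn hQb, hqm⟩

include hnil hquot in
/-- the normal abelian Sylow subgroup is the minimal normal subgroup and is self-centralizing -/
theorem sylow_le_min [hsolv : Group.IsSolvable H] (M : Subgroup H) (hMn : M.Normal) (hMb : M ≠ ⊥)
    (hU : ∀ L : Subgroup H, L.Normal → L ≠ ⊥ → M ≤ L)
    (q : ℕ) (hq : q.Prime) (Q : Subgroup H) (hQn : Q.Normal) (hQp : IsPGroup q Q)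
    (hQi : ¬ q ∣ Q.index) (hQc : ∀ a ∈ Q, ∀ b ∈ Q, a * b = b * a) (hMQ : M ≤ Q) :
    Q ≤ M ∧ ∀ g : H, (∀ x ∈ Q, g * x * g⁻¹ = x) → g ∈ Q := by
  classical
  haveI : Fact q.Prime := ⟨hq⟩
  haveI := hQn
  haveI := hMn
  obtain ⟨a, ha⟩ := IsPGroup.iff_card.1 hQp
  have hcopQ : (Nat.card Q).Coprime Q.index := by
    rw [ha]
    exact Nat.Coprime.pow_left a ((Nat.Prime.coprime_iff_not_dvd hq).2 hQi)
  obtain ⟨R, hR⟩ := Subgroup.exists_right_complement'_of_coprime hcopQ
  have hRcard : Q.index = Nat.card R := hR.symm.index_eq_card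
  have hcop : (Nat.card R).Coprime (Nat.card Q) := by
    rw [← hRcard]; exact hcopQ.symm
  have hdec : ∀ h : H, ∃ y ∈ Q, ∃ r ∈ R, h = y * r := by
    intro h
    obtain ⟨⟨⟨y, hy⟩, ⟨r, hr⟩⟩, hyr⟩ := hR.2 h
    exact ⟨y, hy, r, hr, hyr.symm⟩
  have hQR : Q ⊓ R = ⊥ := hR.disjoint.eq_bot
  have hRQ : R ≤ Subgroup.normalizer (Q : Set H) := by
    rw [Subgroup.normalizer_eq_top]; exact le_top
  have heq := Cfsg.Agent.Helper52.eq_commutator_sup_centralizer Q R hRQ hcop (Or.inr inferInstance)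
  have hZ := center_eq_bot hnil hquot
  have h1 : Q ⊓ Subgroup.centralizer (R : Set H) ≤ ⊥ := by
    rw [← hZ]
    intro x hx
    obtain ⟨hxQ, hxR⟩ := Subgroup.mem_inf.1 hx
    rw [Subgroup.mem_center_iff]
    intro h
    obtain ⟨y, hy, r, hr, rfl⟩ := hdec h
    have e1 : y * x = x * y := hQc y hy x hxQ
    have e2 : r * x = x * r := (Subgroup.mem_centralizer_iff.1 hxR) r hr
    calc y * r * x = y * (r * x) := by group
      _ = y * (x * r) := by rw [e2]
      _ = (y * x) * r := by group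
      _ = (x * y) * r := by rw [e1]
      _ = x * (y * r) := by group
  haveI hMnil := hquot M hMn hMb
  have h2 : ⁅Q, R⁆ ≤ M := by
    rw [Subgroup.commutator_le]
    intro g₁ hg₁ g₂ hg₂
    rw [← QuotientGroup.eq_one_iff]
    obtain ⟨k, hk⟩ := hQp ⟨g₁, hg₁⟩
    have hk' : g₁ ^ q ^ k = 1 := by
      have := congrArg Subtype.val hk
      simpa using this
    have e1 : ((g₁ : H) : H ⧸ M) ^ q ^ k = 1 := by
      rw [← QuotientGroup.mk_pow, hk', QuotientGroup.mk_one]
    have e2 : (orderOf ((g₂ : H) : H ⧸ M)).Coprime q := by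
      have d1 : orderOf ((g₂ : H) : H ⧸ M) ∣ orderOf g₂ :=
        orderOf_map_dvd (QuotientGroup.mk' M) g₂
      have d2 : orderOf g₂ ∣ Nat.card R := by
        have := orderOf_dvd_natCard (⟨g₂, hg₂⟩ : R)
        rwa [Subgroup.orderOf_mk] at this
      have d3 : (Nat.card R).Coprime q := by
        rw [← hRcard]
        exact ((Nat.Prime.coprime_iff_not_dvd hq).2 hQi).symm
      exact Nat.Coprime.coprime_dvd_left (dvd_trans d1 d2) d3
    have hcomm := Cfsg.Agent.S3910.commute_of_nilpotent_coprime e1 e2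
    rw [commutatorElement_def]
    simp only [QuotientGroup.mk_mul, QuotientGroup.mk_inv]
    rw [hcomm.eq]; group
  have hQM : Q ≤ M := by
    rw [heq]
    refine sup_le h2 (h1.trans bot_le)
  refine ⟨hQM, ?_⟩
  -- self-centralizing
  have hQcent : Q ≤ Subgroup.centralizer (Q : Set H) := by
    intro y hy
    rw [Subgroup.mem_centralizer_iff]
    intro x hx
    exact hQc x hx y hy
  let D : Subgroup H := R ⊓ Subgroup.centralizer (Q : Set H)
  have hDn : D.Normal := by
    constructor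
    intro c hc h
    obtain ⟨hcR, hcC⟩ := Subgroup.mem_inf.1 hc
    have hconj : h * c * h⁻¹ ∈ Subgroup.centralizer (Q : Set H) :=
      (inferInstance : (Subgroup.centralizer (Q : Set H)).Normal).conj_mem c hcC h
    refine Subgroup.mem_inf.mpr ⟨?_, hconj⟩
    obtain ⟨y, hy, r, hr, rfl⟩ := hdec h
    have hrc : r * c * r⁻¹ ∈ Subgroup.centralizer (Q : Set H) :=
      (inferInstance : (Subgroup.centralizer (Q : Set H)).Normal).conj_mem c hcC r
    have e1 : y * (r * c * r⁻¹) = (r * c * r⁻¹) * y := (Subgroup.mem_centralizer_iff.1 hrc) y hy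
    have e2 : y * r * c * (y * r)⁻¹ = r * c * r⁻¹ := by
      calc y * r * c * (y * r)⁻¹ = (y * (r * c * r⁻¹)) * y⁻¹ := by group
        _ = ((r * c * r⁻¹) * y) * y⁻¹ := by rw [e1]
        _ = r * c * r⁻¹ := by group
    rw [e2]
    exact R.mul_mem (R.mul_mem hr hcR) (R.inv_mem hr)
  have hDb : D = ⊥ := by
    by_contra hD
    have h3 : M ≤ D := hU D hDn hD
    have h4 : M ≤ Q ⊓ R := le_inf hMQ (h3.trans inf_le_left)
    rw [hQR] at h4
    exact hMb (le_bot_iff.1 h4)
  intro g hg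
  obtain ⟨y, hy, r, hr, rfl⟩ := hdec g
  have hgC : y * r ∈ Subgroup.centralizer (Q : Set H) := by
    rw [Subgroup.mem_centralizer_iff]
    intro x hx
    have := hg x hx
    calc x * (y * r) = (y * r * x * (y * r)⁻¹)⁻¹⁻¹ * (y * r) := by rw [this]; group
      _ = y * r * x := by group
  have hrC : r ∈ Subgroup.centralizer (Q : Set H) := by
    have : r = y⁻¹ * (y * r) := by group
    rw [this]
    exact Subgroup.mul_mem _ (Subgroup.inv_mem _ (hQcent hy)) hgC
  have hrD : r ∈ D := Subgroup.mem_inf.mpr ⟨hr, hrC⟩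
  rw [hDb, Subgroup.mem_bot] at hrD
  rw [hrD, mul_one]
  exact hy

end struct

end Cfsg.Agent.Helper76.CD2
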