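import Cfsg.Agent.Lib.Helper76.CD2Struct2
import Cfsg.Agent.Lib.Helper81.CharCanon

set_option autoImplicit false
set_option linter.style.haveILetI false
set_option linter.unusedSectionVars false

/-! The inertia group of a non-invariant linear character of the minimal normal subgroup. -/

namespace Cfsg.Agent.Helper76.CD2

open Cfsg Cfsg.Agent.Helper79 Cfsg.Agent.Helper81
open scoped commutatorElement

universe u

section inertia
variable {H : Type u} [Group H] [Fintype H]

theorem linFun_classFunction {M : Type*} [Group M] (lam : M →* ℂˣ) :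
    IsClassFunction M (linFun lam) := by
  intro g h
  simp only [linFun_apply, map_mul, map_inv]
  rw [mul_comm (lam h), mul_assoc, mul_inv_cancel, mul_one]

/-- membership in the inertia group of a linear character -/
theorem mem_inertia_lin (M : Subgroup H) (hMn : M.Normal) (lam : M →* ℂˣ) (g : H) :
    g ∈ inertiaGrp M hMn (linFun lam) ↔
      ∀ x : M, lam ⟨g * x * g⁻¹, hMn.conj_mem x x.2 g⟩ = lam x := by
  rw [mem_inertiaGrp]
  constructor
  · intro h x
    have := congrFun h x
    rw [conjFun_apply, linFun_apply, linFun_apply] at this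
    exact Units.ext this
  · intro h
    funext x
    rw [conjFun_apply, linFun_apply, linFun_apply, h x]

/-- If the inertia group `T` of the linear character `lam` of the abelian normal Hall subgroup
`M` is proper, then `T` has index `m` and `T / M` is abelian. -/
theorem inertia_index (m : ℕ)
    (hcd : ∀ χ : IrrCharacter H, charDegree (χ : H → ℂ) = 1 ∨ charDegree (χ : H → ℂ) = m)
    (M : Subgroup H) (hMn : M.Normal) (hcop : (Nat.card M).Coprime M.index)
    (lam : M →* ℂˣ) (hT : inertiaGrp M hMn (linFun lam) ≠ ⊤) :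
    (inertiaGrp M hMn (linFun lam)).index = m ∧
      ∀ s ∈ inertiaGrp M hMn (linFun lam), ∀ t ∈ inertiaGrp M hMn (linFun lam), ⁅s, t⁆ ∈ M := by
  classical
  set T := inertiaGrp M hMn (linFun lam) with hTdef
  haveI : Fintype M := Fintype.ofFinite M
  haveI : Fintype T := Fintype.ofFinite T
  have hMT : M ≤ T := le_inertiaGrp M hMn (linFun_classFunction lam)
  let M' : Subgroup T := M.subgroupOf T
  haveI hM'n : M'.Normal := hMn.subgroupOf T
  let ι : M' ≃* M := Subgroup.subgroupOfEquivOfLe hMT
  let ν : M' →* ℂˣ := lam.comp ι.toMonoidHom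
  have hν : ∀ n : M', ν n = lam ⟨((n : T) : H), n.2⟩ := fun n => rfl
  have hinv : ∀ (t : T) (n : M'), ν ⟨t * n * t⁻¹, hM'n.conj_mem n n.2 t⟩ = ν n := by
    intro t n
    rw [hν, hν]
    have := (mem_inertia_lin M hMn lam (t : H)).1 t.2 ⟨((n : T) : H), n.2⟩
    exact this
  have he : ∀ n : M', ν n ^ Nat.card M = 1 := by
    intro n
    rw [hν, ← map_pow, pow_card_eq_one', map_one]
  have hcop' : Nat.Coprime M'.index (Nat.card M) := by
    have h1 : M'.index ∣ M.index := by
      change M.relIndex T ∣ M.index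
      exact ⟨T.index, (Subgroup.relIndex_mul_index hMT).symm⟩
    exact (Nat.Coprime.coprime_dvd_left h1 hcop.symm)
  obtain ⟨lamT, hlamT, -⟩ := exists_hom_extension_coprime M' hM'n ν hinv (Nat.card M) he hcop'
  have hext : ∀ x : M, lamT ⟨x, hMT x.2⟩ = lam x := by
    intro x
    have := hlamT ⟨⟨x, hMT x.2⟩, Subgroup.mem_subgroupOf.2 x.2⟩
    rw [hν] at this
    exact this
  have hTi : ∀ g : H, g ∈ T ↔ conjFun M hMn (linFun lam) g = linFun lam := fun g => Iff.rfl
  have key : ∀ β : IrrCharacter T, (∀ x : M, (β : T → ℂ) ⟨x, hMT x.2⟩ = (β : T → ℂ) 1) →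
      T.index * charDegree (β : T → ℂ) = 1 ∨ T.index * charDegree (β : T → ℂ) = m := by
    intro β hβ
    obtain ⟨χ, hχ⟩ := exists_irr_deg M T hMn hMT lam hTi lamT hext β hβ
    rw [← hχ]
    exact hcd χ
  have hidx1 : T.index ≠ 1 := by
    intro h
    exact hT (Subgroup.index_eq_one.1 h)
  have hidx : T.index = m := by
    have := key (trivChar T) (fun x => by rw [trivChar_apply, trivChar_apply])
    have h1 : charDegree (trivChar T : T → ℂ) = 1 := charDegree_linChar (1 : T →* ℂˣ)
    rw [h1, mul_one] at this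
    exact this.resolve_left hidx1
  refine ⟨hidx, ?_⟩
  have hm0 : 0 < m := by
    rw [← hidx]
    exact Nat.pos_of_ne_zero Subgroup.index_ne_zero_of_finite
  have hlin : ∀ ψ : IrrCharacter (T ⧸ M'), charDegree (ψ : T ⧸ M' → ℂ) = 1 := by
    intro ψ
    have hβ : ∀ x : M, (inflate M' ψ : T → ℂ) ⟨x, hMT x.2⟩ = (inflate M' ψ : T → ℂ) 1 := by
      intro x
      have h1 : (⟨x, hMT x.2⟩ : T) ∈ M' := Subgroup.mem_subgroupOf.2 x.2
      exact (mem_irrKer _ _).1 (le_irrKer_inflate M' ψ h1)
    have := key (inflate M' ψ) hβ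
    rw [charDegree_inflate, hidx] at this
    rcases this with h1 | h1
    · exfalso
      have : m = 1 := Nat.eq_one_of_mul_eq_one_right h1
      exact hidx1 (hidx.trans this)
    · have : m * charDegree (ψ : T ⧸ M' → ℂ) = m * 1 := by rw [h1, mul_one]
      exact Nat.eq_of_mul_eq_mul_left hm0 this
  have hcomm := comm_of_all_linear hlin
  intro s hs t ht
  have h1 := hcomm (QuotientGroup.mk (⟨s, hs⟩ : T)) (QuotientGroup.mk (⟨t, ht⟩ : T))
  have h2 : ((⁅(⟨s, hs⟩ : T), (⟨t, ht⟩ : T)⁆ : T) : T ⧸ M') = 1 := by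
    rw [commutatorElement_def]
    simp only [QuotientGroup.mk_mul, QuotientGroup.mk_inv]
    rw [h1]; group
  rw [QuotientGroup.eq_one_iff] at h2
  exact Subgroup.mem_subgroupOf.1 h2

end inertia

end Cfsg.Agent.Helper76.CD2
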