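import Cfsg.Agent.Lib.Helper76.CD2Struct4

set_option autoImplicit false
set_option linter.style.haveILetI false
set_option linter.unusedSectionVars false

/-! Structure theorem: a non-nilpotent group with degrees `{1, m}` all of whose proper quotients
are nilpotent is a Frobenius group with abelian kernel of index `m`. -/

namespace Cfsg.Agent.Helper76.CD2

open Cfsg Cfsg.Agent.Helper79 Cfsg.Agent.Helper81
open scoped commutatorElement

universe u

theorem structure_thm {H : Type u} [Group H] [Finite H] (m : ℕ)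
    (hcd : ∀ χ : IrrCharacter H, charDegree (χ : H → ℂ) = 1 ∨ charDegree (χ : H → ℂ) = m)
    (hnil : ¬ Group.IsNilpotent H)
    (hquot : ∀ L : Subgroup H, ∀ _ : L.Normal, L ≠ ⊥ → Group.IsNilpotent (H ⧸ L)) :
    ∃ M : Subgroup H, M.Normal ∧ (∀ a ∈ M, ∀ b ∈ M, a * b = b * a) ∧ M.index = m ∧
      (∀ g : H, g ∉ M → ∀ x ∈ M, g * x * g⁻¹ = x → x = 1) ∧ m < Nat.card M ∧
      (Nat.card M).Coprime m := by
  classical
  haveI := Fintype.ofFinite H
  haveI hsolv : Group.IsSolvable H := isSolvable m hcd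
  haveI : Nontrivial H := by
    by_contra h
    rw [not_nontrivial_iff_subsingleton] at h
    exact hnil inferInstance
  obtain ⟨M₀, hM₀n, hM₀b, hmin⟩ := exists_min_normal (H := H)
  have hU₀ := min_normal_unique hnil hquot M₀ hM₀n hmin
  obtain ⟨q, Q, hq, hQn, hQp, hQi, hQc, hMQ, -⟩ := exists_sylow hnil hquot m hcd M₀ hM₀b hU₀
  obtain ⟨hQM, hF0⟩ := sylow_le_min hnil hquot M₀ hM₀n hM₀b hU₀ q hq Q hQn hQp hQi hQc hMQ
  haveI : Fact q.Prime := ⟨hq⟩
  haveI := hQn
  have hQb : Q ≠ ⊥ := fun h => hM₀b (le_bot_iff.1 (h ▸ hMQ))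
  have hU : ∀ L : Subgroup H, L.Normal → L ≠ ⊥ → Q ≤ L := fun L hL hLb => hQM.trans (hU₀ L hL hLb)
  obtain ⟨a, ha⟩ := IsPGroup.iff_card.1 hQp
  have hcop : (Nat.card Q).Coprime Q.index := by
    rw [ha]
    exact Nat.Coprime.pow_left a ((Nat.Prime.coprime_iff_not_dvd hq).2 hQi)
  have hQt : Q ≠ ⊤ := by
    rintro rfl
    apply hnil
    have hcard : Nat.card H = q ^ a := by rw [← ha, Subgroup.card_top]
    exact (IsPGroup.of_card hcard).isNilpotent
  haveI := hquot Q hQn hQb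
  have hab := quotient_comm m hcd Q hQc hcop hU hF0 hQb hQt
  have hfpf : ∀ g : H, g ∉ Q → ∀ x ∈ Q, g * x * g⁻¹ = x → x = 1 :=
    fun g hg => fpf_of_central Q hQn hQc hU hF0 g hg (hab g)
  have hindex : Q.index = m := by
    haveI hQnt : Nontrivial Q := (Subgroup.nontrivial_iff_ne_bot Q).2 hQb
    obtain ⟨lam, hlam⟩ := exists_hom_ne_one Q (fun a b => Subtype.ext (hQc a a.2 b b.2)) hQnt
    have hMT : Q ≤ inertiaGrp Q hQn (linFun lam) :=
      le_inertiaGrp Q hQn (linFun_classFunction lam)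
    have hTQ : inertiaGrp Q hQn (linFun lam) = Q := by
      apply le_antisymm _ hMT
      intro t ht
      by_contra htQ
      exact hlam (dual_fpf Q hQn t (hfpf t htQ) lam ((mem_inertia_lin Q hQn lam t).1 ht))
    have hTt : inertiaGrp Q hQn (linFun lam) ≠ ⊤ := by rw [hTQ]; exact hQt
    have := (inertia_index m hcd Q hQn hcop lam hTt).1
    rwa [hTQ] at this
  refine ⟨Q, hQn, hQc, hindex, hfpf, ?_, hindex ▸ hcop⟩
  · -- `m < |Q|`
    obtain ⟨⟨x₀, hx₀⟩, hx₀1⟩ := (Subgroup.ne_bot_iff_exists_ne_one).1 hQb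
    have hx₀1' : x₀ ≠ 1 := fun h => hx₀1 (Subtype.ext h)
    let φ : H ⧸ Q → Q := fun c => Quotient.liftOn' c
      (fun g => (⟨g * x₀ * g⁻¹, hQn.conj_mem x₀ hx₀ g⟩ : Q)) (by
        intro a b hab'
        rw [QuotientGroup.leftRel_apply] at hab'
        apply Subtype.ext
        simp only
        have e1 : (a⁻¹ * b) * x₀ = x₀ * (a⁻¹ * b) := hQc _ hab' _ hx₀
        calc a * x₀ * a⁻¹ = a * (x₀ * (a⁻¹ * b)) * b⁻¹ := by group
          _ = a * ((a⁻¹ * b) * x₀) * b⁻¹ := by rw [e1]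
          _ = b * x₀ * b⁻¹ := by group)
    have hφ : ∀ g : H, φ (QuotientGroup.mk g) = ⟨g * x₀ * g⁻¹, hQn.conj_mem x₀ hx₀ g⟩ :=
      fun g => rfl
    let F : Option (H ⧸ Q) → Q := fun o => o.elim 1 φ
    have hF : Function.Injective F := by
      intro o₁ o₂ h
      rcases o₁ with _ | c₁ <;> rcases o₂ with _ | c₂
      · rfl
      · exfalso
        obtain ⟨g, rfl⟩ := QuotientGroup.mk_surjective c₂
        have h1 : (1 : Q) = φ (QuotientGroup.mk g) := h
        rw [hφ] at h1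
        have h2 : (1 : H) = g * x₀ * g⁻¹ := congrArg Subtype.val h1
        apply hx₀1'
        calc x₀ = g⁻¹ * (g * x₀ * g⁻¹) * g := by group
          _ = 1 := by rw [← h2]; group
      · exfalso
        obtain ⟨g, rfl⟩ := QuotientGroup.mk_surjective c₁
        have h1 : φ (QuotientGroup.mk g) = (1 : Q) := h
        rw [hφ] at h1
        have h2 : g * x₀ * g⁻¹ = (1 : H) := congrArg Subtype.val h1
        apply hx₀1'
        calc x₀ = g⁻¹ * (g * x₀ * g⁻¹) * g := by group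
          _ = 1 := by rw [h2]; group
      · obtain ⟨g₁, rfl⟩ := QuotientGroup.mk_surjective c₁
        obtain ⟨g₂, rfl⟩ := QuotientGroup.mk_surjective c₂
        have h1 : φ (QuotientGroup.mk g₁) = φ (QuotientGroup.mk g₂) := h
        rw [hφ, hφ] at h1
        have h2 : g₁ * x₀ * g₁⁻¹ = g₂ * x₀ * g₂⁻¹ := congrArg Subtype.val h1
        congr 1
        rw [QuotientGroup.eq]
        by_contra hnot
        apply hx₀1'
        apply hfpf (g₁⁻¹ * g₂) hnot x₀ hx₀
        calc g₁⁻¹ * g₂ * x₀ * (g₁⁻¹ * g₂)⁻¹ = g₁⁻¹ * (g₂ * x₀ * g₂⁻¹) * g₁ := by group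
          _ = g₁⁻¹ * (g₁ * x₀ * g₁⁻¹) * g₁ := by rw [h2]
          _ = x₀ := by group
    have h1 := Nat.card_le_card_of_injective F hF
    rw [Finite.card_option, ← Subgroup.index_eq_card, hindex] at h1
    omega

end Cfsg.Agent.Helper76.CD2
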