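import Mathlib

set_option autoImplicit false
set_option linter.style.haveILetI false

/-! An orbit lemma: a group acting on an abelian group by automorphisms, all of whose point
stabilizers are normal of index `1` or `p`, either has a subgroup of index at most `p` acting
trivially, or all twisted commutators `v⁻¹ * g • v` lie in one subgroup of order `p`. -/

namespace Cfsg.Agent.Helper76.CDP

open MulAction

section orbit
variable {Γ V : Type*} [Group Γ] [CommGroup V] [MulDistribMulAction Γ V]

/-- the twisted commutator `v⁻¹ * g • v` -/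
def tw (v : V) (g : Γ) : V := v⁻¹ * g • v

theorem tw_mul (v w : V) (g : Γ) : tw (v * w) g = tw v g * tw w g := by
  unfold tw
  rw [smul_mul', mul_inv]
  exact mul_mul_mul_comm _ _ _ _

theorem tw_one (v : V) : tw v (1 : Γ) = 1 := by
  unfold tw
  rw [one_smul, inv_mul_cancel]

theorem tw_of_mem (v : V) (g : Γ) (hg : g ∈ stabilizer Γ v) : tw v g = 1 := by
  unfold tw
  rw [mem_stabilizer_iff.1 hg, inv_mul_cancel]

theorem tw_mul_right (v : V) (k a : Γ) (ha : a ∈ stabilizer Γ v) : tw v (k * a) = tw v k := by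
  unfold tw
  rw [mul_smul, mem_stabilizer_iff.1 ha]

theorem tw_inv (v : V) (g : Γ) : tw v⁻¹ g = (tw v g)⁻¹ := by
  unfold tw
  rw [smul_inv', inv_inv, mul_inv, inv_inv]

theorem eq_of_le_of_index_eq {p : ℕ} (hp : p.Prime) (H K : Subgroup Γ) (hle : H ≤ K)
    (hH : H.index = p) (hK : K.index = p) : H = K := by
  have h1 := Subgroup.relIndex_mul_index hle
  rw [hH, hK] at h1
  have h2 : H.relIndex K = 1 := by
    have hp0 : 0 < p := hp.pos
    exact Nat.eq_of_mul_eq_mul_right hp0 (by rw [h1, one_mul])
  exact le_antisymm hle (Subgroup.relIndex_eq_one.1 h2)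

theorem exists_mul_of_index_prime {p : ℕ} (hp : p.Prime) (H K : Subgroup Γ) [H.Normal] [K.Normal]
    (hH : H.index = p) (hK : K.index = p) (hne : H ≠ K) (g : Γ) :
    ∃ h ∈ H, ∃ k ∈ K, g = h * k := by
  have hdvd : (H ⊔ K).index ∣ p := by
    rw [← hH]; exact Subgroup.index_dvd_of_le le_sup_left
  have htop : H ⊔ K = ⊤ := by
    rcases (Nat.dvd_prime hp).1 hdvd with h1 | h1
    · exact Subgroup.index_eq_one.1 h1
    · exfalso
      have e1 : H = H ⊔ K := eq_of_le_of_index_eq hp _ _ le_sup_left hH h1
      have e2 : K = H ⊔ K := eq_of_le_of_index_eq hp _ _ le_sup_right hK h1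
      exact hne (e1.trans e2.symm)
  have hg : g ∈ ((H ⊔ K : Subgroup Γ) : Set Γ) := by rw [htop]; trivial
  rw [Subgroup.mul_normal] at hg
  obtain ⟨h, hh, k, hk, rfl⟩ := Set.mem_mul.1 hg
  exact ⟨h, hh, k, hk, rfl⟩

theorem orbit_lemma (p : ℕ) (hp : p.Prime)
    (hst : ∀ v : V, (stabilizer Γ v).Normal ∧
      ((stabilizer Γ v).index = 1 ∨ (stabilizer Γ v).index = p)) :
    (∃ H : Subgroup Γ, H.Normal ∧ (H.index = 1 ∨ H.index = p) ∧ ∀ h ∈ H, ∀ v : V, h • v = v) ∨
    (∃ S : Subgroup V, Nat.card S = p ∧ ∀ (g : Γ) (v : V), v⁻¹ * g • v ∈ S) := by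
  by_cases hex : ∃ v w : V, stabilizer Γ v ≠ stabilizer Γ w ∧ (stabilizer Γ v).index = p ∧
      (stabilizer Γ w).index = p
  swap
  · left
    by_cases h1 : ∃ v : V, (stabilizer Γ v).index = p
    · obtain ⟨v₀, hv₀⟩ := h1
      refine ⟨stabilizer Γ v₀, (hst v₀).1, Or.inr hv₀, ?_⟩
      intro h hh v
      rcases (hst v).2 with h2 | h2
      · have h3 : stabilizer Γ v = ⊤ := Subgroup.index_eq_one.1 h2
        have h4 : h ∈ stabilizer Γ v := by rw [h3]; trivial
        exact mem_stabilizer_iff.1 h4
      · have h3 : stabilizer Γ v₀ = stabilizer Γ v := by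
          by_contra hne
          exact hex ⟨v₀, v, hne, hv₀, h2⟩
        rw [h3] at hh
        exact mem_stabilizer_iff.1 hh
    · refine ⟨⊤, inferInstance, Or.inl Subgroup.index_top, ?_⟩
      intro h _ v
      rcases (hst v).2 with h2 | h2
      · have h3 : stabilizer Γ v = ⊤ := Subgroup.index_eq_one.1 h2
        have h4 : h ∈ stabilizer Γ v := by rw [h3]; trivial
        exact mem_stabilizer_iff.1 h4
      · exact absurd ⟨v, h2⟩ h1
  · right
    obtain ⟨v, w, hne, hv, hw⟩ := hex
    have key : ∀ v w : V, stabilizer Γ v ≠ stabilizer Γ w → (stabilizer Γ v).index = p →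
        (stabilizer Γ w).index = p → ∀ g : Γ, ∃ b : Γ, tw v g = tw w b := by
      intro v w hne hv hw g
      haveI := (hst v).1
      haveI := (hst w).1
      haveI := (hst (v * w)).1
      have hDv : stabilizer Γ (v * w) ≠ stabilizer Γ v := by
        intro hD
        apply hne
        apply eq_of_le_of_index_eq hp _ _ _ hv hw
        intro a ha
        have h1 : a ∈ stabilizer Γ (v * w) := by rw [hD]; exact ha
        have h2 := mem_stabilizer_iff.1 h1
        rw [smul_mul', mem_stabilizer_iff.1 ha] at h2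
        exact mem_stabilizer_iff.2 (mul_left_cancel h2)
      have hDidx : (stabilizer Γ (v * w)).index = p := by
        rcases (hst (v * w)).2 with h1 | h1
        · exfalso
          apply hne
          symm
          apply eq_of_le_of_index_eq hp _ _ _ hw hv
          intro k hk
          have h3 : stabilizer Γ (v * w) = ⊤ := Subgroup.index_eq_one.1 h1
          have h4 : k ∈ stabilizer Γ (v * w) := by rw [h3]; trivial
          have h2 := mem_stabilizer_iff.1 h4
          rw [smul_mul', mem_stabilizer_iff.1 hk] at h2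
          exact mem_stabilizer_iff.2 (mul_right_cancel h2)
        · exact h1
      obtain ⟨k, hk, a, ha, rfl⟩ := exists_mul_of_index_prime hp _ _ hw hv hne.symm g
      obtain ⟨b, hb, d, hd, rfl⟩ := exists_mul_of_index_prime hp _ _ hv hDidx hDv.symm k
      refine ⟨b, ?_⟩
      rw [tw_mul_right v _ a ha]
      have e1 : tw (v * w) (b * d) = tw v (b * d) := by
        rw [tw_mul, tw_of_mem w _ hk, mul_one]
      have e2 : tw (v * w) (b * d) = tw w b := by
        rw [tw_mul_right _ b d hd, tw_mul, tw_of_mem v b hb, one_mul]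
      rw [← e1, e2]
    have allS : ∀ (u : V) (g : Γ), tw u g ∈ Set.range (tw v : Γ → V) := by
      intro u g
      rcases (hst u).2 with h1 | h1
      · have h3 : stabilizer Γ u = ⊤ := Subgroup.index_eq_one.1 h1
        have h4 : g ∈ stabilizer Γ u := by rw [h3]; trivial
        exact ⟨1, by rw [tw_one, tw_of_mem u g h4]⟩
      · by_cases huv : stabilizer Γ u = stabilizer Γ v
        · have huw : stabilizer Γ u ≠ stabilizer Γ w := by rw [huv]; exact hne
          obtain ⟨b, hb⟩ := key u w huw h1 hw g
          obtain ⟨b', hb'⟩ := key w v hne.symm hw hv b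
          exact ⟨b', by rw [hb, hb']⟩
        · obtain ⟨b, hb⟩ := key u v huv h1 hv g
          exact ⟨b, hb.symm⟩
    let S : Subgroup V :=
      { carrier := Set.range (tw v : Γ → V)
        one_mem' := ⟨1, tw_one v⟩
        mul_mem' := by
          rintro s t ⟨g₁, rfl⟩ ⟨g₂, rfl⟩
          obtain ⟨b₂, hb₂⟩ := key v w hne hv hw g₂
          haveI := (hst v).1
          haveI := (hst w).1
          obtain ⟨a, ha, c, hc, hac⟩ := exists_mul_of_index_prime hp _ _ hv hw hne (g₁⁻¹ * b₂)
          have hg : g₁ * a = b₂ * c⁻¹ := by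
            have : b₂ = g₁ * (a * c) := by rw [← hac]; group
            rw [this]; group
          have e1 : tw v (g₁ * a) = tw v g₁ := tw_mul_right v g₁ a ha
          have e2 : tw w (g₁ * a) = tw w b₂ := by
            rw [hg]; exact tw_mul_right w b₂ c⁻¹ (inv_mem hc)
          have e3 : tw (v * w) (g₁ * a) = tw v g₁ * tw v g₂ := by
            rw [tw_mul, e1, e2, hb₂]
          rw [← e3]
          exact allS _ _
        inv_mem' := by
          rintro s ⟨g, rfl⟩
          rw [← tw_inv]
          exact allS _ _ }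
    refine ⟨S, ?_, ?_⟩
    · have h1 : Nat.card S = (Set.range (tw v : Γ → V)).ncard := by
        rw [← Nat.card_coe_set_eq]; rfl
      have h2 : Set.range (tw v : Γ → V) = (fun u => v⁻¹ * u) '' (orbit Γ v) := by
        ext s
        constructor
        · rintro ⟨g, rfl⟩
          exact ⟨g • v, ⟨g, rfl⟩, rfl⟩
        · rintro ⟨u, ⟨g, rfl⟩, rfl⟩
          exact ⟨g, rfl⟩
      rw [h1, h2, Set.ncard_image_of_injective _ (mul_right_injective v⁻¹), ← index_stabilizer, hv]
    · intro g u
      exact allS u g

end orbit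

end Cfsg.Agent.Helper76.CDP
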