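import Cfsg.Agent.Lib.Helper76.CDP1
import Cfsg.Agent.Lib.Helper76.CD2Final

set_option autoImplicit false
set_option linter.style.haveILetI false
set_option linter.unusedSectionVars false

/-! Character-theoretic input for groups with character degrees `1` and `p`: inertia groups of
linear characters of normal subgroups, and the dichotomy for abelian normal subgroups. -/

namespace Cfsg.Agent.Helper76.CDP

open Cfsg Cfsg.Agent.Helper79 Cfsg.Agent.Helper81 Cfsg.Agent.Helper76.CD2
open scoped commutatorElement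

universe u

theorem normal_of_nilpotent_index {G : Type*} [Group G] [Group.IsNilpotent G] (H : Subgroup G)
    (p : ℕ) (hp : p.Prime) (h : H.index = 1 ∨ H.index = p) : H.Normal := by
  rcases h with h | h
  · rw [Subgroup.index_eq_one.1 h]; infer_instance
  · have hne : H ≠ ⊤ := by
      intro h1
      rw [h1, Subgroup.index_top] at h
      exact hp.one_lt.ne h
    have hlt : H < Subgroup.normalizer (H : Set G) :=
      Group.normalizerCondition_of_isNilpotent H (lt_top_iff_ne_top.2 hne)
    have h1 := Subgroup.relIndex_mul_index hlt.le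
    rw [h] at h1
    have h2 : H.relIndex (Subgroup.normalizer (H : Set G)) ≠ 1 := by
      intro h3
      exact hlt.not_ge (Subgroup.relIndex_eq_one.1 h3)
    have h3 : (Subgroup.normalizer (H : Set G)).index = 1 := by
      rcases (Nat.dvd_prime hp).1 ⟨_, h1.symm⟩ with h4 | h4
      · exact absurd h4 h2
      · rw [h4] at h1
        have hp0 : 0 < p := hp.pos
        exact Nat.eq_of_mul_eq_mul_left hp0 (by rw [h1, mul_one])
    exact Subgroup.normalizer_eq_top_iff.1 (Subgroup.index_eq_one.1 h3)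

section chars
variable {G : Type u} [Group G] [Fintype G]

/-- Clifford correspondent of a character over a linear character of a normal subgroup -/
theorem exists_clifford (p : ℕ)
    (hcd : ∀ χ : IrrCharacter G, charDegree (χ : G → ℂ) = 1 ∨ charDegree (χ : G → ℂ) = p)
    (A : Subgroup G) [hA : A.Normal] [Fintype A] (mu : A →* ℂˣ) :
    ∃ ψ : IrrCharacter (inertiaGrp A hA (linFun mu)),
      ((inertiaGrp A hA (linFun mu)).index * charDegree (ψ : inertiaGrp A hA (linFun mu) → ℂ) = 1 ∨
        (inertiaGrp A hA (linFun mu)).index * charDegree (ψ : inertiaGrp A hA (linFun mu) → ℂ) = p) ∧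
      classInner (resTo (le_inertiaGrp A hA (linFun_classFunction mu))
        (ψ : inertiaGrp A hA (linFun mu) → ℂ)) (linFun mu) ≠ 0 := by
  classical
  set T := inertiaGrp A hA (linFun mu) with hTdef
  haveI : Fintype T := Fintype.ofFinite T
  have hAT : A ≤ T := le_inertiaGrp A hA (linFun_classFunction mu)
  obtain ⟨χ, e, -, -, hne⟩ := exists_over A (⟨linFun mu, isIrr_linFun mu⟩ : IrrCharacter A)
  obtain ⟨ψ, hψ, hind, hin⟩ := clifford_corr_surj A T hA hAT (isIrr_linFun mu)
    (fun g => Iff.rfl) χ.2 hne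
  refine ⟨⟨ψ, hψ⟩, ?_, ?_⟩
  · have h1 : (χ : G → ℂ) 1 = (T.index : ℂ) * ψ 1 := by rw [← hind, indFun_one]
    have h0 := (irr_one_eq (⟨ψ, hψ⟩ : IrrCharacter T)).1
    change ψ 1 = _ at h0
    rw [(irr_one_eq χ).1, h0] at h1
    have h2 : charDegree (χ : G → ℂ) = T.index * charDegree ψ := by exact_mod_cast h1
    change T.index * charDegree ψ = 1 ∨ T.index * charDegree ψ = p
    rw [← h2]
    exact hcd χ
  · change classInner (resTo hAT ψ) (linFun mu) ≠ 0
    rw [hin]
    exact hne

/-- (C1) the inertia group of a linear character has index `1` or `p` -/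
theorem inertia_index (p : ℕ) (hp : p.Prime)
    (hcd : ∀ χ : IrrCharacter G, charDegree (χ : G → ℂ) = 1 ∨ charDegree (χ : G → ℂ) = p)
    (A : Subgroup G) [hA : A.Normal] (mu : A →* ℂˣ) :
    (inertiaGrp A hA (linFun mu)).index = 1 ∨ (inertiaGrp A hA (linFun mu)).index = p := by
  classical
  haveI : Fintype A := Fintype.ofFinite A
  obtain ⟨ψ, h1, -⟩ := exists_clifford p hcd A mu
  rcases h1 with h1 | h1
  · left; exact Nat.eq_one_of_mul_eq_one_right h1
  · exact (Nat.dvd_prime hp).1 ⟨_, h1.symm⟩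

/-- (C2) if the inertia group has index `p`, the linear character kills commutators of the
inertia group lying in the normal subgroup -/
theorem apply_commutator_eq_one (p : ℕ) (hp : p.Prime)
    (hcd : ∀ χ : IrrCharacter G, charDegree (χ : G → ℂ) = 1 ∨ charDegree (χ : G → ℂ) = p)
    (A : Subgroup G) [hA : A.Normal] (mu : A →* ℂˣ)
    (hidx : (inertiaGrp A hA (linFun mu)).index = p)
    (g h : G) (hg : g ∈ inertiaGrp A hA (linFun mu)) (hh : h ∈ inertiaGrp A hA (linFun mu))
    (hc : g * h * g⁻¹ * h⁻¹ ∈ A) : mu ⟨g * h * g⁻¹ * h⁻¹, hc⟩ = 1 := by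
  classical
  set T := inertiaGrp A hA (linFun mu) with hTdef
  haveI : Fintype A := Fintype.ofFinite A
  haveI : Fintype T := Fintype.ofFinite T
  have hAT : A ≤ T := le_inertiaGrp A hA (linFun_classFunction mu)
  obtain ⟨ψ, h1, hne⟩ := exists_clifford p hcd A mu
  change (T.index * charDegree (ψ : T → ℂ) = 1 ∨ T.index * charDegree (ψ : T → ℂ) = p) at h1
  change classInner (resTo hAT (ψ : T → ℂ)) (linFun mu) ≠ 0 at hne
  have hdeg : charDegree (ψ : T → ℂ) = 1 := by
    rw [hidx] at h1
    rcases h1 with h1 | h1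
    · exfalso
      have := Nat.eq_one_of_mul_eq_one_right h1
      exact hp.one_lt.ne' this
    · have hp0 : 0 < p := hp.pos
      exact Nat.eq_of_mul_eq_mul_left hp0 (by rw [h1, mul_one])
  obtain ⟨α', hα', hsum⟩ := exists_add_of_classInner_ne_zero
    (isCharacter_resTo hAT (IsIrrCharacter.isCharacter ψ.2)) (isIrr_linFun mu) hne
  have hα0 : α' 1 = 0 := by
    have h2 := congrFun hsum 1
    rw [Pi.add_apply, linFun_apply, map_one, Units.val_one] at h2
    have h3 : resTo hAT (ψ : T → ℂ) 1 = (ψ : T → ℂ) 1 := rfl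
    rw [h3, (irr_one_eq ψ).1, hdeg] at h2
    have : (1 : ℂ) = 1 + α' 1 := by exact_mod_cast h2
    linear_combination -this
  have hα : α' = 0 := eq_zero_of_char_one_eq_zero hα' hα0
  rw [hα, add_zero] at hsum
  have h4 := irr_commutator_of_degree_one ψ hdeg ⟨g, hg⟩ ⟨h, hh⟩
  have h5 := congrFun hsum ⟨g * h * g⁻¹ * h⁻¹, hc⟩
  rw [linFun_apply] at h5
  have h6 : resTo hAT (ψ : T → ℂ) ⟨g * h * g⁻¹ * h⁻¹, hc⟩ =
      (ψ : T → ℂ) (⟨g, hg⟩ * ⟨h, hh⟩ * ⟨g, hg⟩⁻¹ * ⟨h, hh⟩⁻¹) := rfl
  rw [h6, h4] at h5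
  exact Units.ext h5.symm

end chars

end Cfsg.Agent.Helper76.CDP
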