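import Cfsg.Agent.Lib.Helper76.CDP2

set_option autoImplicit false
set_option linter.style.haveILetI false
set_option linter.unusedSectionVars false

/-! The dichotomy for abelian normal subgroups of a nilpotent group with character degrees
`1` and `p`: either the centralizer has index at most `p`, or the subgroup is central up to
index `p`. -/

namespace Cfsg.Agent.Helper76.CDP

open Cfsg Cfsg.Agent.Helper79 Cfsg.Agent.Helper81 Cfsg.Agent.Helper76.CD2
open scoped commutatorElement

universe u

/-- homomorphisms to `ℂˣ` of a finite subgroup with commuting elements separate an element from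
a subgroup not containing it -/
theorem exists_hom_sep {G : Type*} [Group G] (A : Subgroup G) [Finite A]
    (hAc : ∀ a ∈ A, ∀ b ∈ A, a * b = b * a) (B : Subgroup G) (a : G) (ha : a ∈ A) (haB : a ∉ B) :
    ∃ mu : A →* ℂˣ, (∀ b : A, (b : G) ∈ B → mu b = 1) ∧ mu ⟨a, ha⟩ ≠ 1 := by
  letI : CommGroup A :=
    { (inferInstance : Group A) with
      mul_comm := fun x y => Subtype.ext (hAc x x.2 y y.2) }
  let B' : Subgroup A := B.subgroupOf A
  have hq : (QuotientGroup.mk' B' ⟨a, ha⟩ : A ⧸ B') ≠ 1 := by
    intro h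
    rw [QuotientGroup.mk'_apply, QuotientGroup.eq_one_iff] at h
    exact haB (Subgroup.mem_subgroupOf.1 h)
  obtain ⟨φ, hφ⟩ := CommGroup.exists_apply_ne_one_of_hasEnoughRootsOfUnity (A ⧸ B') ℂ hq
  refine ⟨φ.comp (QuotientGroup.mk' B'), ?_, ?_⟩
  · intro b hb
    rw [MonoidHom.comp_apply]
    have : (QuotientGroup.mk' B' b : A ⧸ B') = 1 := by
      rw [QuotientGroup.mk'_apply, QuotientGroup.eq_one_iff]
      exact Subgroup.mem_subgroupOf.2 hb
    rw [this, map_one]
  · rw [MonoidHom.comp_apply]
    exact hφ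

section dich
variable {G : Type u} [Group G] [Fintype G]

/-- the action of `G` on the linear characters of a normal subgroup -/
@[reducible] def linAction (A : Subgroup G) [hA : A.Normal] :
    MulDistribMulAction G (A →* ℂˣ) where
  smul g mu := conjHom A mu g⁻¹
  one_smul mu := by
    ext a
    change ((conjHom A mu (1 : G)⁻¹ a : ℂˣ) : ℂ) = mu a
    rw [conjHom_apply]
    congr 2
    ext
    simp
  mul_smul g h mu := by
    ext a
    change ((conjHom A mu (g * h)⁻¹ a : ℂˣ) : ℂ) = conjHom A (conjHom A mu h⁻¹) g⁻¹ a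
    rw [conjHom_apply, conjHom_apply, conjHom_apply]
    congr 2
    ext
    simp [mul_assoc]
  smul_mul g mu nu := by
    ext a
    rfl
  smul_one g := by
    ext a
    rfl

theorem linAction_smul (A : Subgroup G) [hA : A.Normal] (g : G) (mu : A →* ℂˣ) :
    letI := linAction A
    g • mu = conjHom A mu g⁻¹ := rfl

theorem mem_inertia_iff_conjHom (A : Subgroup G) [hA : A.Normal] (mu : A →* ℂˣ) (g : G) :
    g ∈ inertiaGrp A hA (linFun mu) ↔ conjHom A mu g = mu := by
  rw [mem_inertia_lin]
  constructor
  · intro h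
    ext x
    rw [conjHom_apply, h x]
  · intro h x
    rw [← conjHom_apply, h]

theorem stabilizer_eq_inertia (A : Subgroup G) [hA : A.Normal] (mu : A →* ℂˣ) :
    letI := linAction A
    MulAction.stabilizer G mu = inertiaGrp A hA (linFun mu) := by
  letI := linAction A
  ext g
  rw [← inv_mem_iff, MulAction.mem_stabilizer_iff, linAction_smul, inv_inv, mem_inertia_iff_conjHom]

/-- the dichotomy -/
theorem dichotomy (p : ℕ) (hp : p.Prime)
    (hcd : ∀ χ : IrrCharacter G, charDegree (χ : G → ℂ) = 1 ∨ charDegree (χ : G → ℂ) = p)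
    [hnil : Group.IsNilpotent G]
    (A : Subgroup G) [hA : A.Normal] (hAc : ∀ a ∈ A, ∀ b ∈ A, a * b = b * a) :
    (∃ H : Subgroup G, H.Normal ∧ H.index ∣ p ∧ H ≤ Subgroup.centralizer (A : Set G)) ∨
    (∃ A₀ : Subgroup G, A₀ ≤ A ∧ A₀ ≤ Subgroup.center G ∧ A₀.relIndex A ∣ p) := by
  classical
  letI := linAction A
  have hst : ∀ mu : A →* ℂˣ, (MulAction.stabilizer G mu).Normal ∧
      ((MulAction.stabilizer G mu).index = 1 ∨ (MulAction.stabilizer G mu).index = p) := by
    intro mu
    rw [stabilizer_eq_inertia]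
    have h1 := inertia_index p hp hcd A mu
    exact ⟨normal_of_nilpotent_index _ p hp h1, h1⟩
  -- separation: an element of `A` killed by all linear characters is trivial
  have hsep : ∀ a : A, (∀ mu : A →* ℂˣ, mu a = 1) → a = 1 := by
    intro a h
    by_contra ha
    have ha' : (a : G) ∉ (⊥ : Subgroup G) := by
      rw [Subgroup.mem_bot]
      intro h1
      exact ha (Subtype.ext h1)
    obtain ⟨mu, -, hmu⟩ := exists_hom_sep A hAc ⊥ (a : G) a.2 ha'
    exact hmu (h mu)
  rcases orbit_lemma (Γ := G) (V := A →* ℂˣ) p hp hst with ⟨H, hHn, hHi, hH⟩ | ⟨S, hS, hSall⟩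
  · left
    refine ⟨H, hHn, ?_, ?_⟩
    · rcases hHi with h | h
      · rw [h]; exact one_dvd _
      · rw [h]
    · intro h hh
      rw [Subgroup.mem_centralizer_iff]
      intro a ha
      -- every `mu` has `mu (h⁻¹ a h) = mu a`
      have hmem : h⁻¹ * a * h ∈ A := by
        have := hA.conj_mem a ha h⁻¹
        rwa [inv_inv] at this
      have key : (⟨h⁻¹ * a * h, hmem⟩ : A) * (⟨a, ha⟩ : A)⁻¹ = 1 := by
        apply hsep
        intro mu
        have h1 := hH h hh mu
        rw [linAction_smul] at h1
        have h2 := DFunLike.congr_fun h1 ⟨a, ha⟩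
        rw [conjHom_apply] at h2
        rw [map_mul, map_inv]
        have h3 : (⟨h⁻¹ * a * h, hmem⟩ : A) = ⟨h⁻¹ * (⟨a, ha⟩ : A) * h⁻¹⁻¹, hA.conj_mem _ ha h⁻¹⟩ := by
          ext; simp
        rw [h3, h2, mul_inv_cancel]
      have h4 := congrArg Subtype.val key
      simp only [Subgroup.coe_mul, Subgroup.coe_inv, Subgroup.coe_one] at h4
      have h5 : h⁻¹ * a * h = a := by
        have := mul_inv_eq_one.1 h4
        exact this
      calc a * h = h * (h⁻¹ * a * h) := by group
        _ = h * a := by rw [h5]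
  · right
    haveI : Fact p.Prime := ⟨hp⟩
    haveI : Finite S := Nat.finite_of_card_ne_zero (by rw [hS]; exact hp.ne_zero)
    -- a generator of `S`
    obtain ⟨σ, hσ1⟩ : ∃ σ : S, σ ≠ 1 := by
      haveI : Nontrivial S := Finite.one_lt_card_iff_nontrivial.1 (by rw [hS]; exact hp.one_lt)
      exact exists_ne 1
    have hgen : ∀ s : S, s ∈ Subgroup.zpowers σ := fun s => mem_zpowers_of_prime_card hS hσ1
    have hσp : (σ : A →* ℂˣ) ^ p = 1 := by
      have h1 : σ ^ p = 1 := by
        rw [← hS]; exact pow_card_eq_one'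
      have h2 := congrArg Subtype.val h1
      simpa using h2
    let K : Subgroup A := (σ : A →* ℂˣ).ker
    refine ⟨K.map A.subtype, ?_, ?_, ?_⟩
    · intro x hx
      obtain ⟨y, -, rfl⟩ := hx
      exact y.2
    · intro x hx
      obtain ⟨y, hy, rfl⟩ := hx
      have hyσ : (σ : A →* ℂˣ) y = 1 := MonoidHom.mem_ker.1 hy
      rw [Subgroup.mem_center_iff]
      intro g
      -- `y` commutes with `g`
      have hall : ∀ s : S, (s : A →* ℂˣ) y = 1 := by
        intro s
        obtain ⟨k, hk⟩ := Subgroup.mem_zpowers_iff.1 (hgen s)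
        have h1 : (s : A →* ℂˣ) = (σ : A →* ℂˣ) ^ k := by
          rw [← hk]; simp
        rw [h1, MonoidHom.zpow_apply, hyσ, one_zpow]
      have hmem : g⁻¹ * (y : G) * g ∈ A := by
        have := hA.conj_mem y y.2 g⁻¹
        rwa [inv_inv] at this
      have key : (y : A)⁻¹ * (⟨g⁻¹ * (y : G) * g, hmem⟩ : A) = 1 := by
        apply hsep
        intro mu
        have h1 := hall ⟨mu⁻¹ * g • mu, hSall g mu⟩
        change (mu⁻¹ * g • mu) y = 1 at h1
        rw [MonoidHom.mul_apply, MonoidHom.inv_apply, linAction_smul, conjHom_apply] at h1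
        rw [map_mul, map_inv]
        have h3 : (⟨g⁻¹ * (y : G) * g, hmem⟩ : A) = ⟨g⁻¹ * (y : G) * g⁻¹⁻¹, hA.conj_mem _ y.2 g⁻¹⟩ := by
          ext; simp
        rw [h3]
        exact h1
      have h4 := congrArg Subtype.val key
      simp only [Subgroup.coe_mul, Subgroup.coe_inv, Subgroup.coe_one] at h4
      have h5 : g⁻¹ * (y : G) * g = y := by
        have := inv_mul_eq_one.1 h4
        exact this.symm
      change g * (y : G) = (y : G) * g
      calc g * (y : G) = g * (g⁻¹ * (y : G) * g) := by rw [h5]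
        _ = (y : G) * g := by group
    · -- the index
      have h1 : (K.map A.subtype).relIndex A = K.index := by
        unfold Subgroup.relIndex Subgroup.subgroupOf
        rw [Subgroup.comap_map_eq_self_of_injective A.subtype_injective]
      rw [h1, Subgroup.index_ker]
      -- the range of `σ` lies in the `p`-th roots of unity
      haveI : NeZero p := ⟨hp.ne_zero⟩
      have hle : (σ : A →* ℂˣ).range ≤ rootsOfUnity p ℂ := by
        rintro u ⟨y, rfl⟩
        rw [mem_rootsOfUnity]
        have := DFunLike.congr_fun hσp y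
        rw [MonoidHom.pow_apply, MonoidHom.one_apply] at this
        exact this
      have h2 := Subgroup.card_dvd_of_le hle
      rw [Complex.card_rootsOfUnity] at h2
      exact h2

end dich

end Cfsg.Agent.Helper76.CDP
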