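import Cfsg.Agent.Lib.Helper76.CDP3
import Cfsg.Agent.Lib.Helper10.Nilp

set_option autoImplicit false
set_option linter.style.haveILetI false
set_option linter.unusedSectionVars false

/-! Group-theoretic lemmas for the `cd(G) = {1, p}` theorem. -/

namespace Cfsg.Agent.Helper76.CDP

open Cfsg
open scoped commutatorElement

section selfcent

variable {P : Type*} [Group P]

/-- a normal abelian subgroup of a finite nilpotent group lies in a self-centralizing one -/
theorem exists_self_centralizing_ge [Finite P] [Group.IsNilpotent P] (B : Subgroup P)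
    (hBn : B.Normal) (hBc : ∀ a ∈ B, ∀ b ∈ B, a * b = b * a) :
    ∃ A : Subgroup P, B ≤ A ∧ A.Normal ∧ (∀ a ∈ A, ∀ b ∈ A, a * b = b * a) ∧
      Subgroup.centralizer (A : Set P) = A := by
  let 𝓐 : Subgroup P → Prop := fun A => A.Normal ∧ ∀ a ∈ A, ∀ b ∈ A, a * b = b * a
  have h0 : 𝓐 B := ⟨hBn, hBc⟩
  obtain ⟨A, hBA, hAmax⟩ := Finite.exists_le_maximal h0
  have hAn : A.Normal := hAmax.1.1
  have hAc := hAmax.1.2
  refine ⟨A, hBA, hAn, hAc, ?_⟩
  have hle : A ≤ Subgroup.centralizer (A : Set P) := by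
    intro a ha
    rw [Subgroup.mem_centralizer_iff]
    intro b hb
    exact hAc b hb a ha
  by_contra hne
  have hlt : A < Subgroup.centralizer (A : Set P) := lt_of_le_of_ne hle (Ne.symm hne)
  let Cbar := (Subgroup.centralizer (A : Set P)).map (QuotientGroup.mk' A)
  haveI : Cbar.Normal :=
    Subgroup.Normal.map inferInstance (QuotientGroup.mk' A) (QuotientGroup.mk'_surjective A)
  have hCbar : Cbar ≠ ⊥ := by
    intro h
    rw [Subgroup.map_eq_bot_iff, QuotientGroup.ker_mk'] at h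
    exact hlt.not_ge h
  have hmeet := Cfsg.Agent.Helper10.normal_inf_center_ne_bot Cbar hCbar
  rcases Subgroup.bot_or_exists_ne_one (Cbar ⊓ Subgroup.center (P ⧸ A)) with h | ⟨cb, hcb, hcb1⟩
  · exact hmeet h
  obtain ⟨c, hcC, hceq⟩ := hcb.1
  have hcA : c ∉ A := by
    intro h
    apply hcb1
    rw [← hceq]
    exact (QuotientGroup.eq_one_iff c).mpr h
  have hcz : (QuotientGroup.mk' A) c ∈ Subgroup.center (P ⧸ A) := by rw [hceq]; exact hcb.2
  let B' := (Subgroup.zpowers ((QuotientGroup.mk' A) c)).comap (QuotientGroup.mk' A)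
  have hZn : (Subgroup.zpowers ((QuotientGroup.mk' A) c)).Normal := by
    constructor
    intro n hn g
    have hn' : n ∈ Subgroup.center (P ⧸ A) := by
      obtain ⟨k, rfl⟩ := Subgroup.mem_zpowers_iff.mp hn
      exact Subgroup.zpow_mem _ hcz k
    have := Subgroup.mem_center_iff.mp hn' g
    rw [this, mul_inv_cancel_right]
    exact hn
  have hBn' : B'.Normal := Subgroup.Normal.comap hZn _
  have hcomm : ∀ a ∈ A, Commute a c := by
    intro a ha
    exact (Subgroup.mem_centralizer_iff.mp hcC a ha)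
  have hBc' : ∀ x ∈ B', ∀ y ∈ B', x * y = y * x := by
    intro x hx y hy
    obtain ⟨k, hk⟩ := Subgroup.mem_zpowers_iff.mp hx
    obtain ⟨l, hl⟩ := Subgroup.mem_zpowers_iff.mp hy
    have hxa : (c ^ k)⁻¹ * x ∈ A := by
      rw [← QuotientGroup.eq]
      have : ((c ^ k : P) : P ⧸ A) = (QuotientGroup.mk' A) c ^ k := by
        rw [← map_zpow]; rfl
      rw [this, hk]; rfl
    have hya : (c ^ l)⁻¹ * y ∈ A := by
      rw [← QuotientGroup.eq]
      have : ((c ^ l : P) : P ⧸ A) = (QuotientGroup.mk' A) c ^ l := by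
        rw [← map_zpow]; rfl
      rw [this, hl]; rfl
    have ex : x = c ^ k * ((c ^ k)⁻¹ * x) := by group
    have ey : y = c ^ l * ((c ^ l)⁻¹ * y) := by group
    have c1 : Commute (c ^ k) (c ^ l) := (Commute.refl c).zpow_zpow k l
    have c2 : Commute (c ^ k) ((c ^ l)⁻¹ * y) := ((hcomm _ hya).zpow_right k).symm
    have c3 : Commute ((c ^ k)⁻¹ * x) (c ^ l) := (hcomm _ hxa).zpow_right l
    have c4 : Commute ((c ^ k)⁻¹ * x) ((c ^ l)⁻¹ * y) := hAc _ hxa _ hya
    have : Commute (c ^ k * ((c ^ k)⁻¹ * x)) (c ^ l * ((c ^ l)⁻¹ * y)) :=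
      Commute.mul_left (Commute.mul_right c1 c2) (Commute.mul_right c3 c4)
    rw [ex, ey]
    exact this
  have hAB : A ≤ B' := by
    intro a ha
    show (QuotientGroup.mk' A) a ∈ Subgroup.zpowers ((QuotientGroup.mk' A) c)
    have : (QuotientGroup.mk' A) a = 1 := (QuotientGroup.eq_one_iff a).mpr ha
    rw [this]
    exact Subgroup.one_mem _
  have hBA' : B' ≤ A := hAmax.2 ⟨hBn', hBc'⟩ hAB
  exact hcA (hBA' (show (QuotientGroup.mk' A) c ∈ Subgroup.zpowers ((QuotientGroup.mk' A) c) from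
    Subgroup.mem_zpowers _))

end selfcent

section basic
variable {G : Type*} [Group G]

/-- commutation with a fixed `x`, when all the commutators are central, as a homomorphism -/
def commHomR (x : G) (hx : ∀ g : G, x * g * x⁻¹ * g⁻¹ ∈ Subgroup.center G) :
    G →* Subgroup.center G where
  toFun g := ⟨x * g * x⁻¹ * g⁻¹, hx g⟩
  map_one' := by ext; simp
  map_mul' g h := by
    ext
    simp only [Subgroup.coe_mul]
    have hz := Subgroup.mem_center_iff.1 (hx h) g⁻¹
    calc x * (g * h) * x⁻¹ * (g * h)⁻¹ = x * g * x⁻¹ * ((x * h * x⁻¹ * h⁻¹) * g⁻¹) := by group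
      _ = x * g * x⁻¹ * (g⁻¹ * (x * h * x⁻¹ * h⁻¹)) := by rw [hz]
      _ = x * g * x⁻¹ * g⁻¹ * (x * h * x⁻¹ * h⁻¹) := by group

theorem commHomR_apply (x : G) (hx : ∀ g : G, x * g * x⁻¹ * g⁻¹ ∈ Subgroup.center G) (g : G) :
    ((commHomR x hx g : Subgroup.center G) : G) = x * g * x⁻¹ * g⁻¹ := rfl

theorem commHomR_eq_one_iff (x : G) (hx : ∀ g : G, x * g * x⁻¹ * g⁻¹ ∈ Subgroup.center G) (g : G) :
    commHomR x hx g = 1 ↔ x * g = g * x := by
  rw [Subtype.ext_iff, commHomR_apply, Subgroup.coe_one]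
  constructor
  · intro h
    have : x * g = (x * g * x⁻¹ * g⁻¹) * (g * x) := by group
    rw [this, h, one_mul]
  · intro h
    calc x * g * x⁻¹ * g⁻¹ = (g * x) * x⁻¹ * g⁻¹ := by rw [h]
      _ = 1 := by group

theorem commHomR_symm (x y : G) (hx : ∀ g : G, x * g * x⁻¹ * g⁻¹ ∈ Subgroup.center G)
    (hy : ∀ g : G, y * g * y⁻¹ * g⁻¹ ∈ Subgroup.center G) :
    commHomR x hx y = (commHomR y hy x)⁻¹ := by
  ext
  rw [commHomR_apply, Subgroup.coe_inv, commHomR_apply]
  group

/-- two commuting elements of order dividing `p` generate at most `p * p` elements -/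
theorem card_closure_pair_le {C : Type*} [CommGroup C] (p : ℕ) (hp : 0 < p) (a b : C)
    (ha : a ^ p = 1) (hb : b ^ p = 1) :
    Nat.card (Subgroup.closure ({a, b} : Set C)) ≤ p * p := by
  haveI : NeZero p := ⟨hp.ne'⟩
  let f : Fin p × Fin p → Subgroup.closure ({a, b} : Set C) := fun ij =>
    ⟨a ^ (ij.1 : ℕ) * b ^ (ij.2 : ℕ),
      Subgroup.mul_mem _ (Subgroup.pow_mem _ (Subgroup.subset_closure (by simp)) _)
        (Subgroup.pow_mem _ (Subgroup.subset_closure (by simp)) _)⟩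
  have hf : Function.Surjective f := by
    rintro ⟨z, hz⟩
    obtain ⟨m, n, rfl⟩ := Subgroup.mem_closure_pair.1 hz
    have hm0 : 0 ≤ m % (p : ℤ) := Int.emod_nonneg _ (by exact_mod_cast hp.ne')
    have hn0 : 0 ≤ n % (p : ℤ) := Int.emod_nonneg _ (by exact_mod_cast hp.ne')
    have hm1 : m % (p : ℤ) < p := Int.emod_lt_of_pos _ (by exact_mod_cast hp)
    have hn1 : n % (p : ℤ) < p := Int.emod_lt_of_pos _ (by exact_mod_cast hp)
    refine ⟨(⟨(m % (p : ℤ)).toNat, by omega⟩, ⟨(n % (p : ℤ)).toNat, by omega⟩), ?_⟩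
    apply Subtype.ext
    change a ^ ((m % (p : ℤ)).toNat) * b ^ ((n % (p : ℤ)).toNat) = a ^ m * b ^ n
    rw [← zpow_natCast a, ← zpow_natCast b, Int.toNat_of_nonneg hm0, Int.toNat_of_nonneg hn0]
    rw [← zpow_eq_zpow_emod' m ha, ← zpow_eq_zpow_emod' n hb]
  have h1 := Nat.card_le_card_of_surjective f hf
  rw [Nat.card_prod, Nat.card_fin] at h1
  exact h1

/-- if `Z` has index dividing a prime in `B`, then `B` is generated over `Z` by any element
outside `Z` -/
theorem exists_zpow_mul_of_relIndex_dvd_prime {p : ℕ} (hp : p.Prime) (Z B : Subgroup G)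
    [hZn : Z.Normal] [Finite G]
    (hZB : Z ≤ B) (hrel : Z.relIndex B ∣ p) (u : G) (huB : u ∈ B) (huZ : u ∉ Z)
    (v : G) (hv : v ∈ B) : ∃ i : ℤ, ∃ z ∈ Z, v = u ^ i * z := by
  set M : Subgroup G := Subgroup.zpowers u ⊔ Z with hM
  have hZM : Z ≤ M := le_sup_right
  have hMB : M ≤ B := sup_le (by rw [Subgroup.zpowers_le]; exact huB) hZB
  have h1 := Subgroup.relIndex_mul_relIndex Z M B hZM hMB
  have h2 : Z.relIndex M ≠ 1 := by
    intro h
    have : M ≤ Z := Subgroup.relIndex_eq_one.1 h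
    exact huZ (this (le_sup_left (a := Subgroup.zpowers u) (Subgroup.mem_zpowers u)))
  have h3 : Z.relIndex M = p := by
    have : Z.relIndex M ∣ p := dvd_trans ⟨_, h1.symm⟩ hrel
    rcases (Nat.dvd_prime hp).1 this with h | h
    · exact absurd h h2
    · exact h
  have h4 : M.relIndex B = 1 := by
    rw [h3] at h1
    have h5 : p * M.relIndex B ∣ p := by rw [h1]; exact hrel
    have h6 : M.relIndex B ∣ 1 :=
      Nat.dvd_of_mul_dvd_mul_left hp.pos (show p * M.relIndex B ∣ p * 1 by rw [mul_one]; exact h5)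
    exact Nat.dvd_one.1 h6
  have hBM : B ≤ M := Subgroup.relIndex_eq_one.1 h4
  have hvM : v ∈ ((Subgroup.zpowers u ⊔ Z : Subgroup G) : Set G) := hBM hv
  rw [Subgroup.mul_normal] at hvM
  obtain ⟨y, hy, z, hz, rfl⟩ := Set.mem_mul.1 hvM
  obtain ⟨i, rfl⟩ := Subgroup.mem_zpowers_iff.1 hy
  exact ⟨i, z, hz, rfl⟩

end basic

end Cfsg.Agent.Helper76.CDP
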