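import Cfsg.Agent.Lib.Helper76.CDP4

set_option autoImplicit false
set_option linter.style.haveILetI false
set_option linter.unusedSectionVars false

/-! Nilpotent groups with character degrees `1` and `p`: setup. -/

namespace Cfsg.Agent.Helper76.CDP

open Cfsg Cfsg.Agent.Helper79 Cfsg.Agent.Helper81 Cfsg.Agent.Helper76.CD2
open scoped commutatorElement

universe u

section main
variable {G : Type u} [Group G] [Fintype G]

theorem nilpotent_of_pow_center (p : ℕ) (hp : p.Prime)
    (hZ : ∀ g : G, ∃ k : ℕ, g ^ p ^ k ∈ Subgroup.center G) :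
    IsPGroup p (G ⧸ Subgroup.center G) ∧ Group.IsNilpotent G := by
  haveI : Fact p.Prime := ⟨hp⟩
  have h1 : IsPGroup p (G ⧸ Subgroup.center G) := by
    intro q
    induction q using QuotientGroup.induction_on with
    | H g =>
      obtain ⟨k, hk⟩ := hZ g
      refine ⟨k, ?_⟩
      rw [← QuotientGroup.mk_pow, QuotientGroup.eq_one_iff]
      exact hk
  refine ⟨h1, ?_⟩
  haveI : Group.IsNilpotent (G ⧸ Subgroup.center G) := h1.isNilpotent
  exact Group.of_quotient_center_nilpotent inferInstance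

/-- without an abelian normal subgroup of index dividing `p`, abelian normal subgroups
containing the centre have index dividing `p` over it -/
theorem relIndex_center_dvd (p : ℕ) (hp : p.Prime)
    (hcd : ∀ χ : IrrCharacter G, charDegree (χ : G → ℂ) = 1 ∨ charDegree (χ : G → ℂ) = p)
    [hnil : Group.IsNilpotent G]
    (hno : ¬ ∃ A : Subgroup G, A.Normal ∧ (∀ a ∈ A, ∀ b ∈ A, a * b = b * a) ∧ A.index ∣ p)
    (B : Subgroup G) (hBn : B.Normal) (hBc : ∀ a ∈ B, ∀ b ∈ B, a * b = b * a)
    (hZB : Subgroup.center G ≤ B) : (Subgroup.center G).relIndex B ∣ p := by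
  obtain ⟨A, hBA, hAn, hAc, hCA⟩ := exists_self_centralizing_ge B hBn hBc
  haveI := hAn
  rcases dichotomy p hp hcd A hAc with ⟨H, hHn, hHi, hH⟩ | ⟨A₀, hA₀A, hA₀Z, hA₀i⟩
  · exfalso
    apply hno
    refine ⟨A, hAn, hAc, ?_⟩
    rw [hCA] at hH
    exact dvd_trans (Subgroup.index_dvd_of_le hH) hHi
  · have hZA : Subgroup.center G ≤ A := hZB.trans hBA
    have h1 := Subgroup.relIndex_mul_relIndex A₀ (Subgroup.center G) A hA₀Z hZA
    have h2 := Subgroup.relIndex_mul_relIndex (Subgroup.center G) B A hZB hBA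
    have h3 : (Subgroup.center G).relIndex A ∣ p :=
      dvd_trans (Dvd.intro_left _ h1) hA₀i
    exact dvd_trans ⟨_, h2.symm⟩ h3

end main

end Cfsg.Agent.Helper76.CDP
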