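import Cfsg.Agent.Lib.Helper76.CDP5
import Cfsg.Agent.Lib.Helper76.AbelianNormal

set_option autoImplicit false
set_option linter.style.haveILetI false
set_option linter.unusedSectionVars false

/-! Nilpotent groups with character degrees `1` and `p`: the self-centralizing subgroup `A`
of index `p` over the centre, and the commutator map with `x ∈ A`. -/

namespace Cfsg.Agent.Helper76.CDP

open Cfsg Cfsg.Agent.Helper79 Cfsg.Agent.Helper81 Cfsg.Agent.Helper76.CD2
open scoped commutatorElement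

universe u

section main
variable {G : Type u} [Group G] [Fintype G]

theorem setup (p : ℕ) (hp : p.Prime)
    (hcd : ∀ χ : IrrCharacter G, charDegree (χ : G → ℂ) = 1 ∨ charDegree (χ : G → ℂ) = p)
    (hZ : ∀ g : G, ∃ k : ℕ, g ^ p ^ k ∈ Subgroup.center G)
    (hno : ¬ ∃ A : Subgroup G, A.Normal ∧ (∀ a ∈ A, ∀ b ∈ A, a * b = b * a) ∧ A.index ∣ p) :
    ∃ (A : Subgroup G) (hAn : A.Normal) (x : G)
      (hx2 : ∀ g : G, x * g * x⁻¹ * g⁻¹ ∈ Subgroup.center G),
      Subgroup.center G ≤ A ∧ (∀ a ∈ A, ∀ b ∈ A, a * b = b * a) ∧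
      (Subgroup.center G).relIndex A = p ∧ x ∈ A ∧
      (∀ g : G, commHomR x hx2 g = 1 ↔ g ∈ A) ∧ (∀ g : G, (commHomR x hx2 g) ^ p = 1) ∧
      (∀ (mu : A →* ℂˣ) (g : G), g ∈ inertiaGrp A hAn (linFun mu) ↔
        ∀ hm : ((commHomR x hx2 g : Subgroup.center G) : G) ∈ A, mu ⟨_, hm⟩ = 1) := by
  classical
  obtain ⟨hpQ, hnil⟩ := nilpotent_of_pow_center p hp hZ
  haveI := hnil
  set Z := Subgroup.center G with hZdef
  have hZc : ∀ a ∈ Z, ∀ b ∈ Z, a * b = b * a := by
    intro a ha b _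
    exact (Subgroup.mem_center_iff.1 ha b).symm
  obtain ⟨A, hZA, hAn, hAc, hCA⟩ := exists_self_centralizing_ge Z inferInstance hZc
  haveI := hAn
  have hrel0 : Z.relIndex A ∣ p := relIndex_center_dvd p hp hcd hno A hAn hAc hZA
  have hrel : Z.relIndex A = p := by
    rcases (Nat.dvd_prime hp).1 hrel0 with h | h
    · exfalso
      have hAZ : A ≤ Z := Subgroup.relIndex_eq_one.1 h
      have htop : Subgroup.centralizer (A : Set G) = ⊤ := by
        rw [eq_top_iff]
        intro g _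
        rw [Subgroup.mem_centralizer_iff]
        intro a ha
        exact (Subgroup.mem_center_iff.1 (hAZ ha) g).symm
      apply hno
      refine ⟨A, hAn, hAc, ?_⟩
      rw [← hCA, htop, Subgroup.index_top]
      exact one_dvd _
    · exact h
  -- the element `x`
  let K : Subgroup (G ⧸ Z) := A.map (QuotientGroup.mk' Z)
  haveI : K.Normal := Subgroup.Normal.map hAn _ (QuotientGroup.mk'_surjective Z)
  have hK : K ≠ ⊥ := by
    intro h
    rw [Subgroup.map_eq_bot_iff, QuotientGroup.ker_mk'] at h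
    have := Subgroup.relIndex_eq_one.2 h
    rw [hrel] at this
    exact hp.one_lt.ne' this
  haveI : Group.IsNilpotent (G ⧸ Z) := inferInstance
  have hmeet := Cfsg.Agent.Helper10.normal_inf_center_ne_bot K hK
  rcases Subgroup.bot_or_exists_ne_one (K ⊓ Subgroup.center (G ⧸ Z)) with h | ⟨xb, hxb, hxb1⟩
  · exact absurd h hmeet
  obtain ⟨x, hxA, hxeq⟩ := hxb.1
  have hxZ : x ∉ Z := by
    intro h
    apply hxb1
    rw [← hxeq]
    exact (QuotientGroup.eq_one_iff x).2 h
  have hx2 : ∀ g : G, x * g * x⁻¹ * g⁻¹ ∈ Z := by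
    intro g
    rw [← QuotientGroup.eq_one_iff (N := Z)]
    have hc := Subgroup.mem_center_iff.1 hxb.2 (QuotientGroup.mk' Z g)
    rw [← hxeq] at hc
    have h1 : ((x * g * x⁻¹ * g⁻¹ : G) : G ⧸ Z) = QuotientGroup.mk' Z x * QuotientGroup.mk' Z g *
        (QuotientGroup.mk' Z x)⁻¹ * (QuotientGroup.mk' Z g)⁻¹ := rfl
    rw [h1, ← hc]
    group
  refine ⟨A, hAn, x, hx2, hZA, hAc, hrel, hxA, ?_⟩
  have hAx : ∀ a ∈ A, ∃ i : ℤ, ∃ z ∈ Z, a = x ^ i * z :=
    fun a ha => exists_zpow_mul_of_relIndex_dvd_prime hp Z A hZA (by rw [hrel]) x hxA hxZ a ha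
  have hker : ∀ g : G, commHomR x hx2 g = 1 ↔ g ∈ A := by
    intro g
    rw [commHomR_eq_one_iff]
    constructor
    · intro h
      rw [← hCA, Subgroup.mem_centralizer_iff]
      intro a ha
      obtain ⟨i, z, hz, rfl⟩ := hAx a ha
      have c1 : Commute (x ^ i) g := Commute.zpow_left h i
      have c2 : Commute z g := (Subgroup.mem_center_iff.1 hz g).symm
      exact (c1.mul_left c2)
    · intro h
      exact hAc x hxA g h
  -- `x ^ p` is central
  have hxp : x ^ p ∈ Z := by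
    haveI : (Z.subgroupOf A).Normal := Subgroup.Normal.subgroupOf inferInstance A
    have hcard : Nat.card (A ⧸ Z.subgroupOf A) = p := by
      rw [← Subgroup.index_eq_card]; exact hrel
    have h1 : (QuotientGroup.mk' (Z.subgroupOf A) ⟨x, hxA⟩) ^ p = 1 := by
      rw [← hcard]; exact pow_card_eq_one'
    rw [← map_pow, QuotientGroup.mk'_apply, QuotientGroup.eq_one_iff] at h1
    exact Subgroup.mem_subgroupOf.1 h1
  have hφp : ∀ g : G, (commHomR x hx2 g) ^ p = 1 := by
    intro g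
    have h1 := map_pow (Cfsg.Agent.Helper76.commHom A hAn hAc g) ⟨x, hxA⟩ p
    have h2 := congrArg (fun a : A => (a : G)) h1
    simp only [Subgroup.coe_pow, Cfsg.Agent.Helper76.commHom_apply_coe] at h2
    apply Subtype.ext
    rw [Subgroup.coe_pow, commHomR_apply, Subgroup.coe_one]
    have h3 : x * g * x⁻¹ * g⁻¹ = x * (g * x⁻¹ * g⁻¹) := by group
    rw [h3, ← h2]
    have h4 := Subgroup.mem_center_iff.1 hxp g
    calc x ^ p * (g * (x ^ p)⁻¹ * g⁻¹) = (x ^ p * g) * (x ^ p)⁻¹ * g⁻¹ := by group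
      _ = (g * x ^ p) * (x ^ p)⁻¹ * g⁻¹ := by rw [h4]
      _ = 1 := by group
  refine ⟨hker, hφp, ?_⟩
  intro mu g
  rw [mem_inertia_iff_conjHom]
  constructor
  · intro h hm
    have hxi : x⁻¹ ∈ A := A.inv_mem hxA
    have h1 := DFunLike.congr_fun h ⟨x⁻¹, hxi⟩
    rw [conjHom_apply] at h1
    have h2 : (⟨((commHomR x hx2 g : Subgroup.center G) : G), hm⟩ : A) =
        ⟨x, hxA⟩ * ⟨g * (⟨x⁻¹, hxi⟩ : A) * g⁻¹, hAn.conj_mem _ hxi g⟩ := by
      apply Subtype.ext
      rw [Subgroup.coe_mul, commHomR_apply]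
      simp only
      group
    rw [h2, map_mul, h1, ← map_mul]
    have : (⟨x, hxA⟩ : A) * ⟨x⁻¹, hxi⟩ = 1 := by
      apply Subtype.ext
      simp
    rw [this, map_one]
  · intro h
    have hm : ((commHomR x hx2 g : Subgroup.center G) : G) ∈ A := hZA (commHomR x hx2 g).2
    have hmu := h hm
    have hX : conjHom A mu g ⟨x, hxA⟩ = mu ⟨x, hxA⟩ := by
      rw [conjHom_apply]
      have h2 : (⟨g * (⟨x, hxA⟩ : A) * g⁻¹, hAn.conj_mem _ hxA g⟩ : A) =
          (⟨((commHomR x hx2 g : Subgroup.center G) : G), hm⟩ : A)⁻¹ * ⟨x, hxA⟩ := by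
        apply Subtype.ext
        rw [Subgroup.coe_mul, Subgroup.coe_inv]
        simp only [commHomR_apply]
        group
      rw [h2, map_mul, map_inv, hmu, inv_one, one_mul]
    have hZz : ∀ (z : G) (hz : z ∈ Z), conjHom A mu g ⟨z, hZA hz⟩ = mu ⟨z, hZA hz⟩ := by
      intro z hz
      rw [conjHom_apply]
      congr 1
      apply Subtype.ext
      simp only
      have := Subgroup.mem_center_iff.1 hz g
      rw [this, mul_inv_cancel_right]
    ext a
    obtain ⟨i, z, hz, ha⟩ := hAx a a.2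
    have ha' : a = (⟨x, hxA⟩ : A) ^ i * ⟨z, hZA hz⟩ := by
      apply Subtype.ext
      rw [Subgroup.coe_mul, Subgroup.coe_zpow]
      exact ha
    rw [ha', map_mul, map_zpow, hX, hZz z hz, map_mul, map_zpow]

end main

end Cfsg.Agent.Helper76.CDP
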