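import Cfsg.Agent.Lib.Helper76.CDP6

set_option autoImplicit false
set_option linter.style.haveILetI false
set_option linter.unusedSectionVars false
set_option maxHeartbeats 400000

/-! Nilpotent groups with character degrees `1` and `p` and no abelian normal subgroup of index
dividing `p` have centre of index `p ^ 3`. -/

namespace Cfsg.Agent.Helper76.CDP

open Cfsg Cfsg.Agent.Helper79 Cfsg.Agent.Helper81 Cfsg.Agent.Helper76.CD2
open scoped commutatorElement
open scoped IsMulCommutative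

universe u

section main
variable {G : Type u} [Group G] [Fintype G]

theorem index_le_of_range_le (p : ℕ) (hp : p.Prime) (A : Subgroup G)
    (φ : G →* Subgroup.center G) (hker : ∀ g : G, φ g = 1 ↔ g ∈ A)
    (hφp : ∀ g : G, φ g ^ p = 1) (g h : G)
    (hgh : ∀ k : G, φ k ∈ Subgroup.closure ({φ g, φ h} : Set (Subgroup.center G))) :
    A.index ≤ p * p := by
  have h1 : Nat.card φ.range ≤ p * p := by
    have hle : φ.range ≤ Subgroup.closure ({φ g, φ h} : Set (Subgroup.center G)) := by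
      rintro _ ⟨k, rfl⟩
      exact hgh k
    have h2 := card_closure_pair_le p hp.pos (φ g) (φ h) (hφp g) (hφp h)
    exact le_trans (Subgroup.card_le_of_le hle) h2
  have h2 : A.index = Nat.card φ.range := by
    rw [← Subgroup.index_ker]
    congr 1
    ext g
    rw [MonoidHom.mem_ker]
    exact (hker g).symm
  rw [h2]
  exact h1

theorem center_index (p : ℕ) (hp : p.Prime)
    (hcd : ∀ χ : IrrCharacter G, charDegree (χ : G → ℂ) = 1 ∨ charDegree (χ : G → ℂ) = p)
    (hZ : ∀ g : G, ∃ k : ℕ, g ^ p ^ k ∈ Subgroup.center G)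
    (hno : ¬ ∃ A : Subgroup G, A.Normal ∧ (∀ a ∈ A, ∀ b ∈ A, a * b = b * a) ∧ A.index ∣ p) :
    (Subgroup.center G).index = p ^ 3 := by
  classical
  haveI : Fact p.Prime := ⟨hp⟩
  obtain ⟨hpQ, hnil⟩ := nilpotent_of_pow_center p hp hZ
  haveI := hnil
  obtain ⟨A, hAn, x, hx2, hZA, hAc, hrel, hxA, hker, hφp, hin⟩ := setup p hp hcd hZ hno
  haveI := hAn
  set Z := Subgroup.center G with hZdef
  set φ := commHomR x hx2 with hφ
  have hφx : φ x = 1 := (hker x).2 hxA
  have hφZ : ∀ z ∈ Z, φ z = 1 := fun z hz => (hker z).2 (hZA hz)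
  by_cases hcase : ∃ g h : G, ∀ k : G, φ k ∈ Subgroup.closure ({φ g, φ h} : Set Z)
  · -- Case I
    obtain ⟨g, h, hgh⟩ := hcase
    have h1 : A.index ≤ p * p := index_le_of_range_le p hp A φ hker hφp g h hgh
    obtain ⟨n, hn⟩ := IsPGroup.iff_card.1 hpQ
    have h3 : A.index ∣ p ^ n := by
      rw [← hn, ← Subgroup.index_eq_card]
      exact Subgroup.index_dvd_of_le hZA
    obtain ⟨j, -, hAj⟩ := (Nat.dvd_prime_pow hp).1 h3
    have hj2 : j = 2 := by
      have hj0 : j ≠ 0 := by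
        intro h0
        apply hno
        refine ⟨A, hAn, hAc, ?_⟩
        rw [hAj, h0, pow_zero]
        exact one_dvd _
      have hj1 : j ≠ 1 := by
        intro h0
        apply hno
        refine ⟨A, hAn, hAc, ?_⟩
        rw [hAj, h0, pow_one]
      have hle : p ^ j ≤ p ^ 2 := by
        rw [← hAj, pow_two]
        exact h1
      have := (Nat.pow_le_pow_iff_right hp.one_lt).1 hle
      omega
    have h4 := Subgroup.relIndex_mul_index hZA
    rw [← h4, hrel, hAj, hj2]
    ring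
  · -- Case II
    exfalso
    push Not at hcase
    have hcomm : ∀ g h : G, ∃ hc : g * h * g⁻¹ * h⁻¹ ∈ Z,
        (⟨g * h * g⁻¹ * h⁻¹, hc⟩ : Z) ∈ Subgroup.closure ({φ g, φ h} : Set Z) := by
      intro g h
      have hφc : φ (g * h * g⁻¹ * h⁻¹) = 1 := by
        rw [map_mul, map_mul, map_mul, map_inv, map_inv, mul_comm (φ g) (φ h)]
        group
      have hcA : g * h * g⁻¹ * h⁻¹ ∈ A := (hker _).1 hφc
      by_contra hcon
      let F' : Subgroup G := (Subgroup.closure ({φ g, φ h} : Set Z)).map Z.subtype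
      have hcF' : g * h * g⁻¹ * h⁻¹ ∉ F' := by
        rintro ⟨y, hy, hyc⟩
        apply hcon
        have hc : g * h * g⁻¹ * h⁻¹ ∈ Z := by rw [← hyc]; exact y.2
        refine ⟨hc, ?_⟩
        have : y = ⟨g * h * g⁻¹ * h⁻¹, hc⟩ := Subtype.ext hyc
        rw [← this]
        exact hy
      obtain ⟨k, hk⟩ := hcase g h
      have heA : ((φ k : Z) : G) ∈ A := hZA (φ k).2
      have heF' : ((φ k : Z) : G) ∉ F' := by
        rintro ⟨y, hy, hye⟩
        apply hk
        have : y = φ k := Subtype.ext hye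
        rw [← this]
        exact hy
      obtain ⟨μ₁, hμ₁F, hμ₁c⟩ := exists_hom_sep A hAc F' _ hcA hcF'
      obtain ⟨μ₂, hμ₂F, hμ₂e⟩ := exists_hom_sep A hAc F' _ heA heF'
      obtain ⟨mu, hmuF, hmuc, hmue⟩ : ∃ mu : A →* ℂˣ, (∀ b : A, (b : G) ∈ F' → mu b = 1) ∧
          mu ⟨g * h * g⁻¹ * h⁻¹, hcA⟩ ≠ 1 ∧ mu ⟨((φ k : Z) : G), heA⟩ ≠ 1 := by
        by_cases h1 : μ₁ ⟨((φ k : Z) : G), heA⟩ = 1
        · by_cases h2 : μ₂ ⟨g * h * g⁻¹ * h⁻¹, hcA⟩ = 1
          · refine ⟨μ₁ * μ₂, ?_, ?_, ?_⟩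
            · intro b hb
              rw [MonoidHom.mul_apply, hμ₁F b hb, hμ₂F b hb, one_mul]
            · rw [MonoidHom.mul_apply, h2, mul_one]
              exact hμ₁c
            · rw [MonoidHom.mul_apply, h1, one_mul]
              exact hμ₂e
          · exact ⟨μ₂, hμ₂F, h2, hμ₂e⟩
        · exact ⟨μ₁, hμ₁F, hμ₁c, h1⟩
      have hgT : g ∈ inertiaGrp A hAn (linFun mu) :=
        (hin mu g).2 (fun hm => hmuF _ ⟨φ g, Subgroup.subset_closure (by simp), rfl⟩)
      have hhT : h ∈ inertiaGrp A hAn (linFun mu) :=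
        (hin mu h).2 (fun hm => hmuF _ ⟨φ h, Subgroup.subset_closure (by simp), rfl⟩)
      have hkT : k ∉ inertiaGrp A hAn (linFun mu) := fun hkT => hmue ((hin mu k).1 hkT heA)
      have hidx : (inertiaGrp A hAn (linFun mu)).index = p := by
        rcases inertia_index p hp hcd A mu with h1 | h1
        · exfalso
          apply hkT
          rw [Subgroup.index_eq_one.1 h1]
          trivial
        · exact h1
      exact hmuc (apply_commutator_eq_one p hp hcd A mu hidx g h hgT hhT hcA)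
    have hcl : ∀ g h : G, g * h * g⁻¹ * h⁻¹ ∈ Z := fun g h => (hcomm g h).1
    let R : G → (G →* Z) := fun k => commHomR k (hcl k)
    obtain ⟨g₀, hg₀⟩ := hcase 1 1
    have hg₀1 : φ g₀ ≠ 1 := by
      intro h
      apply hg₀
      rw [h]
      exact one_mem _
    obtain ⟨h₀, hh₀⟩ := hcase g₀ g₀
    obtain ⟨hc, hcF⟩ := hcomm g₀ h₀
    obtain ⟨m, n, hmn⟩ := Subgroup.mem_closure_pair.1 hcF
    have hφg' : φ (g₀ * x ^ (-n)) = φ g₀ := by
      rw [map_mul, map_zpow, hφx, one_zpow, mul_one]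
    have hφh' : φ (h₀ * x ^ m) = φ h₀ := by
      rw [map_mul, map_zpow, hφx, one_zpow, mul_one]
    have hcomm' : (g₀ * x ^ (-n)) * (h₀ * x ^ m) = (h₀ * x ^ m) * (g₀ * x ^ (-n)) := by
      have key : R (h₀ * x ^ m) (g₀ * x ^ (-n)) = 1 := by
        have e1 : R (h₀ * x ^ m) (g₀ * x ^ (-n)) =
            R (h₀ * x ^ m) g₀ * (R (h₀ * x ^ m) x) ^ (-n) := by
          rw [map_mul, map_zpow]
        have e2 : R (h₀ * x ^ m) g₀ = (R g₀ (h₀ * x ^ m))⁻¹ := commHomR_symm _ _ _ _
        have e3 : R g₀ (h₀ * x ^ m) = R g₀ h₀ * (R g₀ x) ^ m := by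
          rw [map_mul, map_zpow]
        have e4 : R g₀ x = (φ g₀)⁻¹ := commHomR_symm _ _ _ _
        have e5 : R g₀ h₀ = ⟨g₀ * h₀ * g₀⁻¹ * h₀⁻¹, hc⟩ := rfl
        have e6 : R (h₀ * x ^ m) x = (φ (h₀ * x ^ m))⁻¹ := commHomR_symm _ _ _ _
        rw [e1, e2, e3, e4, e5, e6, hφh', ← hmn]
        rw [inv_zpow, inv_zpow, zpow_neg, inv_inv, mul_comm (φ g₀ ^ m) (φ h₀ ^ n),
          mul_inv_cancel_right, inv_mul_cancel]
      exact ((commHomR_eq_one_iff _ _ _).1 key).symm
    set g' := g₀ * x ^ (-n) with hg'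
    set h' := h₀ * x ^ m with hh'
    let S : Set G := (Z : Set G) ∪ {g', h'}
    have hScomm : ∀ a ∈ S, ∀ b ∈ S, a * b = b * a := by
      rintro a (ha | ha | ha) b (hb | hb | hb)
      · exact (Subgroup.mem_center_iff.1 hb a)
      · exact (Subgroup.mem_center_iff.1 ha b).symm
      · exact (Subgroup.mem_center_iff.1 ha b).symm
      · exact (Subgroup.mem_center_iff.1 hb a)
      · rw [ha, hb]
      · rw [ha, Set.mem_singleton_iff.1 hb]; exact hcomm'
      · exact (Subgroup.mem_center_iff.1 hb a)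
      · rw [Set.mem_singleton_iff.1 ha, hb]; exact hcomm'.symm
      · rw [Set.mem_singleton_iff.1 ha, Set.mem_singleton_iff.1 hb]
    let B : Subgroup G := Subgroup.closure S
    have hBc : ∀ a ∈ B, ∀ b ∈ B, a * b = b * a := by
      intro a ha b hb
      haveI := Subgroup.isMulCommutative_closure hScomm
      have := mul_comm' (⟨a, ha⟩ : Subgroup.closure S) ⟨b, hb⟩
      exact congrArg Subtype.val this
    have hZB : Z ≤ B := fun z hz => Subgroup.subset_closure (Or.inl hz)
    have hBn : B.Normal := by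
      constructor
      intro b hb k
      have : k * b * k⁻¹ = (k * b * k⁻¹ * b⁻¹) * b := by group
      rw [this]
      exact B.mul_mem (hZB (hcl k b)) hb
    have hrelB := relIndex_center_dvd p hp hcd hno B hBn hBc hZB
    have hg'B : g' ∈ B := Subgroup.subset_closure (Or.inr (Or.inl rfl))
    have hh'B : h' ∈ B := Subgroup.subset_closure (Or.inr (Or.inr rfl))
    have hg'Z : g' ∉ Z := fun h => hg₀1 (by rw [← hφg']; exact hφZ g' h)
    obtain ⟨i, z, hz, hh'eq⟩ :=
      exists_zpow_mul_of_relIndex_dvd_prime hp Z B hZB hrelB g' hg'B hg'Z h' hh'B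
    apply hh₀
    have : φ h₀ = (φ g₀) ^ i := by
      rw [← hφh', hh'eq, map_mul, map_zpow, hφg', hφZ z hz, mul_one]
    rw [this]
    exact Subgroup.zpow_mem _ (Subgroup.subset_closure (by simp)) i

end main

end Cfsg.Agent.Helper76.CDP
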