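import Mathlib

/-!
# p'-groups of automorphisms of a cyclic p-group (helper76)

If `T` normalizes the nontrivial cyclic `p`-group `P` and every `p`-element of `T` centralizes `P`,
then `T / C_T(P)` is cyclic of order dividing `p - 1` and acts freely on `P \ {1}`.
-/

set_option autoImplicit false
set_option linter.style.haveILetI false
set_option linter.unusedSectionVars false

namespace Cfsg.Agent.Helper76.CycAut

variable {G : Type*} [Group G]

lemma conj_pow_of_conj {g z : G} {k : ℕ} (h : g * z * g⁻¹ = z ^ k) (j : ℕ) :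
    g * z ^ j * g⁻¹ = (z ^ j) ^ k := by
  have h1 : g * z ^ j * g⁻¹ = (g * z * g⁻¹) ^ j := by
    rw [conj_pow]
  rw [h1, h, ← pow_mul, ← pow_mul, mul_comm]

lemma conj_iter {g z : G} {k : ℕ} (h : g * z * g⁻¹ = z ^ k) (j : ℕ) :
    g ^ j * z * (g ^ j)⁻¹ = z ^ (k ^ j) := by
  induction j with
  | zero => simp
  | succ j ih =>
    rw [pow_succ', mul_inv_rev]
    have h1 : g * g ^ j * z * ((g ^ j)⁻¹ * g⁻¹) = g * (g ^ j * z * (g ^ j)⁻¹) * g⁻¹ := by group
    rw [h1, ih, conj_pow_of_conj h, ← pow_mul, pow_succ]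

lemma pow_modEq_one {p k : ℕ} (m : ℕ) (h : k ≡ 1 [MOD p]) :
    k ^ (p ^ m) ≡ 1 [MOD p ^ (m + 1)] := by
  have h1 : (p : ℤ) ∣ (k : ℤ) - 1 := by
    have h0 := (Nat.modEq_iff_dvd.mp h.symm)
    simpa using h0
  have h2 := dvd_sub_pow_of_dvd_sub h1 m
  rw [one_pow] at h2
  apply Nat.ModEq.symm
  rw [Nat.modEq_iff_dvd]
  push_cast
  exact h2

lemma mem_of_pow_mem_of_ppart [Finite G] {p : ℕ} [Fact p.Prime] (C T : Subgroup G)
    (hH : ∀ y ∈ T, ∀ k : ℕ, y ^ (p ^ k) = 1 → y ∈ C) {g : G} (hg : g ∈ T) {m : ℕ}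
    (hgm : g ^ (p ^ m) ∈ C) : g ∈ C := by
  have hp : p.Prime := Fact.out
  obtain ⟨a, r, hr, ho⟩ := Nat.exists_eq_pow_mul_and_not_dvd (orderOf_pos g).ne' p hp.ne_one
  have h1 : g ^ r ∈ C := by
    refine hH _ (T.pow_mem hg r) a ?_
    rw [← pow_mul, mul_comm, ← ho, pow_orderOf_eq_one]
  have hcop : Nat.Coprime r (p ^ m) :=
    Nat.Coprime.pow_right m ((Nat.Prime.coprime_iff_not_dvd hp).2 hr).symm
  have hb := Nat.gcd_eq_gcd_ab r (p ^ m)
  rw [hcop.gcd_eq_one] at hb
  have hg1 : g = (g ^ r) ^ (Nat.gcdA r (p ^ m)) * (g ^ (p ^ m)) ^ (Nat.gcdB r (p ^ m)) := by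
    rw [← zpow_natCast, ← zpow_natCast, ← zpow_mul, ← zpow_mul, ← zpow_add, ← hb]
    simp
  rw [hg1]
  exact C.mul_mem (C.zpow_mem h1 _) (C.zpow_mem hgm _)

theorem main [Finite G] (p : ℕ) [Fact p.Prime] (P T : Subgroup G)
    (hPp : IsPGroup p P) (hP1 : P ≠ ⊥) (hcyc : IsCyclic P)
    (hTN : T ≤ Subgroup.normalizer (P : Set G))
    (hH : ∀ y ∈ T, ∀ k : ℕ, y ^ (p ^ k) = 1 → y ∈ Subgroup.centralizer (P : Set G))
    [hn : ((Subgroup.centralizer (P : Set G)).subgroupOf T).Normal] :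
    IsCyclic (T ⧸ (Subgroup.centralizer (P : Set G)).subgroupOf T) ∧
    (Subgroup.centralizer (P : Set G)).relIndex T ∣ p - 1 ∧
    ∀ g ∈ T, ∀ x ∈ P, x ≠ 1 → g * x * g⁻¹ = x → g ∈ Subgroup.centralizer (P : Set G) := by
  classical
  have hp : p.Prime := Fact.out
  obtain ⟨⟨z, hzP⟩, hz⟩ := hcyc.exists_generator
  have hPz : P = Subgroup.zpowers z := by
    apply le_antisymm
    · intro x hx
      obtain ⟨i, hi⟩ := Subgroup.mem_zpowers_iff.mp (hz ⟨x, hx⟩)
      refine Subgroup.mem_zpowers_iff.mpr ⟨i, ?_⟩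
      have h0 := congrArg Subtype.val hi
      simpa using h0
    · rw [Subgroup.zpowers_le]; exact hzP
  have hcard : Nat.card P = orderOf z := by rw [hPz, Nat.card_zpowers]
  obtain ⟨n, hn'⟩ := hPp.exists_card_eq
  have hn1 : n ≠ 0 := by
    rintro rfl
    apply hP1
    rw [pow_zero] at hn'
    exact Subgroup.card_eq_one.mp hn'
  obtain ⟨m, rfl⟩ := Nat.exists_eq_succ_of_ne_zero hn1
  have hoz : orderOf z = p ^ (m + 1) := by rw [← hcard, hn']
  have hpd : p ∣ p ^ (m + 1) := dvd_pow_self p (Nat.succ_ne_zero m)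
  -- elements of `P` are natural powers of `z`
  have hPpow : ∀ x ∈ P, ∃ j : ℕ, x = z ^ j := by
    intro x hx
    rw [hPz] at hx
    obtain ⟨k, hk⟩ := (mem_powers_iff_mem_zpowers.mpr hx)
    exact ⟨k, hk.symm⟩
  have hex : ∀ g : G, g ∈ Subgroup.normalizer (P : Set G) → ∃ k : ℕ, g * z * g⁻¹ = z ^ k := by
    intro g hg
    exact hPpow _ ((Subgroup.mem_normalizer_iff.mp hg z).mp hzP)
  choose! kf hkf using hex
  have hcent : ∀ g : G, g * z * g⁻¹ = z → g ∈ Subgroup.centralizer (P : Set G) := by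
    intro g hg
    have hc : Commute g z := by
      have : g * z = z * g := by
        calc g * z = g * z * g⁻¹ * g := by group
          _ = z * g := by rw [hg]
      exact this
    rw [Subgroup.mem_centralizer_iff]
    intro x hx
    obtain ⟨j, rfl⟩ := hPpow x hx
    exact ((hc.pow_right j).eq).symm
  have hcent' : ∀ g : G, g ∈ Subgroup.centralizer (P : Set G) → g * z * g⁻¹ = z := by
    intro g hg
    have := (Subgroup.mem_centralizer_iff.mp hg) z hzP
    rw [← this]; group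
  have hkmul : ∀ g h : G, g ∈ Subgroup.normalizer (P : Set G) →
      h ∈ Subgroup.normalizer (P : Set G) → kf (g * h) ≡ kf g * kf h [MOD p ^ (m + 1)] := by
    intro g h hg hh
    rw [← hoz, ← pow_eq_pow_iff_modEq, ← hkf (g * h) (mul_mem hg hh)]
    have h1 : g * h * z * (g * h)⁻¹ = g * (h * z * h⁻¹) * g⁻¹ := by group
    rw [h1, hkf h hh, conj_pow_of_conj (hkf g hg), ← pow_mul, mul_comm]
  have hkone : kf 1 ≡ 1 [MOD p ^ (m + 1)] := by
    rw [← hoz, ← pow_eq_pow_iff_modEq, ← hkf 1 (one_mem _)]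
    simp
  have hcore : ∀ g ∈ T, kf g ≡ 1 [MOD p] → g ∈ Subgroup.centralizer (P : Set G) := by
    intro g hg hk
    have h1 := conj_iter (hkf g (hTN hg)) (p ^ m)
    have h2 : z ^ (kf g ^ p ^ m) = z := by
      conv_rhs => rw [← pow_one z]
      rw [pow_eq_pow_iff_modEq, hoz]
      exact pow_modEq_one m hk
    rw [h2] at h1
    exact mem_of_pow_mem_of_ppart _ T hH hg (hcent _ h1)
  let κ : T →* ZMod p :=
    { toFun := fun g => ((kf (g : G) : ℕ) : ZMod p)
      map_one' := by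
        show ((kf ((1 : T) : G) : ℕ) : ZMod p) = 1
        rw [Subgroup.coe_one]
        have := (ZMod.natCast_eq_natCast_iff _ _ _).mpr (hkone.of_dvd hpd)
        simpa using this
      map_mul' := by
        intro g h
        show ((kf ((g * h : T) : G) : ℕ) : ZMod p) = (kf (g : G) : ZMod p) * (kf (h : G) : ZMod p)
        rw [Subgroup.coe_mul]
        have := (ZMod.natCast_eq_natCast_iff _ _ _).mpr
          ((hkmul g h (hTN g.2) (hTN h.2)).of_dvd hpd)
        simpa using this }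
  have hκ : ∀ g : T, κ g = ((kf (g : G) : ℕ) : ZMod p) := fun g => rfl
  let κu : T →* (ZMod p)ˣ := κ.toHomUnits
  have hker : (Subgroup.centralizer (P : Set G)).subgroupOf T = κu.ker := by
    ext g
    rw [Subgroup.mem_subgroupOf, MonoidHom.mem_ker]
    constructor
    · intro hg
      apply Units.ext
      rw [MonoidHom.coe_toHomUnits, hκ, Units.val_one]
      have h1 := hcent' _ hg
      rw [hkf _ (hTN g.2)] at h1
      conv_rhs at h1 => rw [← pow_one z]
      rw [pow_eq_pow_iff_modEq, hoz] at h1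
      have := (ZMod.natCast_eq_natCast_iff _ _ _).mpr (h1.of_dvd hpd)
      simpa using this
    · intro hg
      have h1 : κ g = 1 := by
        have := congrArg Units.val hg
        rwa [MonoidHom.coe_toHomUnits, Units.val_one] at this
      rw [hκ] at h1
      have h2 : ((kf (g : G) : ℕ) : ZMod p) = ((1 : ℕ) : ZMod p) := by simpa using h1
      exact hcore _ g.2 ((ZMod.natCast_eq_natCast_iff _ _ _).mp h2)
  let e := QuotientGroup.quotientMulEquivOfEq hker
  let f : (T ⧸ (Subgroup.centralizer (P : Set G)).subgroupOf T) →* (ZMod p)ˣ :=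
    (QuotientGroup.kerLift κu).comp e.toMonoidHom
  have hf : Function.Injective f := (QuotientGroup.kerLift_injective κu).comp e.injective
  refine ⟨isCyclic_of_injective f hf, ?_, ?_⟩
  · have h1 := Subgroup.card_dvd_of_injective f hf
    rw [Nat.card_eq_fintype_card (α := (ZMod p)ˣ), ZMod.card_units] at h1
    rwa [Subgroup.relIndex, Subgroup.index_eq_card]
  · intro g hg x hx hx1 hgx
    apply hcore g hg
    obtain ⟨j, rfl⟩ := hPpow x hx
    rw [conj_pow_of_conj (hkf g (hTN hg))] at hgx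
    conv_rhs at hgx => rw [← pow_one (z ^ j)]
    rw [pow_eq_pow_iff_modEq] at hgx
    refine hgx.of_dvd ?_
    obtain ⟨k, hk⟩ := hPp ⟨z ^ j, hx⟩
    have hk' : (z ^ j) ^ (p ^ k) = 1 := by
      have := congrArg Subtype.val hk
      simpa using this
    obtain ⟨a, ha, hoa⟩ := (Nat.dvd_prime_pow hp).mp (orderOf_dvd_of_pow_eq_one hk')
    rw [hoa]
    refine dvd_pow_self p ?_
    rintro rfl
    rw [pow_zero, orderOf_eq_one_iff] at hoa
    exact hx1 hoa

end Cfsg.Agent.Helper76.CycAut
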