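import Mathlib
import Cfsg.Agent.S4741
import Cfsg.Agent.Lib.Helper74.DefectZero
import Cfsg.Agent.Lib.Helper79.Integrality
import Cfsg.Agent.Lib.Helper79.CharBasic
import Cfsg.Agent.Lib.Helper80.CharBasic
import Cfsg.Agent.Lib.Helper77.LocalRing

/-!
# A character of `p`-defect zero from a `p`-separated class of defect zero (helper76)

If `p ∤ |C_G(x)|` and no two conjugates `g, h` of `x` have `g h⁻¹` a non-identity `p`-element,
then `G` has an irreducible character `χ` with `χ(1)_p = |G|_p`.  This is the case `r = 1`,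
`D = 1` of S4741 (helper75's separation theorem), unpacked to a statement about degrees.
-/

set_option autoImplicit false
set_option linter.style.haveILetI false

namespace Cfsg.Agent.Helper76.DefZeroSep

open Cfsg
open scoped ComplexConjugate

universe u

variable {G : Type u} [Group G]

theorem exists_defect_zero [Finite G] (p : ℕ) [hp : Fact p.Prime] (x : G)
    (hx : ¬ p ∣ Nat.card (Subgroup.centralizer ({x} : Set G)))
    (hsep : ∀ g h : G, IsConj x g → IsConj x h → ∀ k : ℕ, 0 < k → orderOf (g * h⁻¹) ≠ p ^ k) :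
    ∃ χ : IrrCharacter G,
      (charDegree (χ : G → ℂ)).factorization p = (Nat.card G).factorization p := by
  classical
  obtain ⟨M, hM⟩ := Cfsg.Agent.Helper74.DZ.exists_isPModular p hp.out
  haveI hpr := Cfsg.Agent.Helper77.isPrime_of_isPModular hM
  have hMtop : M ≠ ⊤ := hM.2.1.ne_top
  have hD : ∀ i : Fin 1, ∃ S : Sylow p ↥(Subgroup.centralizer ({(fun _ : Fin 1 => x) i} : Set G)),
      (S : Subgroup ↥(Subgroup.centralizer ({(fun _ : Fin 1 => x) i} : Set G))).map
        (Subgroup.centralizer ({(fun _ : Fin 1 => x) i} : Set G)).subtype = (⊥ : Subgroup G) := by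
    intro i
    obtain ⟨S⟩ : Nonempty (Sylow p ↥(Subgroup.centralizer ({x} : Set G))) := inferInstance
    refine ⟨S, ?_⟩
    have hc := S.card_eq_multiplicity
    rw [Nat.factorization_eq_zero_of_not_dvd hx, pow_zero] at hc
    have : (S : Subgroup ↥(Subgroup.centralizer ({x} : Set G))) = ⊥ := Subgroup.card_eq_one.1 hc
    rw [this, Subgroup.map_bot]
  obtain ⟨B, -, hB, -⟩ := Cfsg.Agent.S4741.result p M hM (⊥ : Subgroup G) (r := 1) (fun _ => x)
    (fun i j _ => Subsingleton.elim i j) hD
    (fun _ _ g h hg hh k hk => hsep g h hg hh k hk)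
  obtain ⟨⟨χ, hχB⟩, g, hdc, P', hP'⟩ := hB 0
  refine ⟨χ, ?_⟩
  have hχmem : χ ∈ B 0 := by
    rw [hχB]
    intro g'
    rw [sub_self]
    exact Cfsg.Agent.Helper77.memLocalIdeal_zero hMtop
  have hω : ¬ MemLocalIdeal M (centralChar (χ : G → ℂ) g) := hdc.2.2 χ hχmem
  -- the centralizer of g has order prime to p
  have hP'bot : (P' : Subgroup ↥(Subgroup.centralizer ({g} : Set G))) = ⊥ := by
    have := hP'.symm
    rwa [Subgroup.map_eq_bot_iff_of_injective _ (Subgroup.subtype_injective _)] at this
  have hcg : (Nat.card (Subgroup.centralizer ({g} : Set G))).factorization p = 0 := by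
    have hc := P'.card_eq_multiplicity
    rw [hP'bot, Subgroup.card_bot] at hc
    by_contra h0
    have : 1 < p ^ (Nat.card (Subgroup.centralizer ({g} : Set G))).factorization p :=
      Nat.one_lt_pow h0 hp.out.one_lt
    omega
  set C := Subgroup.centralizer ({g} : Set G) with hC
  have hidx : C.index * Nat.card C = Nat.card G := Subgroup.index_mul_card C
  have hidx0 : C.index ≠ 0 := Subgroup.index_ne_zero_of_finite
  have hcard0 : Nat.card C ≠ 0 := Nat.card_pos.ne'
  have hva : (C.index).factorization p = (Nat.card G).factorization p := by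
    rw [← hidx, Nat.factorization_mul hidx0 hcard0]
    simp [hcg]
  set d := charDegree (χ : G → ℂ) with hd
  have hd1 : (χ : G → ℂ) 1 = (d : ℂ) := Cfsg.Agent.Helper80.irr_one χ
  have hdpos : 0 < d := Cfsg.Agent.Helper80.charDegree_pos χ
  have hddvd : d ∣ Nat.card G := Cfsg.Agent.Helper79.irr_degree_dvd_card χ
  have hle : d.factorization p ≤ (Nat.card G).factorization p :=
    (Nat.factorization_le_iff_dvd hdpos.ne' Nat.card_pos.ne').2 hddvd p
  by_contra hne
  have hlt : d.factorization p < (Nat.card G).factorization p := lt_of_le_of_ne hle hne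
  apply hω
  set b := d.factorization p with hb
  have hdvd : p ^ (b + 1) ∣ C.index := by
    have h1 : p ^ (C.index).factorization p ∣ C.index := Nat.ordProj_dvd _ _
    rw [hva] at h1
    exact (pow_dvd_pow p hlt).trans h1
  obtain ⟨k, hk⟩ := hdvd
  set c := d / p ^ b with hc
  have hdc' : p ^ b * c = d := Nat.ordProj_mul_ordCompl_eq_self d p
  have hpc : ¬ p ∣ c := Nat.not_dvd_ordCompl hp.out hdpos.ne'
  have hpne : (p : ℂ) ≠ 0 := by exact_mod_cast hp.out.ne_zero
  have hcne : (c : ℂ) ≠ 0 := by
    intro h0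
    have : c = 0 := by exact_mod_cast h0
    rw [this] at hpc
    exact hpc (dvd_zero p)
  have hωeq : centralChar (χ : G → ℂ) g =
      (p : ℂ) * ((k : ℂ) * (χ : G → ℂ) g * (c : ℂ)⁻¹) := by
    unfold centralChar
    rw [← hC, hd1, hk, ← hdc']
    push_cast
    field_simp
    ring
  rw [hωeq]
  apply Cfsg.Agent.Helper77.memLocalIdeal_mul_right
  · exact (Cfsg.Agent.Helper77.memLocalIdeal_natCast_iff hM p).2 dvd_rfl
  · apply Cfsg.Agent.Helper77.memLocalRing_mul
    · apply Cfsg.Agent.Helper77.memLocalRing_mul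
      · exact Cfsg.Agent.Helper77.memLocalRing_natCast k
      · exact Cfsg.Agent.Helper77.memLocalRing_algInt hMtop
          ⟨(χ : G → ℂ) g, Cfsg.Agent.Helper79.irr_isIntegral χ g⟩
    · apply Cfsg.Agent.Helper77.memLocalRing_inv (Cfsg.Agent.Helper77.memLocalRing_natCast c)
      exact fun h => hpc ((Cfsg.Agent.Helper77.memLocalIdeal_natCast_iff hM c).1 h)

end Cfsg.Agent.Helper76.DefZeroSep
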