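import Mathlib
import Cfsg.Agent.Lib.Helper76.EqOrd1

set_option autoImplicit false
set_option linter.style.haveILetI false

/-!
# Groups in which subgroups of equal order are conjugate: normal `q`-subgroups and quotients
-/

namespace Cfsg.Agent.Helper76.EqOrd

open Subgroup

universe u

section normalq

variable {G : Type*} [Group G] [Finite G]

/-- a normal `q`-subgroup is contained in every `q`-subgroup of at least its order. -/
theorem le_of_card_le (hPC : PC G) (N : Subgroup G) [N.Normal] {q : ℕ} [hq : Fact q.Prime]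
    (hNq : IsPGroup q N) (X : Subgroup G) (hX : IsPGroup q X) (h : Nat.card N ≤ Nat.card X) :
    N ≤ X := by
  obtain ⟨a, ha⟩ := hNq.exists_card_eq
  have hle : q ^ a ≤ Nat.card X := by rw [← ha]; exact h
  obtain ⟨X0, hX0⟩ := Sylow.exists_subgroup_card_pow_prime_of_le_card hq.out hX hle
  have hc : Nat.card (X0.map X.subtype) = q ^ a := by
    rw [Subgroup.card_map_of_injective X.subtype_injective, hX0]
  have hp : IsPGroup q (X0.map X.subtype) := IsPGroup.of_card hc
  obtain ⟨g, hg⟩ := hPC q hq.out N (X0.map X.subtype) hNq hp (by rw [ha, hc])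
  rw [map_conj_normal] at hg
  rw [← hg]
  exact Subgroup.map_subtype_le X0

/-- a normal `q`-subgroup contains every `q`-subgroup of at most its order. -/
theorem le_of_card_ge (hPC : PC G) (N : Subgroup G) [N.Normal] {q : ℕ} [hq : Fact q.Prime]
    (hNq : IsPGroup q N) (X : Subgroup G) (hX : IsPGroup q X) (h : Nat.card X ≤ Nat.card N) :
    X ≤ N := by
  obtain ⟨a, ha⟩ := hNq.exists_card_eq
  obtain ⟨b, hb⟩ := hX.exists_card_eq
  have hba : b ≤ a := by
    rw [ha, hb] at h
    exact (Nat.pow_le_pow_iff_right hq.out.one_lt).mp h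
  have hdvd : q ^ a ∣ Nat.card G := by rw [← ha]; exact Subgroup.card_subgroup_dvd_card N
  obtain ⟨K, hK, hXK⟩ := Sylow.exists_subgroup_card_pow_prime_le q hdvd X hb hba
  have hp : IsPGroup q K := IsPGroup.of_card hK
  obtain ⟨g, hg⟩ := hPC q hq.out N K hNq hp (by rw [ha, hK])
  rw [map_conj_normal] at hg
  rw [← hg]
  exact hXK

/-- first case of the dichotomy. -/
theorem le_of_card_le_pow (hPC : PC G) (N : Subgroup G) [N.Normal] {q : ℕ} [hq : Fact q.Prime]
    (hNq : IsPGroup q N) (H : Subgroup G)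
    (h : Nat.card N ≤ q ^ (Nat.card H).factorization q) : N ≤ H := by
  obtain ⟨Q0⟩ : Nonempty (Sylow q H) := inferInstance
  have hc : Nat.card ((Q0 : Subgroup H).map H.subtype) = q ^ (Nat.card H).factorization q := by
    rw [Subgroup.card_map_of_injective H.subtype_injective]
    exact Q0.card_eq_multiplicity
  have hp : IsPGroup q ((Q0 : Subgroup H).map H.subtype) := IsPGroup.of_card hc
  have := le_of_card_le hPC N hNq _ hp (by rw [hc]; exact h)
  exact this.trans (Subgroup.map_subtype_le _)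

/-- second case of the dichotomy. -/
theorem card_inf_of_pow_lt (hPC : PC G) (N : Subgroup G) [N.Normal] {q : ℕ} [hq : Fact q.Prime]
    (hNq : IsPGroup q N) (H : Subgroup G)
    (h : q ^ (Nat.card H).factorization q < Nat.card N) :
    Nat.card (H ⊓ N : Subgroup G) = q ^ (Nat.card H).factorization q := by
  obtain ⟨Q0⟩ : Nonempty (Sylow q H) := inferInstance
  set Q := (Q0 : Subgroup H).map H.subtype with hQdef
  have hc : Nat.card Q = q ^ (Nat.card H).factorization q := by
    rw [hQdef, Subgroup.card_map_of_injective H.subtype_injective]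
    exact Q0.card_eq_multiplicity
  have hp : IsPGroup q Q := IsPGroup.of_card hc
  have hQN : Q ≤ N := le_of_card_ge hPC N hNq Q hp (by rw [hc]; exact h.le)
  have hQH : Q ≤ H := Subgroup.map_subtype_le _
  have hle : Q ≤ H ⊓ N := le_inf hQH hQN
  have hinfp : IsPGroup q (H ⊓ N : Subgroup G) := hNq.to_le inf_le_right
  obtain ⟨c, hcc⟩ := hinfp.exists_card_eq
  have hdvd : q ^ c ∣ Nat.card H := by
    rw [← hcc]; exact Subgroup.card_dvd_of_le inf_le_left
  have hcle : c ≤ (Nat.card H).factorization q :=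
    (hq.out.pow_dvd_iff_le_factorization Nat.card_pos.ne').mp hdvd
  have hcard : Nat.card (H ⊓ N : Subgroup G) ≤ Nat.card Q := by
    rw [hcc, hc]; exact Nat.pow_le_pow_right hq.out.pos hcle
  have := Subgroup.eq_of_le_of_card_ge hle hcard
  rw [← this, hc]

end normalq

section quotient

variable {G : Type*} [Group G] [Finite G]

/-- lifting `p`-subgroups of a quotient with control of the order. -/
theorem lift_pgroup (N : Subgroup G) [N.Normal] (p : ℕ) [hp : Fact p.Prime]
    (Y' : Subgroup (G ⧸ N)) (hY' : IsPGroup p Y') :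
    ∃ X : Subgroup G, IsPGroup p X ∧ X.map (QuotientGroup.mk' N) = Y' ∧
      Nat.card X = p ^ (Nat.card Y' * Nat.card N).factorization p := by
  set Y := Y'.comap (QuotientGroup.mk' N) with hY
  obtain ⟨P0⟩ : Nonempty (Sylow p Y) := inferInstance
  have hsurj : Function.Surjective ((QuotientGroup.mk' N).subgroupComap Y') :=
    (QuotientGroup.mk' N).subgroupComap_surjective_of_surjective Y'
      (QuotientGroup.mk'_surjective N)
  have htop : ((P0.mapSurjective hsurj : Sylow p Y') : Subgroup Y') = ⊤ :=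
    ((P0.mapSurjective hsurj).3 (Q := ⊤) (hY'.to_subgroup ⊤) le_top).symm
  refine ⟨(P0 : Subgroup Y).map Y.subtype, P0.2.map _, ?_, ?_⟩
  · rw [Subgroup.map_map]
    have h1 : (QuotientGroup.mk' N).comp Y.subtype =
        Y'.subtype.comp ((QuotientGroup.mk' N).subgroupComap Y') := by
      ext x; rfl
    rw [h1, ← Subgroup.map_map]
    rw [Sylow.coe_mapSurjective] at htop
    rw [htop, ← MonoidHom.range_eq_map, Subgroup.range_subtype]
  · rw [Subgroup.card_map_of_injective Y.subtype_injective, P0.card_eq_multiplicity]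
    have hcard : Nat.card Y = Nat.card Y' * Nat.card N := by
      have h2 : Y.index = Y'.index := Subgroup.index_comap_of_surjective Y'
        (QuotientGroup.mk'_surjective N)
      have h3 := Subgroup.card_mul_index Y
      have h4 := Subgroup.card_mul_index Y'
      have h5 := Subgroup.card_eq_card_quotient_mul_card_subgroup N
      have h6 : 0 < Y'.index := Nat.pos_of_ne_zero Subgroup.index_ne_zero_of_finite
      apply Nat.eq_of_mul_eq_mul_right h6
      rw [h2] at h3
      rw [h3, h5, ← h4]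
      ring
    rw [hcard]

theorem PC_quotient (hPC : PC G) (N : Subgroup G) [N.Normal] : PC (G ⧸ N) := by
  intro p hp Y' Z' hY' hZ' hYZ
  haveI : Fact p.Prime := ⟨hp⟩
  obtain ⟨X1, hX1p, hX1m, hX1c⟩ := lift_pgroup N p Y' hY'
  obtain ⟨X2, hX2p, hX2m, hX2c⟩ := lift_pgroup N p Z' hZ'
  obtain ⟨g, hg⟩ := hPC p hp X1 X2 hX1p hX2p (by rw [hX1c, hX2c, hYZ])
  refine ⟨QuotientGroup.mk' N g, ?_⟩
  rw [← hX2m, hg, map_conj_quotient, hX1m]

theorem CycExc_quotient {r : ℕ} (hc : CycExc r G) (N : Subgroup G) [N.Normal] :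
    CycExc r (G ⧸ N) := by
  intro p hp hpr P'
  haveI : Fact p.Prime := ⟨hp⟩
  obtain ⟨P, hP⟩ := Sylow.mapSurjective_surjective (QuotientGroup.mk'_surjective N) p P'
  haveI : IsCyclic P := hc p hp hpr P
  have h1 : (P' : Subgroup (G ⧸ N)) = (P : Subgroup G).map (QuotientGroup.mk' N) := by
    rw [← hP]; rfl
  have h2 : IsCyclic ((P : Subgroup G).map (QuotientGroup.mk' N)) :=
    isCyclic_of_surjective ((QuotientGroup.mk' N).subgroupMap (P : Subgroup G))
      ((QuotientGroup.mk' N).subgroupMap_surjective (P : Subgroup G))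
  show IsCyclic (P' : Subgroup (G ⧸ N))
  rw [h1]; exact h2

omit [Finite G] in
theorem card_map_mk (N : Subgroup G) [N.Normal] (K : Subgroup G) :
    Nat.card (K ⊓ N : Subgroup G) * Nat.card (K.map (QuotientGroup.mk' N)) = Nat.card K := by
  have h1 : N.relIndex K = Nat.card (K.map (QuotientGroup.mk' N)) := by
    have := Subgroup.relIndex_ker (QuotientGroup.mk' N) (K := K)
    rwa [QuotientGroup.ker_mk'] at this
  have h2 : (K ⊓ N).relIndex K = N.relIndex K := by
    rw [inf_comm]; exact Subgroup.inf_relIndex_right N K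
  have h3 := Subgroup.relIndex_mul_relIndex (⊥ : Subgroup G) (K ⊓ N) K bot_le inf_le_left
  rw [Subgroup.relIndex_bot_left, Subgroup.relIndex_bot_left, h2, h1] at h3
  exact h3

theorem sup_conj_of_quotient (N : Subgroup G) [N.Normal] (hq : AllConj (G ⧸ N))
    (H K : Subgroup G) (h : Nat.card H = Nat.card K)
    (h2 : Nat.card (H ⊓ N : Subgroup G) = Nat.card (K ⊓ N : Subgroup G)) :
    ∃ g : G, K ⊔ N = H.map (MulAut.conj g).toMonoidHom ⊔ N := by
  have hc : Nat.card (H.map (QuotientGroup.mk' N)) = Nat.card (K.map (QuotientGroup.mk' N)) := by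
    have e1 := card_map_mk N H
    have e2 := card_map_mk N K
    have hpos : 0 < Nat.card (K ⊓ N : Subgroup G) := Nat.card_pos
    apply Nat.eq_of_mul_eq_mul_left hpos
    rw [e2, ← h2, e1, h]
  obtain ⟨g', hg'⟩ := hq _ _ hc
  obtain ⟨g, rfl⟩ := QuotientGroup.mk'_surjective N g'
  refine ⟨g, ?_⟩
  rw [← map_conj_quotient] at hg'
  have e1 := Subgroup.comap_map_eq (QuotientGroup.mk' N) K
  have e2 := Subgroup.comap_map_eq (QuotientGroup.mk' N) (H.map (MulAut.conj g).toMonoidHom)
  rw [QuotientGroup.ker_mk'] at e1 e2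
  rw [← e1, ← e2, hg']

theorem conj_of_quotient (N : Subgroup G) [N.Normal] (hq : AllConj (G ⧸ N))
    (H K : Subgroup G) (hNH : N ≤ H) (hNK : N ≤ K) (h : Nat.card H = Nat.card K) :
    ∃ g : G, K = H.map (MulAut.conj g).toMonoidHom := by
  have h2 : Nat.card (H ⊓ N : Subgroup G) = Nat.card (K ⊓ N : Subgroup G) := by
    rw [inf_eq_right.mpr hNH, inf_eq_right.mpr hNK]
  obtain ⟨g, hg⟩ := sup_conj_of_quotient N hq H K h h2
  refine ⟨g, ?_⟩
  have h3 : N ≤ H.map (MulAut.conj g).toMonoidHom := by
    rw [← map_conj_normal N g]; exact Subgroup.map_mono hNH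
  rwa [sup_eq_left.mpr hNK, sup_eq_left.mpr h3] at hg

end quotient

end Cfsg.Agent.Helper76.EqOrd
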