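import Mathlib
import Cfsg.Agent.Lib.Helper76.EqOrd2
import Cfsg.Agent.S0004
import Cfsg.Agent.S0005

set_option autoImplicit false
set_option linter.style.haveILetI false

/-!
# Groups in which subgroups of equal order are conjugate: relative Hall lemmas
-/

namespace Cfsg.Agent.Helper76.EqOrd

open Subgroup
open scoped Pointwise

universe u

section hall

variable {G : Type*} [Group G] [Finite G]

theorem smul_conj_eq_map {L : Type*} [Group L] (l : L) (A : Subgroup L) :
    MulAut.conj l • A = A.map (MulAut.conj l).toMonoidHom := by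
  rw [Subgroup.pointwise_smul_def]
  rfl

omit [Finite G] in
theorem map_subtype_map_conj (L : Subgroup G) (A' : Subgroup L) (l : L) :
    (A'.map (MulAut.conj l).toMonoidHom).map L.subtype =
      (A'.map L.subtype).map (MulAut.conj (l : G)).toMonoidHom := by
  rw [Subgroup.map_map, Subgroup.map_map]
  congr 1

/-- Hall conjugacy inside a subgroup. -/
theorem hall_rel_conj [Group.IsSolvable G] (L A B : Subgroup G) (hA : A ≤ L) (hB : B ≤ L)
    (m n : ℕ) (hL : Nat.card L = m * n) (hmn : m.Coprime n) (hAm : Nat.card A = m)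
    (hBm : Nat.card B = m) : ∃ l ∈ L, B = A.map (MulAut.conj l).toMonoidHom := by
  have hA' : Nat.card (A.subgroupOf L) = m := by
    rw [← hAm]; exact Nat.card_congr (Subgroup.subgroupOfEquivOfLe hA).toEquiv
  have hB' : Nat.card (B.subgroupOf L) = m := by
    rw [← hBm]; exact Nat.card_congr (Subgroup.subgroupOfEquivOfLe hB).toEquiv
  obtain ⟨l, hl⟩ := Cfsg.Agent.S0004.result (G := L) m n hL hmn (A.subgroupOf L)
    (B.subgroupOf L) hA' hB'
  refine ⟨l, l.2, ?_⟩
  rw [smul_conj_eq_map] at hl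
  have h1 : (B.subgroupOf L).map L.subtype = B := Subgroup.map_subgroupOf_eq_of_le hB
  have h2 : (A.subgroupOf L).map L.subtype = A := Subgroup.map_subgroupOf_eq_of_le hA
  rw [← h1, ← hl, map_subtype_map_conj, h2]

/-- Hall dominance inside a subgroup, for the complement of one prime. -/
theorem hall_rel_dom [Group.IsSolvable G] (M C1 C2 : Subgroup G) (h1 : C1 ≤ M) (h2 : C2 ≤ M)
    (r : ℕ) (hr : r.Prime) (hc1 : ¬ r ∣ Nat.card C1) (hc2 : ¬ r ∣ Nat.card C2) :
    ∃ D : Subgroup G, D ≤ M ∧ ¬ r ∣ Nat.card D ∧ C1 ≤ D ∧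
      ∃ x ∈ M, C2.map (MulAut.conj x).toMonoidHom ≤ D := by
  have hM0 : Nat.card M ≠ 0 := Nat.card_pos.ne'
  set e := (Nat.card M).factorization r with he
  set m := Nat.card M / r ^ e with hm
  have hMmn : Nat.card M = m * r ^ e := by
    rw [hm, he, mul_comm]; exact (Nat.ordProj_mul_ordCompl_eq_self (Nat.card M) r).symm
  have hmr : ¬ r ∣ m := Nat.not_dvd_ordCompl hr hM0
  have hmn : m.Coprime (r ^ e) :=
    (Nat.Coprime.pow_left e ((Nat.Prime.coprime_iff_not_dvd hr).mpr hmr)).symm
  have hC1' : Nat.card (C1.subgroupOf M) = Nat.card C1 :=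
    Nat.card_congr (Subgroup.subgroupOfEquivOfLe h1).toEquiv
  have hC2' : Nat.card (C2.subgroupOf M) = Nat.card C2 :=
    Nat.card_congr (Subgroup.subgroupOfEquivOfLe h2).toEquiv
  have hcop1 : (Nat.card (C1.subgroupOf M)).Coprime (r ^ e) := by
    rw [hC1']
    exact (Nat.Coprime.pow_left e ((Nat.Prime.coprime_iff_not_dvd hr).mpr hc1)).symm
  have hcop2 : (Nat.card (C2.subgroupOf M)).Coprime (r ^ e) := by
    rw [hC2']
    exact (Nat.Coprime.pow_left e ((Nat.Prime.coprime_iff_not_dvd hr).mpr hc2)).symm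
  obtain ⟨D1, hD1c, hD1⟩ := Cfsg.Agent.S0005.result (G := M) m (r ^ e) hMmn hmn
    (C1.subgroupOf M) hcop1
  obtain ⟨D2, hD2c, hD2⟩ := Cfsg.Agent.S0005.result (G := M) m (r ^ e) hMmn hmn
    (C2.subgroupOf M) hcop2
  obtain ⟨x, hx⟩ := Cfsg.Agent.S0004.result (G := M) m (r ^ e) hMmn hmn D2 D1 hD2c hD1c
  refine ⟨D1.map M.subtype, Subgroup.map_subtype_le D1, ?_, ?_, x, x.2, ?_⟩
  · rw [Subgroup.card_map_of_injective M.subtype_injective, hD1c]; exact hmr
  · rw [← Subgroup.map_subgroupOf_eq_of_le h1]; exact Subgroup.map_mono hD1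
  · rw [smul_conj_eq_map] at hx
    rw [← Subgroup.map_subgroupOf_eq_of_le h2, ← map_subtype_map_conj, ← hx]
    exact Subgroup.map_mono (Subgroup.map_mono hD2)

omit [Finite G] in
/-- Schur-Zassenhaus complement inside a subgroup. -/
theorem exists_compl (H Q : Subgroup G) (hQH : Q ≤ H) (hnorm : H ≤ normalizer (Q : Set G))
    (hcop : (Nat.card Q).Coprime (Q.relIndex H)) :
    ∃ C : Subgroup G, C ≤ H ∧ Q ⊔ C = H ∧ Nat.card Q * Nat.card C = Nat.card H := by
  haveI : (Q.subgroupOf H).Normal := (Subgroup.normal_subgroupOf_iff_le_normalizer hQH).mpr hnorm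
  have hQ' : Nat.card (Q.subgroupOf H) = Nat.card Q :=
    Nat.card_congr (Subgroup.subgroupOfEquivOfLe hQH).toEquiv
  have hcop' : (Nat.card (Q.subgroupOf H)).Coprime (Q.subgroupOf H).index := by
    rw [hQ']; exact hcop
  obtain ⟨C', hC'⟩ := Subgroup.exists_right_complement'_of_coprime hcop'
  refine ⟨C'.map H.subtype, Subgroup.map_subtype_le C', ?_, ?_⟩
  · have h1 := hC'.sup_eq_top
    have h2 : (Q.subgroupOf H ⊔ C').map H.subtype = H := by
      rw [h1, ← MonoidHom.range_eq_map, Subgroup.range_subtype]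
    rw [Subgroup.map_sup, Subgroup.map_subgroupOf_eq_of_le hQH] at h2
    exact h2
  · rw [Subgroup.card_map_of_injective H.subtype_injective, ← hQ']
    exact hC'.card_mul_card

omit [Finite G] in
theorem inf_normal_le_normalizer (H N : Subgroup G) [hN : N.Normal] :
    H ≤ normalizer ((H ⊓ N : Subgroup G) : Set G) := by
  intro h hh
  rw [mem_normalizer_iff]
  intro x
  constructor
  · rintro ⟨hx1, hx2⟩
    exact ⟨H.mul_mem (H.mul_mem hh hx1) (H.inv_mem hh), hN.conj_mem x hx2 h⟩
  · rintro ⟨hx1, hx2⟩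
    refine ⟨?_, ?_⟩
    · have := H.mul_mem (H.mul_mem (H.inv_mem hh) hx1) hh
      simpa [mul_assoc] using this
    · have := hN.conj_mem _ hx2 h⁻¹
      simpa [mul_assoc] using this

omit [Finite G] in
theorem card_sup_of_inf_bot (K N : Subgroup G) [N.Normal] (h : K ⊓ N = ⊥) :
    Nat.card (K ⊔ N : Subgroup G) = Nat.card K * Nat.card N := by
  have h1 : N.relIndex (K ⊔ N) = N.relIndex K := Subgroup.relIndex_sup_right K N
  have h2 := Subgroup.relIndex_mul_relIndex (⊥ : Subgroup G) N (K ⊔ N) bot_le le_sup_right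
  rw [Subgroup.relIndex_bot_left, Subgroup.relIndex_bot_left, h1] at h2
  have h3 : N.relIndex K = Nat.card (K.map (QuotientGroup.mk' N)) := by
    have := Subgroup.relIndex_ker (QuotientGroup.mk' N) (K := K)
    rwa [QuotientGroup.ker_mk'] at this
  have h4 := card_map_mk N K
  rw [h, Subgroup.card_bot, one_mul] at h4
  rw [← h2, h3, h4, mul_comm]

/-- Sylow subgroups of an `r'`-subgroup are cyclic. -/
theorem sylow_cyclic_of_not_dvd {r : ℕ} (hcyc : CycExc r G) (D : Subgroup G)
    (hD : ¬ r ∣ Nat.card D) : ∀ p : ℕ, p.Prime → ∀ P : Sylow p D, IsCyclic P := by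
  intro p hp P
  haveI : Fact p.Prime := ⟨hp⟩
  by_cases hpr : p = r
  · have h1 : Nat.card P = 1 := by
      rw [P.card_eq_multiplicity]
      have : (Nat.card D).factorization p = 0 := by
        apply Nat.factorization_eq_zero_of_not_dvd
        rw [hpr]; exact hD
      rw [this, pow_zero]
    haveI : Subsingleton P := (Nat.card_eq_one_iff_unique.mp h1).1
    exact isCyclic_of_subsingleton
  · have hp' : IsPGroup p ((P : Subgroup D).map D.subtype) := P.2.map _
    obtain ⟨S, hS⟩ := hp'.exists_le_sylow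
    haveI : IsCyclic (S : Subgroup G) := hcyc p hp hpr S
    haveI : IsCyclic ((P : Subgroup D).map D.subtype) := Subgroup.isCyclic_of_le hS
    exact ((P : Subgroup D).equivMapOfInjective D.subtype D.subtype_injective).symm.isCyclic.mp
      inferInstance

end hall

end Cfsg.Agent.Helper76.EqOrd
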