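import Mathlib
import Cfsg.Agent.Lib.Helper76.EqOrd3
import Cfsg.Agent.S4214

set_option autoImplicit false
set_option linter.style.haveILetI false

/-!
# Groups in which subgroups of equal order are conjugate: the main induction
-/

namespace Cfsg.Agent.Helper76.EqOrd

open Subgroup

universe u

/-- the case of the exceptional prime. -/
theorem step_exc {G : Type u} [Group G] [Finite G] [Group.IsSolvable G] (q : ℕ)
    [hq : Fact q.Prime] (hcyc : CycExc q G) (hqG : q ∣ Nat.card G)
    (ih : ∀ D : Subgroup G, Nat.card D < Nat.card G → PC D → CycExc q D → AllConj D)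
    (H1 K Q : Subgroup G) (hHK : Nat.card H1 = Nat.card K) (hQH : Q ≤ H1) (hQK : Q ≤ K)
    (hnH : H1 ≤ normalizer (Q : Set G)) (hnK : K ≤ normalizer (Q : Set G))
    (hQc : Nat.card Q = q ^ (Nat.card K).factorization q) :
    ∃ g : G, K = H1.map (MulAut.conj g).toMonoidHom := by
  set v := (Nat.card K).factorization q with hv
  have hK0 : Nat.card K ≠ 0 := Nat.card_pos.ne'
  -- relative index is coprime to `q`
  have hrel : ∀ X : Subgroup G, Q ≤ X → Nat.card X = Nat.card K →
      (Nat.card Q).Coprime (Q.relIndex X) := by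
    intro X hQX hXK
    have h3 := Subgroup.relIndex_mul_relIndex (⊥ : Subgroup G) Q X bot_le hQX
    rw [Subgroup.relIndex_bot_left, Subgroup.relIndex_bot_left] at h3
    rw [hQc]
    apply Nat.Coprime.pow_left
    rw [Nat.Prime.coprime_iff_not_dvd hq.out]
    intro hdvd
    have : q ^ (v + 1) ∣ Nat.card K := by
      rw [← hXK, ← h3, hQc, pow_succ]
      exact Nat.mul_dvd_mul_left _ hdvd
    have := (hq.out.pow_dvd_iff_le_factorization hK0).mp this
    omega
  obtain ⟨C1, hC1H, hC1s, hC1c⟩ := exists_compl H1 Q hQH hnH (hrel H1 hQH hHK)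
  obtain ⟨C2, hC2K, hC2s, hC2c⟩ := exists_compl K Q hQK hnK (hrel K hQK rfl)
  have hQpos : 0 < Nat.card Q := Nat.card_pos
  have hC12 : Nat.card C1 = Nat.card C2 := by
    apply Nat.eq_of_mul_eq_mul_left hQpos
    rw [hC1c, hC2c, hHK]
  have hnd : ∀ C : Subgroup G, Nat.card Q * Nat.card C = Nat.card K → ¬ q ∣ Nat.card C := by
    intro C hC hdvd
    have : q ^ (v + 1) ∣ Nat.card K := by
      rw [← hC, hQc, pow_succ]
      exact Nat.mul_dvd_mul_left _ hdvd
    have := (hq.out.pow_dvd_iff_le_factorization hK0).mp this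
    omega
  have hnd1 : ¬ q ∣ Nat.card C1 := hnd C1 (by rw [hC1c, hHK])
  have hnd2 : ¬ q ∣ Nat.card C2 := hnd C2 hC2c
  obtain ⟨D, hDM, hDq, hC1D, x, hxM, hC2D⟩ :=
    hall_rel_dom (normalizer (Q : Set G)) C1 C2 (hC1H.trans hnH) (hC2K.trans hnK) q hq.out
      hnd1 hnd2
  have hDlt : Nat.card D < Nat.card G := by
    have h1 : Nat.card D ≤ Nat.card G := Subgroup.card_le_card_group D
    rcases h1.lt_or_eq with h | h
    · exact h
    · exact absurd (h ▸ hqG) hDq
  have hsyl := sylow_cyclic_of_not_dvd hcyc D hDq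
  have hDall : AllConj D := ih D hDlt (PC_of_cyclic hsyl) (fun p hp _ P => hsyl p hp P)
  obtain ⟨d, hdD, hd⟩ := allConj_transfer D hDall C1 (C2.map (MulAut.conj x).toMonoidHom) hC1D
    hC2D (by rw [card_map_conj, hC12])
  have hxi : x⁻¹ ∈ normalizer (Q : Set G) := inv_mem hxM
  have hdM : d ∈ normalizer (Q : Set G) := hDM hdD
  refine ⟨x⁻¹ * d, ?_⟩
  rw [← hC1s, Subgroup.map_sup, map_conj_of_mem_normalizer Q _ (mul_mem hxi hdM),
    ← map_conj_mul, ← hd, map_conj_mul, inv_mul_cancel, map_conj_one, hC2s]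

/-- the main induction. -/
theorem main (r : ℕ) : ∀ (n : ℕ) (G : Type u) [Group G] [Finite G] [Group.IsSolvable G],
    Nat.card G = n → PC G → CycExc r G → AllConj G := by
  intro n
  induction n using Nat.strong_induction_on with
  | _ n ih =>
  intro G _ _ _ hn hPC hcyc H K hHK
  rcases subsingleton_or_nontrivial G with hs | hnt
  · refine ⟨1, ?_⟩
    rw [map_conj_one, Subgroup.eq_bot_of_subsingleton H, Subgroup.eq_bot_of_subsingleton K]
  obtain ⟨N, q, i, hNn, hN1, hNmin, hq, hi, hNc⟩ :=
    Cfsg.Agent.S4214.exists_minimal_normal (G := G)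
  haveI := hNn
  haveI : Fact q.Prime := ⟨hq⟩
  have hNq : IsPGroup q N := IsPGroup.of_card hNc
  have h2N : 2 ≤ Nat.card N := by
    rw [hNc]
    calc 2 ≤ q := hq.two_le
      _ = q ^ 1 := (pow_one q).symm
      _ ≤ q ^ i := Nat.pow_le_pow_right hq.pos hi
  have hlt : Nat.card (G ⧸ N) < n := by
    have h5 := Subgroup.card_eq_card_quotient_mul_card_subgroup N
    have hpos : 0 < Nat.card (G ⧸ N) := Nat.card_pos
    rw [← hn, h5]; nlinarith
  have hQ : AllConj (G ⧸ N) :=
    ih _ hlt (G ⧸ N) rfl (PC_quotient hPC N) (CycExc_quotient hcyc N)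
  set v := (Nat.card H).factorization q with hv
  have hvK : (Nat.card K).factorization q = v := by rw [← hHK]
  by_cases hcase : Nat.card N ≤ q ^ v
  · exact conj_of_quotient N hQ H K (le_of_card_le_pow hPC N hNq H hcase)
      (le_of_card_le_pow hPC N hNq K (by rw [hvK]; exact hcase)) hHK
  push Not at hcase
  have hHN : Nat.card (H ⊓ N : Subgroup G) = q ^ v := card_inf_of_pow_lt hPC N hNq H hcase
  have hKN : Nat.card (K ⊓ N : Subgroup G) = q ^ v := by
    have := card_inf_of_pow_lt hPC N hNq K (by rw [hvK]; exact hcase)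
    rwa [hvK] at this
  by_cases hqr : q = r
  · -- the exceptional prime
    obtain ⟨g, hg⟩ := hPC q hq (H ⊓ N) (K ⊓ N) (hNq.to_le inf_le_right) (hNq.to_le inf_le_right)
      (by rw [hHN, hKN])
    rw [map_conj_inf, map_conj_normal N g] at hg
    set H1 := H.map (MulAut.conj g).toMonoidHom with hH1
    suffices h : ∃ g' : G, K = H1.map (MulAut.conj g').toMonoidHom by
      obtain ⟨g', hg'⟩ := h
      exact ⟨g' * g, by rw [← map_conj_mul]; exact hg'⟩
    have hH1K : Nat.card H1 = Nat.card K := by rw [hH1, card_map_conj, hHK]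
    have hqG : q ∣ Nat.card G :=
      (dvd_trans (by rw [hNc]; exact dvd_pow_self q (by omega)) (Subgroup.card_subgroup_dvd_card N))
    refine step_exc q (hqr ▸ hcyc) hqG ?_ H1 K (K ⊓ N) hH1K (by rw [hg]; exact inf_le_left)
      inf_le_left ?_ (inf_normal_le_normalizer K N) (by rw [hKN, hvK])
    · intro D hD hPCD hcD
      exact ih _ (hn ▸ hD) D rfl hPCD (hqr ▸ hcD)
    · rw [hg]; exact inf_normal_le_normalizer H1 N
  · -- a prime with cyclic Sylow subgroups
    obtain ⟨S, hS⟩ := hNq.exists_le_sylow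
    haveI : IsCyclic (S : Subgroup G) := hcyc q hq hqr S
    haveI : IsCyclic N := Subgroup.isCyclic_of_le hS
    have hfix : ∀ g : G, (H ⊓ N : Subgroup G).map (MulAut.conj g).toMonoidHom = H ⊓ N := by
      intro g
      apply eq_of_card_eq_of_le_isCyclic N _ _ _ inf_le_right (card_map_conj _ g)
      calc (H ⊓ N : Subgroup G).map (MulAut.conj g).toMonoidHom
          ≤ N.map (MulAut.conj g).toMonoidHom := Subgroup.map_mono inf_le_right
        _ = N := map_conj_normal N g
    have hnorm : (H ⊓ N : Subgroup G).Normal := by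
      constructor
      intro n hn g
      rw [← hfix g]
      exact ⟨n, hn, rfl⟩
    have hbot : (H ⊓ N : Subgroup G) = ⊥ := by
      rcases hNmin _ hnorm inf_le_right with h | h
      · exact h
      · rw [h] at hHN; omega
    have hqv : q ^ v = 1 := by rw [← hHN, hbot, Subgroup.card_bot]
    have hbotK : (K ⊓ N : Subgroup G) = ⊥ := by
      rw [← Subgroup.card_eq_one, hKN, hqv]
    obtain ⟨g, hg⟩ := sup_conj_of_quotient N hQ H K hHK (by rw [hHN, hKN])
    set H1 := H.map (MulAut.conj g).toMonoidHom with hH1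
    have hv0 : v = 0 := by
      by_contra hne
      have h1 : q ^ 1 ≤ q ^ v := Nat.pow_le_pow_right hq.pos (by omega)
      rw [pow_one, hqv] at h1
      have := hq.two_le
      omega
    have hqK : ¬ q ∣ Nat.card K := by
      intro hdvd
      have := (hq.pow_dvd_iff_le_factorization (n := Nat.card K) (k := 1)
        Nat.card_pos.ne').mp (by simpa using hdvd)
      omega
    have hL : Nat.card (K ⊔ N : Subgroup G) = Nat.card K * Nat.card N :=
      card_sup_of_inf_bot K N hbotK
    have hcop : (Nat.card K).Coprime (Nat.card N) := by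
      rw [hNc]
      exact (Nat.Coprime.pow_left i ((Nat.Prime.coprime_iff_not_dvd hq).mpr hqK)).symm
    obtain ⟨l, -, hl⟩ := hall_rel_conj (K ⊔ N) H1 K (by rw [hg]; exact le_sup_left) le_sup_left
      (Nat.card K) (Nat.card N) hL hcop (by rw [hH1, card_map_conj, hHK]) rfl
    exact ⟨l * g, by rw [← map_conj_mul]; exact hl⟩

end Cfsg.Agent.Helper76.EqOrd
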