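import Cfsg.Agent.Lib.Helper81.CharCorr
import Cfsg.Agent.Lib.Helper81.CharProd
import Cfsg.Agent.Lib.Helper79.CharBasic
import Cfsg.Agent.Lib.Helper78.ItoMichler

/-!
# Isaacs–Passman (S4463) core: characters of maximal degree of a subgroup

`b` bounds all irreducible character degrees of `G`.  If `ψ ∈ Irr(H)` has degree `b` then every
irreducible character of `G` over `ψ` restricts to `ψ` (FACT E), `ψ` extends to `G`, and `ψ` vanishes
off the normal core of `H` (helper89's Lemma A', proof of helper53 via `ψ^G = χ · (1_H)^G`).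
-/

set_option autoImplicit false
set_option linter.unusedVariables false
set_option linter.unusedSectionVars false
set_option linter.style.haveILetI false

namespace Cfsg.Agent.Helper76.IP

open Cfsg Cfsg.Agent.Helper79 Cfsg.Agent.Helper81
open scoped ComplexConjugate

universe u

section core
variable {G : Type u} [Group G] [Fintype G]

/-- a character vanishing at `1` is zero -/
theorem h76_char_eq_zero_of_one {K : Type u} [Group K] {α : K → ℂ} (hα : IsCharacter K α)
    (h1 : α 1 = 0) : α = 0 := by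
  obtain ⟨n, ρ, rfl⟩ := hα
  rw [Representation.char_one] at h1
  have hn : n = 0 := by
    have : (Module.finrank ℂ (Fin n → ℂ) : ℂ) = 0 := h1
    simpa using this
  subst hn
  funext g
  have : ρ g = 0 := Subsingleton.elim _ _
  simp [Representation.character, this]

/-- the value at `1` of a character is a natural number -/
theorem h76_char_one_nat {K : Type u} [Group K] {α : K → ℂ} (hα : IsCharacter K α) :
    ∃ n : ℕ, α 1 = (n : ℂ) := by
  obtain ⟨n, ρ, rfl⟩ := hα
  refine ⟨n, ?_⟩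
  rw [Representation.char_one]
  simp

/-- FACT E: an irreducible character of `G` over `ψ ∈ Irr(H)` of maximal degree restricts to `ψ` -/
theorem restrict_eq_of_max (H : Subgroup G) [Fintype H] (b : ℕ)
    (hb : ∀ χ : IrrCharacter G, charDegree (χ : G → ℂ) ≤ b)
    (ψ : IrrCharacter H) (hψ : charDegree (ψ : H → ℂ) = b)
    (χ : IrrCharacter G)
    (hne : classInner (fun h : H => (χ : G → ℂ) h) (ψ : H → ℂ) ≠ 0) :
    (fun h : H => (χ : G → ℂ) h) = (ψ : H → ℂ) := by
  have hres : IsCharacter H (fun h : H => (χ : G → ℂ) h) :=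
    isCharacter_restrict H (IsIrrCharacter.isCharacter χ.2)
  obtain ⟨α', hα', hsum⟩ := exists_add_of_classInner_ne_zero hres ψ.2 hne
  obtain ⟨n, hn⟩ := h76_char_one_nat hα'
  have h1 := congrFun hsum 1
  simp only [Pi.add_apply] at h1
  have hχ1 := (irr_one_eq χ).1
  have hψ1 := (irr_one_eq ψ).1
  have h2 : (χ : G → ℂ) ((1 : H) : G) = (χ : G → ℂ) 1 := rfl
  rw [h2, hχ1, hψ1, hn, hψ] at h1
  have h3 : charDegree (χ : G → ℂ) = b + n := by exact_mod_cast h1
  have hn0 : n = 0 := by have := hb χ; omega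
  rw [hn0, Nat.cast_zero] at hn
  rw [hsum, h76_char_eq_zero_of_one hα' hn, add_zero]

/-- `ψ ∈ Irr(H)` of maximal degree extends to `G` -/
theorem exists_extension_of_max (H : Subgroup G) [Fintype H] (b : ℕ)
    (hb : ∀ χ : IrrCharacter G, charDegree (χ : G → ℂ) ≤ b)
    (ψ : IrrCharacter H) (hψ : charDegree (ψ : H → ℂ) = b) :
    ∃ χ : IrrCharacter G, (fun h : H => (χ : G → ℂ) h) = (ψ : H → ℂ) := by
  obtain ⟨χ, hχ, hne⟩ := Cfsg.Agent.Helper78.exists_irr_over H ψ.2
  exact ⟨⟨χ, hχ⟩, restrict_eq_of_max H b hb ψ hψ ⟨χ, hχ⟩ hne⟩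

/-- Lemma A': `ψ ∈ Irr(H)` of maximal degree vanishes off the normal core of `H` -/
theorem vanish_off_core (H : Subgroup G) [Fintype H] (b : ℕ)
    (hb : ∀ χ : IrrCharacter G, charDegree (χ : G → ℂ) ≤ b)
    (ψ : IrrCharacter H) (hψ : charDegree (ψ : H → ℂ) = b)
    (h : H) (hh : (h : G) ∉ H.normalCore) : (ψ : H → ℂ) h = 0 := by
  classical
  haveI : Fintype (IrrCharacter G) := @Fintype.ofFinite _ Cfsg.Agent.Helper81.irr_finite
  obtain ⟨χ, hχ⟩ := exists_extension_of_max H b hb ψ hψ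
  have hχc := isClassFunction_of_isCharacter (IsIrrCharacter.isCharacter χ.2)
  -- `ψ^G = π χ`
  set π : G → ℂ := indFun H (fun _ : H => (1 : ℂ)) with hπ
  have hprod : indFun H (ψ : H → ℂ) = π * (χ : G → ℂ) := by
    have := indFun_mul_restrict H (fun _ : H => (1 : ℂ)) hχc
    rw [← this]
    congr 1
    rw [hχ]
    funext x
    simp
  -- decomposition of `ψ^G`
  have hΘ : IsCharacter G (indFun H (ψ : H → ℂ)) :=
    isCharacter_indFun H (IsIrrCharacter.isCharacter ψ.2)
  obtain ⟨m, hm⟩ := exists_nat_decomp hΘ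
  have hcoef : ∀ ξ : IrrCharacter G, m ξ ≠ 0 → (fun x : H => (ξ : G → ℂ) x) = (ψ : H → ℂ) := by
    intro ξ hξ
    apply restrict_eq_of_max H b hb ψ hψ ξ
    have hξc := isClassFunction_of_isCharacter (IsIrrCharacter.isCharacter ξ.2)
    have h1 : classInner (indFun H (ψ : H → ℂ)) (ξ : G → ℂ) = (m ξ : ℂ) := by
      conv_lhs => rw [hm]
      exact classInner_nat_decomp (fun χ' => (m χ' : ℂ)) ξ
    rw [frobenius_reciprocity H (ψ : H → ℂ) hξc] at h1
    rw [classInner_conj_symm, h1]
    simpa using hξ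
  -- restriction of `ψ^G` to `H`
  have hres : ∀ x : H, indFun H (ψ : H → ℂ) (x : G) = ((∑ ξ, m ξ : ℕ) : ℂ) * (ψ : H → ℂ) x := by
    intro x
    rw [hm]
    simp only [Finset.sum_apply, Pi.smul_apply, smul_eq_mul]
    rw [Nat.cast_sum, Finset.sum_mul]
    apply Finset.sum_congr rfl
    intro ξ _
    by_cases hξ : m ξ = 0
    · rw [hξ]; simp
    · rw [← congrFun (hcoef ξ hξ) x]
  have hb0 : (b : ℂ) ≠ 0 := by
    have := (irr_one_eq ψ).2
    rw [hψ] at this
    exact_mod_cast this.ne'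
  have hψ1 : (ψ : H → ℂ) 1 = (b : ℂ) := by rw [(irr_one_eq ψ).1, hψ]
  have hχ1 : (χ : G → ℂ) 1 = (b : ℂ) := by
    have := congrFun hχ 1
    have h2 : (χ : G → ℂ) ((1 : H) : G) = (χ : G → ℂ) 1 := rfl
    rw [← h2, this, hψ1]
  -- `Σ m = π 1`
  have hsum : ((∑ ξ, m ξ : ℕ) : ℂ) = π 1 := by
    have h1 := hres 1
    have h2 : indFun H (ψ : H → ℂ) ((1 : H) : G) = π 1 * (χ : G → ℂ) 1 := by
      rw [hprod]; rfl
    rw [h2, hψ1, hχ1] at h1
    exact (mul_right_cancel₀ hb0 h1).symm
  -- at `h`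
  have hkey : (π (h : G) - π 1) * (ψ : H → ℂ) h = 0 := by
    have h1 := hres h
    rw [hprod, Pi.mul_apply, hsum] at h1
    have h2 : (χ : G → ℂ) (h : G) = (ψ : H → ℂ) h := congrFun hχ h
    rw [h2] at h1
    rw [sub_mul, h1, sub_self]
  rcases mul_eq_zero.1 hkey with h0 | h0
  · exfalso
    apply hh
    -- `π h = π 1` forces `h` into the core
    rw [sub_eq_zero, hπ, indFun_apply, indFun_apply] at h0
    have hH0 : ((Nat.card H : ℂ))⁻¹ ≠ 0 := by
      apply inv_ne_zero
      exact_mod_cast (Nat.card_pos (α := H)).ne'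
    have h1 := mul_left_cancel₀ hH0 h0
    have e1 : ∀ x : G, extendByZero H (fun _ : H => (1 : ℂ)) (x⁻¹ * 1 * x) = 1 := by
      intro x
      have : x⁻¹ * 1 * x = ((1 : H) : G) := by simp
      rw [this, extendByZero_apply_coe]
    have e2 : ∀ x : G, extendByZero H (fun _ : H => (1 : ℂ)) (x⁻¹ * (h : G) * x) =
        if x⁻¹ * (h : G) * x ∈ H then 1 else 0 := by
      intro x
      by_cases hx : x⁻¹ * (h : G) * x ∈ H
      · rw [if_pos hx, extendByZero_apply_mem H _ hx]
      · rw [if_neg hx, extendByZero_apply_not_mem H _ hx]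
    simp only [e1, e2] at h1
    rw [Finset.sum_boole, Finset.sum_const, nsmul_eq_mul, mul_one] at h1
    have h2 : (Finset.univ.filter (fun x : G => x⁻¹ * (h : G) * x ∈ H)).card =
        (Finset.univ : Finset G).card := by exact_mod_cast h1
    have h3 := (Finset.card_eq_iff_eq_univ _).1 (by rw [h2]; rfl)
    rw [Subgroup.normalCore]
    intro g
    have : g⁻¹ ∈ Finset.univ.filter (fun x : G => x⁻¹ * (h : G) * x ∈ H) := by
      rw [h3]; exact Finset.mem_univ _
    rw [Finset.mem_filter, inv_inv] at this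
    exact this.2
  · exact h0

end core

end Cfsg.Agent.Helper76.IP
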