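import Cfsg.Agent.Lib.Helper76.IPCore
import Cfsg.Agent.Lib.Helper76.CD2Basic
import Cfsg.Agent.Lib.Helper79.DG2GT

/-!
# Isaacs–Passman (S4463) core, part 2

* `deg_le_of_sub`: degrees of a subgroup are bounded by the maximal degree of `G`;
* `card_le_sq_mul_core`: if `ψ ∈ Irr(H)` has the maximal degree `b` then `|H| ≤ b² |core_G(H)|`;
* `deg_lt_of_core_small`: if `b² |core_G(H)| < |H|` then all degrees of `H` are `< b`;
* `deg_le_half` (N+): `K` normal with `G/K` nonabelian ⇒ `2 φ(1) ≤ b` for `φ ∈ Irr(K)`.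
-/

set_option autoImplicit false
set_option linter.unusedVariables false
set_option linter.unusedSectionVars false
set_option linter.style.haveILetI false

namespace Cfsg.Agent.Helper76.IP

open Cfsg Cfsg.Agent.Helper79 Cfsg.Agent.Helper81
open scoped ComplexConjugate

universe u

section core2
variable {G : Type u} [Group G] [Fintype G]

/-- `χ` over `ψ`: `ψ(1) ≤ χ(1)`, with equality iff `χ_H = ψ` -/
theorem h76_restrict_deg (H : Subgroup G) [Fintype H] (ψ : IrrCharacter H) (χ : IrrCharacter G)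
    (hne : classInner (fun h : H => (χ : G → ℂ) h) (ψ : H → ℂ) ≠ 0) :
    charDegree (ψ : H → ℂ) ≤ charDegree (χ : G → ℂ) ∧
      (charDegree (χ : G → ℂ) = charDegree (ψ : H → ℂ) →
        (fun h : H => (χ : G → ℂ) h) = (ψ : H → ℂ)) := by
  have hres : IsCharacter H (fun h : H => (χ : G → ℂ) h) :=
    isCharacter_restrict H (IsIrrCharacter.isCharacter χ.2)
  obtain ⟨α', hα', hsum⟩ := exists_add_of_classInner_ne_zero hres ψ.2 hne
  obtain ⟨n, hn⟩ := h76_char_one_nat hα'
  have h1 := congrFun hsum 1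
  simp only [Pi.add_apply] at h1
  have hχ1 := (irr_one_eq χ).1
  have hψ1 := (irr_one_eq ψ).1
  have h2 : (χ : G → ℂ) ((1 : H) : G) = (χ : G → ℂ) 1 := rfl
  rw [h2, hχ1, hψ1, hn] at h1
  have h3 : charDegree (χ : G → ℂ) = charDegree (ψ : H → ℂ) + n := by exact_mod_cast h1
  refine ⟨by omega, ?_⟩
  intro heq
  have hn0 : n = 0 := by omega
  rw [hn0, Nat.cast_zero] at hn
  rw [hsum, h76_char_eq_zero_of_one hα' hn, add_zero]

/-- degrees of a subgroup are bounded by the maximal degree of `G` -/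
theorem deg_le_of_sub (H : Subgroup G) [Fintype H] (b : ℕ)
    (hb : ∀ χ : IrrCharacter G, charDegree (χ : G → ℂ) ≤ b) (ψ : IrrCharacter H) :
    charDegree (ψ : H → ℂ) ≤ b := by
  obtain ⟨χ, hχ, hne⟩ := Cfsg.Agent.Helper78.exists_irr_over H ψ.2
  exact le_trans (h76_restrict_deg H ψ ⟨χ, hχ⟩ hne).1 (hb ⟨χ, hχ⟩)

/-- an irreducible character of `H` vanishing off `K ≤ H` has `|H| ≤ ψ(1)² |K|` -/
theorem card_le_of_vanish_off (H K : Subgroup G) [Fintype H] (hKH : K ≤ H) (ψ : IrrCharacter H)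
    (hv : ∀ h : H, (h : G) ∉ K → (ψ : H → ℂ) h = 0) :
    Nat.card H ≤ charDegree (ψ : H → ℂ) ^ 2 * Nat.card K := by
  classical
  have horth : classInner (ψ : H → ℂ) (ψ : H → ℂ) = 1 := by
    rw [irr_orthonormal ψ.2 ψ.2, if_pos rfl]
  unfold classInner at horth
  have hH0 : (Nat.card H : ℂ) ≠ 0 := by exact_mod_cast (Nat.card_pos (α := H)).ne'
  have hsum : ∑ h : H, (ψ : H → ℂ) h * conj ((ψ : H → ℂ) h) = (Nat.card H : ℂ) := by
    field_simp at horth
    rw [horth]
  have hterm : ∀ h : H, (ψ : H → ℂ) h * conj ((ψ : H → ℂ) h) =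
      ((Complex.normSq ((ψ : H → ℂ) h) : ℝ) : ℂ) := fun h => Complex.mul_conj _
  simp only [hterm] at hsum
  rw [← Complex.ofReal_sum] at hsum
  have hreal : ∑ h : H, Complex.normSq ((ψ : H → ℂ) h) = (Nat.card H : ℝ) := by
    have : ((∑ h : H, Complex.normSq ((ψ : H → ℂ) h) : ℝ) : ℂ) = ((Nat.card H : ℝ) : ℂ) := by
      rw [hsum]; simp
    exact Complex.ofReal_injective this
  set d := charDegree (ψ : H → ℂ) with hd
  have hbound : ∀ h : H, Complex.normSq ((ψ : H → ℂ) h) ≤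
      if (h : G) ∈ K then ((d : ℝ)) ^ 2 else 0 := by
    intro h
    by_cases hk : (h : G) ∈ K
    · rw [if_pos hk, Complex.normSq_eq_norm_sq]
      have := irr_norm_le ψ h
      have h0 : 0 ≤ ‖(ψ : H → ℂ) h‖ := norm_nonneg _
      nlinarith
    · rw [if_neg hk, hv h hk]
      simp
  have hle : (Nat.card H : ℝ) ≤ ∑ h : H, (if (h : G) ∈ K then ((d : ℝ)) ^ 2 else 0) := by
    rw [← hreal]
    exact Finset.sum_le_sum (fun h _ => hbound h)
  rw [← Finset.sum_filter, Finset.sum_const, nsmul_eq_mul] at hle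
  have hcard : (Finset.univ.filter (fun h : H => (h : G) ∈ K)).card = Nat.card K := by
    rw [← Nat.card_congr (Subgroup.subgroupOfEquivOfLe hKH).toEquiv]
    rw [Nat.card_eq_fintype_card, Fintype.card_subtype]
    rfl
  rw [hcard] at hle
  have : ((Nat.card H : ℕ) : ℝ) ≤ ((d ^ 2 * Nat.card K : ℕ) : ℝ) := by
    push_cast
    linarith
  exact_mod_cast this

/-- if `ψ ∈ Irr(H)` has the maximal degree `b` of `G` then `|H| ≤ b² |core_G(H)|` -/
theorem card_le_sq_mul_core (H : Subgroup G) [Fintype H] (b : ℕ)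
    (hb : ∀ χ : IrrCharacter G, charDegree (χ : G → ℂ) ≤ b)
    (ψ : IrrCharacter H) (hψ : charDegree (ψ : H → ℂ) = b) :
    Nat.card H ≤ b ^ 2 * Nat.card H.normalCore := by
  have := card_le_of_vanish_off H H.normalCore (Subgroup.normalCore_le H) ψ
    (fun h hh => vanish_off_core H b hb ψ hψ h hh)
  rw [hψ] at this
  exact this

/-- if `b² |core_G(H)| < |H|` then all degrees of `H` are `< b` -/
theorem deg_lt_of_core_small (H : Subgroup G) [Fintype H] (b : ℕ)
    (hb : ∀ χ : IrrCharacter G, charDegree (χ : G → ℂ) ≤ b)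
    (hsmall : b ^ 2 * Nat.card H.normalCore < Nat.card H) (ψ : IrrCharacter H) :
    charDegree (ψ : H → ℂ) < b := by
  rcases lt_or_eq_of_le (deg_le_of_sub H b hb ψ) with h | h
  · exact h
  · exact absurd (card_le_sq_mul_core H b hb ψ h) (not_le.2 hsmall)

/-- (N+) `K` normal with `G/K` nonabelian: `2 φ(1) ≤ b` for every `φ ∈ Irr(K)` -/
theorem deg_le_half (K : Subgroup G) [K.Normal] (hna : ¬ ∀ a b : G ⧸ K, a * b = b * a) (b : ℕ)
    (hb : ∀ χ : IrrCharacter G, charDegree (χ : G → ℂ) ≤ b) (φ : IrrCharacter K) :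
    2 * charDegree (φ : K → ℂ) ≤ b := by
  classical
  haveI : Fintype K := Fintype.ofFinite K
  obtain ⟨χ, e, hdeg, -, hne⟩ := Cfsg.Agent.Helper76.CD2.exists_over K φ
  have hφpos := (irr_one_eq φ).2
  have hχpos := (irr_one_eq χ).2
  have he0 : e ≠ 0 := by
    rintro rfl
    rw [zero_mul] at hdeg
    omega
  by_cases he1 : e = 1
  · -- `χ_K = φ`: Gallagher
    rw [he1, one_mul] at hdeg
    have hres := (h76_restrict_deg K φ χ hne).2 hdeg
    have hχK : IsIrrCharacter K (fun k : K => (χ : G → ℂ) k) := by rw [hres]; exact φ.2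
    have hβ : ∃ β : IrrCharacter (G ⧸ K), charDegree (β : G ⧸ K → ℂ) ≠ 1 := by
      by_contra hcon
      push Not at hcon
      exact hna (Cfsg.Agent.Helper76.CD2.comm_of_all_linear hcon)
    obtain ⟨β, hβ⟩ := hβ
    have hβpos := (irr_one_eq β).2
    obtain ⟨ξ, hξ⟩ := Cfsg.Agent.Helper79.DG2.gallagher_deg K χ hχK β
    have := hb ξ
    rw [hξ, hdeg] at this
    have h2 : 2 ≤ charDegree (β : G ⧸ K → ℂ) := by omega
    calc 2 * charDegree (φ : K → ℂ) ≤ charDegree (β : G ⧸ K → ℂ) * charDegree (φ : K → ℂ) :=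
          Nat.mul_le_mul_right _ h2
      _ ≤ b := this
  · have h2 : 2 ≤ e := by omega
    have := hb χ
    rw [hdeg] at this
    calc 2 * charDegree (φ : K → ℂ) ≤ e * charDegree (φ : K → ℂ) := Nat.mul_le_mul_right _ h2
      _ ≤ b := this

end core2

end Cfsg.Agent.Helper76.IP
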