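import Mathlib

/-!
# Landau's theorem: the order of a finite group is bounded in terms of its class number (helper76)
-/

set_option autoImplicit false
set_option linter.unusedSectionVars false
set_option linter.style.haveILetI false

namespace Cfsg.Agent.Helper76.Landau

universe u

/-- Egyptian fractions: the denominators in a representation of `r > 0` as a sum of `k` unit
fractions are bounded. -/
theorem exists_bound (k : ℕ) : ∀ r : ℚ, 0 < r → ∃ N : ℕ, ∀ s : Multiset ℕ, Multiset.card s = k →
    (∀ x ∈ s, 0 < x) → (s.map (fun x : ℕ => (1 : ℚ) / x)).sum = r → ∀ x ∈ s, x ≤ N := by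
  classical
  induction k with
  | zero =>
    intro r _
    refine ⟨0, ?_⟩
    intro s hs _ _ x hx
    rw [Multiset.card_eq_zero] at hs
    rw [hs] at hx
    exact absurd hx (Multiset.notMem_zero x)
  | succ k ih =>
    intro r hr
    choose! f hf using ih
    let m₀ : ℕ := ⌊((k : ℚ) + 1) / r⌋₊
    refine ⟨m₀ + (Finset.range (m₀ + 1)).sup (fun m => f (r - 1 / (m : ℚ))), ?_⟩
    intro s hs hpos hsum
    have hne : s ≠ 0 := by
      intro h0
      rw [h0] at hs
      simp at hs
    have hne' : s.toFinset.Nonempty := by
      rw [Finset.nonempty_iff_ne_empty]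
      intro h
      exact hne (Multiset.toFinset_eq_empty.mp h)
    obtain ⟨m, hm, hmin⟩ := s.toFinset.exists_min_image id hne'
    rw [Multiset.mem_toFinset] at hm
    have hmin' : ∀ x ∈ s, m ≤ x := fun x hx => hmin x (Multiset.mem_toFinset.mpr hx)
    have hmpos : 0 < m := hpos m hm
    have hmposQ : (0 : ℚ) < m := by exact_mod_cast hmpos
    -- `m ≤ m₀`
    have hle : (s.map (fun x : ℕ => (1 : ℚ) / x)).sum ≤
        Multiset.card (s.map (fun x : ℕ => (1 : ℚ) / x)) • ((1 : ℚ) / m) := by
      apply Multiset.sum_le_card_nsmul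
      intro y hy
      rw [Multiset.mem_map] at hy
      obtain ⟨x, hx, rfl⟩ := hy
      have hxpos : (0 : ℚ) < x := by exact_mod_cast hpos x hx
      have : (m : ℚ) ≤ x := by exact_mod_cast hmin' x hx
      exact one_div_le_one_div_of_le hmposQ this
    rw [Multiset.card_map, hs, hsum, nsmul_eq_mul] at hle
    have hm₀ : m ≤ m₀ := by
      apply Nat.le_floor
      rw [le_div_iff₀ hr]
      have h1 : r * m ≤ ((k + 1 : ℕ) : ℚ) * (1 / m) * m := by
        exact mul_le_mul_of_nonneg_right hle hmposQ.le
      have h2 : ((k + 1 : ℕ) : ℚ) * (1 / m) * m = (k : ℚ) + 1 := by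
        push_cast
        field_simp
      rw [h2] at h1
      linarith
    -- split off `m`
    obtain ⟨t, rfl⟩ := Multiset.exists_cons_of_mem hm
    rw [Multiset.card_cons] at hs
    have hst : Multiset.card t = k := by omega
    rw [Multiset.map_cons, Multiset.sum_cons] at hsum
    have hsumt : (t.map (fun x : ℕ => (1 : ℚ) / x)).sum = r - 1 / (m : ℚ) := by linarith
    intro x hx
    rw [Multiset.mem_cons] at hx
    rcases hx with rfl | hxt
    · exact le_trans hm₀ (Nat.le_add_right _ _)
    · have ht0 : 0 < r - 1 / (m : ℚ) := by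
        rw [← hsumt]
        obtain ⟨t', rfl⟩ := Multiset.exists_cons_of_mem hxt
        rw [Multiset.map_cons, Multiset.sum_cons]
        have h1 : (0 : ℚ) < 1 / (x : ℚ) := by
          have : (0 : ℚ) < x := by exact_mod_cast hpos x (Multiset.mem_cons_of_mem hxt)
          positivity
        have h2 : 0 ≤ (t'.map (fun x : ℕ => (1 : ℚ) / x)).sum := by
          apply Multiset.sum_nonneg
          intro y hy
          rw [Multiset.mem_map] at hy
          obtain ⟨z, _, rfl⟩ := hy
          positivity
        linarith
      have hxle := hf (r - 1 / (m : ℚ)) ht0 t hst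
        (fun y hy => hpos y (Multiset.mem_cons_of_mem hy)) hsumt x hxt
      have hsup : f (r - 1 / (m : ℚ)) ≤
          (Finset.range (m₀ + 1)).sup (fun m => f (r - 1 / (m : ℚ))) :=
        Finset.le_sup (f := fun m : ℕ => f (r - 1 / (m : ℚ)))
          (Finset.mem_range.mpr (Nat.lt_succ_of_le hm₀))
      omega

section grp

variable {G : Type u} [Group G] [Finite G]

theorem ncard_carrier_dvd (c : ConjClasses G) : c.carrier.ncard ∣ Nat.card G := by
  obtain ⟨g, rfl⟩ := ConjClasses.mk_surjective c
  rw [← ConjAct.orbit_eq_carrier_conjClasses, ← MulAction.index_stabilizer]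
  have h := Subgroup.index_dvd_card (MulAction.stabilizer (ConjAct G) g)
  have h2 : Nat.card (ConjAct G) = Nat.card G := rfl
  rwa [h2] at h

theorem ncard_carrier_pos (c : ConjClasses G) : 0 < c.carrier.ncard := by
  obtain ⟨g, rfl⟩ := ConjClasses.mk_surjective c
  rw [Set.ncard_pos (Set.toFinite _)]
  exact ⟨g, ConjClasses.mem_carrier_mk⟩

theorem carrier_one : (ConjClasses.mk (1 : G)).carrier = {1} := by
  ext a
  rw [ConjClasses.mem_carrier_iff_mk_eq, ConjClasses.mk_eq_mk_iff_isConj, Set.mem_singleton_iff,
    isConj_one_left]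

end grp

/-- **Landau's theorem.** For every `k` there is a bound on the order of a finite group with at
most `k` conjugacy classes. -/
theorem card_le_of_card_conjClasses (k : ℕ) : ∃ N : ℕ, ∀ (G : Type u) [Group G] [Finite G],
    Nat.card (ConjClasses G) ≤ k → Nat.card G ≤ N := by
  classical
  choose f hf using fun j : ℕ => exists_bound j 1 one_pos
  refine ⟨(Finset.range (k + 1)).sup f, ?_⟩
  intro G _ _ hk
  haveI : Fintype (ConjClasses G) := Fintype.ofFinite _
  have hG0 : (0 : ℚ) < Nat.card G := by exact_mod_cast Nat.card_pos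
  let n : ConjClasses G → ℕ := fun c => Nat.card G / c.carrier.ncard
  have hn : ∀ c : ConjClasses G, n c * c.carrier.ncard = Nat.card G := fun c =>
    Nat.div_mul_cancel (ncard_carrier_dvd c)
  have hnpos : ∀ c : ConjClasses G, 0 < n c := by
    intro c
    rcases Nat.eq_zero_or_pos (n c) with h | h
    · have := hn c
      rw [h, zero_mul] at this
      exact absurd this.symm Nat.card_pos.ne'
    · exact h
  let s : Multiset ℕ := (Finset.univ : Finset (ConjClasses G)).val.map n
  have hcard : Multiset.card s = Nat.card (ConjClasses G) := by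
    rw [Multiset.card_map, Nat.card_eq_fintype_card]
    rfl
  have hsum : (s.map (fun x : ℕ => (1 : ℚ) / x)).sum = 1 := by
    rw [Multiset.map_map]
    change ∑ c : ConjClasses G, (1 : ℚ) / (n c : ℚ) = 1
    have h1 : ∀ c : ConjClasses G, (1 : ℚ) / (n c : ℚ) = (c.carrier.ncard : ℚ) / Nat.card G := by
      intro c
      have hc : (0 : ℚ) < n c := by exact_mod_cast hnpos c
      rw [div_eq_div_iff hc.ne' hG0.ne', one_mul]
      have := hn c
      rw [mul_comm] at this
      exact_mod_cast this.symm
    simp_rw [h1]
    rw [← Finset.sum_div, div_eq_one_iff_eq hG0.ne']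
    have h2 := Group.sum_card_conj_classes_eq_card (G := G)
    rw [finsum_eq_sum_of_fintype] at h2
    exact_mod_cast h2
  have hmem : Nat.card G ∈ s := by
    rw [Multiset.mem_map]
    refine ⟨ConjClasses.mk 1, Finset.mem_univ _, ?_⟩
    show Nat.card G / (ConjClasses.mk (1 : G)).carrier.ncard = Nat.card G
    rw [carrier_one, Set.ncard_singleton, Nat.div_one]
  have hb := hf (Nat.card (ConjClasses G)) s hcard (by
    intro x hx
    rw [Multiset.mem_map] at hx
    obtain ⟨c, _, rfl⟩ := hx
    exact hnpos c) hsum (Nat.card G) hmem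
  exact le_trans hb (Finset.le_sup (f := f) (Finset.mem_range.mpr (Nat.lt_succ_of_le hk)))

end Cfsg.Agent.Helper76.Landau
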