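import Mathlib
import Cfsg.Agent.Lib.Helper93.MD0
import Cfsg.Agent.Lib.Helper95.MDA

/-!
# MD project (helper93 server, S2140): piece (F4), `n = 4`, `q ≠ 2`

Second seat by helper76.  Statement verbatim from `tools/md_sigs_helper93.lean.txt`.
-/

set_option autoImplicit false

namespace Cfsg.Agent.Helper76.MD

open Module Cfsg.Agent.Helper93.McL Cfsg.Agent.Helper93.MD

variable {F V : Type*} [Field F] [Fintype F] [AddCommGroup V] [Module F V] [FiniteDimensional F V]

omit [Fintype F] [FiniteDimensional F V] in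
/-- A basis `u, v, w₁, w₂` of a 4-dimensional space extending an independent pair. -/
lemma f4_exists_basis (hn : finrank F V = 4) {u v : V} (hu : u ≠ 0)
    (hv : v ∉ Submodule.span F {u}) : ∃ b : Basis (Fin 4) F V, b 0 = u ∧ b 1 = v := by
  have h2 : LinearIndependent F ![u, v] := by
    rw [LinearIndependent.pair_iff' hu]
    intro a ha
    exact hv (Submodule.mem_span_singleton.mpr ⟨a, ha⟩)
  obtain ⟨w1, h3⟩ := exists_linearIndependent_snoc_of_lt_finrank h2 (by rw [hn]; norm_num)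
  obtain ⟨w2, h4⟩ := exists_linearIndependent_snoc_of_lt_finrank h3 (by rw [hn]; norm_num)
  refine ⟨basisOfLinearIndependentOfCardEqFinrank h4 (by rw [hn]; rfl), ?_, ?_⟩
  · rw [coe_basisOfLinearIndependentOfCardEqFinrank]
    rfl
  · rw [coe_basisOfLinearIndependentOfCardEqFinrank]
    rfl

omit [Fintype F] [FiniteDimensional F V] in
/-- For `k = tv u φ₀ * g` with `g u = α • u`, functionals vanishing at `u` do not see the `tv` part of
`k⁻¹`. -/
lemma f4_comp_symm {u : V} {g : V ≃ₗ[F] V} {α : F} (hα : α ≠ 0) (hg : g u = α • u)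
    {φ₀ ψ : Dual F V} (hφ₀ : φ₀ u = 0) (hψ : ψ u = 0) :
    ψ ∘ₗ (((tv u φ₀ * g : V ≃ₗ[F] V)).symm : V →ₗ[F] V) = ψ ∘ₗ (g.symm : V →ₗ[F] V) := by
  apply LinearMap.ext
  intro x
  obtain ⟨y, rfl⟩ := (tv u φ₀ * g).surjective x
  have hgs : g.symm u = α⁻¹ • u := by
    rw [LinearEquiv.symm_apply_eq, map_smul, hg, smul_smul, inv_mul_cancel₀ hα, one_smul]
  simp only [LinearMap.comp_apply, LinearEquiv.coe_coe, LinearEquiv.symm_apply_apply]
  rw [LinearEquiv.mul_apply, tv_apply hφ₀, map_add, map_smul, LinearEquiv.symm_apply_apply, hgs,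
    map_add, map_smul, map_smul, hψ]
  simp

omit [Fintype F] [FiniteDimensional F V] in
/-- The image of `u`, `v` under `k = tv u φ₀ * g` when `g u = α • u`, `g v = v`. -/
lemma f4_k_apply {u v : V} {g : V ≃ₗ[F] V} {α : F} (hgu : g u = α • u) (hgv : g v = v)
    {φ₀ : Dual F V} (hφ₀ : φ₀ u = 0) :
    (tv u φ₀ * g : V ≃ₗ[F] V) u = α • u ∧
      (tv u φ₀ * g : V ≃ₗ[F] V) v = (1 : F) • v + (φ₀ v) • u := by
  constructor
  · rw [LinearEquiv.mul_apply, hgu, tv_apply hφ₀, map_smul, hφ₀]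
    simp
  · rw [LinearEquiv.mul_apply, hgv, tv_apply hφ₀, one_smul]

omit [Fintype F] [FiniteDimensional F V] in
/-- `b` is additive on `Λ` once its `v`-component vanishes. -/
lemma f4_b_sub {u v : V} {K : Subgroup (V ≃ₗ[F] V)} (D : CData K u v)
    (ha : ∀ c : Dual F V, c u = 0 → c v = 0 → D.b c v = 0) {c c' : Dual F V}
    (hc : c u = 0 ∧ c v = 0) (hc' : c' u = 0 ∧ c' v = 0) : D.b (c - c') = D.b c - D.b c' := by
  have hadd : ∀ a a' : Dual F V, a u = 0 → a v = 0 → a' u = 0 → a' v = 0 →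
      D.b (a + a') = D.b a + D.b a' := by
    intro a a' h1 h2 h3 h4
    rw [D.b_add a a' h1 h2 h3 h4, ha a' h3 h4, zero_smul, sub_zero]
  have h0 : D.b 0 = 0 := by
    have := hadd 0 0 (by simp) (by simp) (by simp) (by simp)
    rw [add_zero] at this
    exact left_eq_add.mp this
  have hneg : D.b (-c') = -D.b c' := by
    have := hadd c' (-c') hc'.1 hc'.2 (by simp [hc'.1]) (by simp [hc'.2])
    rw [add_neg_cancel, h0] at this
    exact (neg_eq_of_add_eq_zero_right this.symm).symm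
  rw [sub_eq_add_neg, hadd c (-c') hc.1 hc.2 (by simp [hc'.1]) (by simp [hc'.2]), hneg,
    ← sub_eq_add_neg]

/-- (F4) `n = 4`, `q ≠ 2`. -/
theorem f4 (hn : finrank F V = 4) (hq : Fintype.card F ≠ 2) {u v : V} (hu : u ≠ 0)
    (hv : v ∉ Submodule.span F {u})
    (K : Subgroup (V ≃ₗ[F] V)) (hKS : K ≤ SLV F V) (hKu : ∀ k ∈ K, ∃ α : F, k u = α • u)
    (hKE : ∀ φ : Dual F V, φ u = 0 → tv u φ ∈ K → φ = 0)
    (hcov : ∀ g ∈ SLV F V, (∃ α : F, g u = α • u) → ∃ φ : Dual F V, φ u = 0 ∧ tv u φ * g ∈ K)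
    (D : CData K u v) (ha : ∀ c : Dual F V, c u = 0 → c v = 0 → D.b c v = 0) :
    ∃ (c : Dual F V) (μ : F), c ≠ 0 ∧ c u = 0 ∧ c v = 0 ∧ D.b c = μ • c := by
  classical
  obtain ⟨b, hb0, hb1⟩ := f4_exists_basis hn hu hv
  have hco : ∀ i j : Fin 4, b.coord i (b j) = if j = i then 1 else 0 := by
    intro i j
    rw [Basis.coord_apply, Basis.repr_self, Finsupp.single_apply]
  have c2u : b.coord 3 u = 0 := by rw [← hb0, hco]; simp
  have c2v : b.coord 3 v = 0 := by rw [← hb1, hco]; simp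
  have c1u : b.coord 2 u = 0 := by rw [← hb0, hco]; simp
  have c1v : b.coord 2 v = 0 := by rw [← hb1, hco]; simp
  have c2w1 : b.coord 3 (b 2) = 0 := by rw [hco]; simp
  have c2w2 : b.coord 3 (b 3) = 1 := by rw [hco]; simp
  have c1w1 : b.coord 2 (b 2) = 1 := by rw [hco]; simp
  have c1w2 : b.coord 2 (b 3) = 0 := by rw [hco]; simp
  have c2ne : b.coord 3 ≠ 0 := by
    intro h
    have := c2w2
    rw [h] at this
    simp at this
  have p2u : D.b (b.coord 3) u = 0 := D.b_u _ c2u c2v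
  have p2v : D.b (b.coord 3) v = 0 := ha _ c2u c2v
  -- it suffices to show that the `w₁`-coefficient of `b (w₂*)` vanishes
  suffices hβ : D.b (b.coord 3) (b 2) = 0 by
    refine ⟨b.coord 3, D.b (b.coord 3) (b 3), c2ne, c2u, c2v, ?_⟩
    apply b.ext
    intro i
    rw [LinearMap.smul_apply, smul_eq_mul, hco]
    fin_cases i
    · simp only [Fin.zero_eta]
      rw [hb0, p2u]; simp
    · simp only [Fin.mk_one]
      rw [hb1, p2v]; simp
    · simp only [Fin.reduceFinMk]
      rw [hβ]; simp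
    · simp
  by_cases h2 : (2 : F) = 0
  · -- characteristic 2: a diagonal element
    have hex : ∃ α : F, α ≠ 0 ∧ α ≠ 1 := by
      by_contra hcon
      push Not at hcon
      have hsub : (Finset.univ : Finset F) ⊆ {0, 1} := by
        intro x _
        by_cases hx : x = 0
        · simp [hx]
        · simp [hcon x hx]
      have hle : Fintype.card F ≤ 2 := by
        calc Fintype.card F = (Finset.univ : Finset F).card := rfl
          _ ≤ ({0, 1} : Finset F).card := Finset.card_le_card hsub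
          _ ≤ 2 := Finset.card_le_two
      have hge : 1 < Fintype.card F := Fintype.one_lt_card
      omega
    obtain ⟨α, hα0, hα1⟩ := hex
    have hd : ∏ i, (![α, 1, α⁻¹, 1] : Fin 4 → F) i = 1 := by
      rw [Fin.prod_univ_four]
      simp [hα0]
    obtain ⟨g, hg⟩ := Cfsg.Agent.Helper95.MD.exists_sl_diag b ![α, 1, α⁻¹, 1] hd
    have hgu : (g : V ≃ₗ[F] V) u = α • u := by
      have := hg 0
      rw [hb0] at this
      simpa using this
    have hgv : (g : V ≃ₗ[F] V) v = v := by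
      have := hg 1
      rw [hb1] at this
      simpa using this
    have hgw1 : (g : V ≃ₗ[F] V) (b 2) = α⁻¹ • b 2 := by
      have := hg 2
      simpa using this
    have hgw2 : (g : V ≃ₗ[F] V) (b 3) = b 3 := by
      have := hg 3
      simpa using this
    obtain ⟨φ₀, hφ₀, hk⟩ := hcov (g : V ≃ₗ[F] V) g.2 ⟨α, hgu⟩
    obtain ⟨hku, hkv⟩ := f4_k_apply hgu hgv hφ₀
    have E := D.b_equiv _ hk α 1 (φ₀ v) hku hkv (b.coord 3) c2u c2v
    rw [f4_comp_symm hα0 hgu hφ₀ c2u, f4_comp_symm hα0 hgu hφ₀ p2u, one_smul] at E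
    have hc2g : b.coord 3 ∘ₗ ((g : V ≃ₗ[F] V).symm : V →ₗ[F] V) = b.coord 3 := by
      apply LinearMap.ext
      intro x
      obtain ⟨y, rfl⟩ := (g : V ≃ₗ[F] V).surjective x
      simp only [LinearMap.comp_apply, LinearEquiv.coe_coe, LinearEquiv.symm_apply_apply]
      have : b.coord 3 ∘ₗ ((g : V ≃ₗ[F] V) : V →ₗ[F] V) = b.coord 3 := by
        apply b.ext
        intro i
        simp only [LinearMap.comp_apply, LinearEquiv.coe_coe]
        rw [hg i, map_smul, hco, smul_eq_mul]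
        fin_cases i <;> simp
      exact (LinearMap.congr_fun this y).symm
    rw [hc2g] at E
    have hgs : (g : V ≃ₗ[F] V).symm (b 2) = α • b 2 := by
      rw [LinearEquiv.symm_apply_eq, map_smul, hgw1, smul_smul, mul_inv_cancel₀ hα0, one_smul]
    have E1 := LinearMap.congr_fun E (b 2)
    simp only [LinearMap.add_apply, LinearMap.smul_apply, LinearMap.comp_apply,
      LinearEquiv.coe_coe, hgs, map_smul, c2w1, smul_eq_mul, mul_zero, add_zero] at E1
    -- E1 : β = α * (α * β)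
    have hfac : (α - 1) * (α - 1) * D.b (b.coord 3) (b 2) = 0 := by
      have e2 : (α - 1) * (α - 1) = α * α - 1 - 2 * (α - 1) := by ring
      rw [e2, h2, zero_mul, sub_zero, sub_mul, one_mul, mul_assoc, ← E1, sub_self]
    have hne : (α - 1) * (α - 1) ≠ 0 := mul_ne_zero (sub_ne_zero.mpr hα1) (sub_ne_zero.mpr hα1)
    exact (mul_eq_zero.mp hfac).resolve_left hne
  · -- characteristic ≠ 2: the transvection `tv w₁ w₂*`
    have hgS : tv (b 2) (b.coord 3) ∈ SLV F V := tv_mem_SLV _ _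
    have hgu : tv (b 2) (b.coord 3) u = (1 : F) • u := by
      rw [tv_apply c2w1, c2u]; simp
    have hgv : tv (b 2) (b.coord 3) v = v := by
      rw [tv_apply c2w1, c2v]; simp
    obtain ⟨φ₀, hφ₀, hk⟩ := hcov _ hgS ⟨1, hgu⟩
    obtain ⟨hku, hkv⟩ := f4_k_apply hgu hgv hφ₀
    have hsymm : ∀ x : V, (tv (b 2) (b.coord 3)).symm x = x - b.coord 3 x • b 2 := by
      intro x
      have h1 : (tv (b 2) (b.coord 3)).symm = tv (b 2) (-b.coord 3) := tv_inv (b 2) (b.coord 3)
      rw [h1, tv_apply (by simp [c2w1])]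
      simp [sub_eq_add_neg]
    have p1u : D.b (b.coord 2) u = 0 := D.b_u _ c1u c1v
    have E2 := D.b_equiv _ hk 1 1 (φ₀ v) hku hkv (b.coord 3) c2u c2v
    have E1 := D.b_equiv _ hk 1 1 (φ₀ v) hku hkv (b.coord 2) c1u c1v
    rw [f4_comp_symm one_ne_zero hgu hφ₀ c2u, f4_comp_symm one_ne_zero hgu hφ₀ p2u, one_smul,
      one_smul] at E2
    rw [f4_comp_symm one_ne_zero hgu hφ₀ c1u, f4_comp_symm one_ne_zero hgu hφ₀ p1u, one_smul,
      one_smul] at E1
    have hc2g : b.coord 3 ∘ₗ ((tv (b 2) (b.coord 3)).symm : V →ₗ[F] V) = b.coord 3 := by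
      apply LinearMap.ext
      intro x
      simp only [LinearMap.comp_apply, LinearEquiv.coe_coe]
      rw [hsymm, map_sub, map_smul, c2w1]
      simp
    have hc1g : b.coord 2 ∘ₗ ((tv (b 2) (b.coord 3)).symm : V →ₗ[F] V)
        = b.coord 2 - b.coord 3 := by
      apply LinearMap.ext
      intro x
      simp only [LinearMap.comp_apply, LinearEquiv.coe_coe, LinearMap.sub_apply]
      rw [hsymm, map_sub, map_smul, c1w1]
      simp
    rw [hc2g] at E2
    rw [hc1g, f4_b_sub D ha ⟨c1u, c1v⟩ ⟨c2u, c2v⟩] at E1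
    have e2 := LinearMap.congr_fun E2 (b 3)
    have e1 := LinearMap.congr_fun E1 (b 2)
    simp only [LinearMap.add_apply, LinearMap.smul_apply, LinearMap.comp_apply,
      LinearEquiv.coe_coe, LinearMap.sub_apply, hsymm, map_sub, map_smul, c2w1, c2w2, c1w1,
      smul_eq_mul, mul_zero, mul_one, one_mul, zero_mul, sub_zero, one_smul, zero_smul] at e1 e2
    -- e2 : β₂₂ = β₂₂ - β + ε ;  e1 : γ - β = γ + ε
    have h2β : (2 : F) * D.b (b.coord 3) (b 2) = 0 := by
      linear_combination e2 - e1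
    exact (mul_eq_zero.mp h2β).resolve_left h2

end Cfsg.Agent.Helper76.MD
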