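import Mathlib

/-!
# Zassenhaus near-field step (S0686): a minimal non-abelian normal subgroup centralising a maximal
normal abelian subgroup of a regular linear group is `Q₈` or perfect.  Generic lemmas.
-/

set_option autoImplicit false
set_option linter.style.haveILetI false

namespace Cfsg.Agent.Helper76.NearField

/-- a (generalised) quaternion group `QuaternionGroup n` of class at most two has `n ≤ 2`. -/
theorem quat_class_two {n : ℕ}
    (h : ∀ x y c z : QuaternionGroup n, x * y = c * (y * x) → c * z = z * c) :
    n = 1 ∨ n = 2 := by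
  have h1 := h (QuaternionGroup.a 1) (QuaternionGroup.xa 0) (QuaternionGroup.a 2)
    (QuaternionGroup.xa 0)
    (by simp [QuaternionGroup.a_mul_xa, QuaternionGroup.xa_mul_a]; ring)
  simp only [QuaternionGroup.a_mul_xa, QuaternionGroup.xa_mul_a, QuaternionGroup.xa.injEq] at h1
  have h4 : ((4 : ℕ) : ZMod (2 * n)) = 0 := by
    have : (2 : ZMod (2 * n)) + 2 = 0 := by
      calc (2 : ZMod (2 * n)) + 2 = (0 + 2) + 2 := by ring
        _ = (0 - 2) + 2 := by rw [h1]
        _ = 0 := by ring
    push_cast
    rw [← this]; ring
  rw [ZMod.natCast_eq_zero_iff] at h4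
  have hn : n ∣ 2 := Nat.dvd_of_mul_dvd_mul_left (by norm_num : 0 < 2) (by simpa using h4)
  have hle := Nat.le_of_dvd (by norm_num) hn
  interval_cases n
  · simp at hn
  · left; rfl
  · right; rfl

section general

variable {N : Type*} [Group N] [Finite N]

/-- a finite group whose commutators are all central and which is not commutative has a non-abelian
normal (hence characteristic) Sylow subgroup. -/
theorem exists_nonabelian_sylow (hc : ∀ x y z : N, x * y * x⁻¹ * y⁻¹ * z = z * (x * y * x⁻¹ * y⁻¹))
    (hna : ¬ ∀ x y : N, x * y = y * x) :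
    ∃ (r : ℕ) (_ : Fact r.Prime) (P : Sylow r N), (P : Subgroup N).Characteristic ∧
      ¬ ∀ x ∈ (P : Subgroup N), ∀ y ∈ (P : Subgroup N), x * y = y * x := by
  have hnil : Group.IsNilpotent N := by
    refine ⟨⟨2, ?_⟩⟩
    rw [eq_top_iff]
    intro x _
    rw [Subgroup.mem_upperCentralSeries_succ_iff]
    intro y
    rw [Subgroup.upperCentralSeries_one, Subgroup.mem_center_iff]
    intro z
    rw [commutatorElement_def]
    exact (hc x y z).symm
  have htfae := Group.isNilpotent_of_finite_tfae (G := N)
  have hnormal : ∀ (p : ℕ) (_hp : Fact p.Prime) (P : Sylow p N), (P : Subgroup N).Normal :=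
    (htfae.out 0 3).mp hnil
  obtain ⟨e⟩ : Nonempty
      ((∀ p : (Nat.card N).primeFactors, ∀ P : Sylow p N, (↑P : Subgroup N)) ≃* N) :=
    (htfae.out 0 4).mp hnil
  by_contra hcon
  apply hna
  have hall : ∀ (r : ℕ) (hr : Fact r.Prime) (P : Sylow r N),
      ∀ x ∈ (P : Subgroup N), ∀ y ∈ (P : Subgroup N), x * y = y * x := by
    intro r hr P
    by_contra h
    apply hcon
    haveI := hnormal r hr P
    exact ⟨r, hr, P, Sylow.characteristic_of_normal P (hnormal r hr P), h⟩
  intro a b
  have hab : e.symm a * e.symm b = e.symm b * e.symm a := by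
    funext p P
    have hp : Fact (p : ℕ).Prime := ⟨Nat.prime_of_mem_primeFactors p.2⟩
    apply Subtype.ext
    exact hall p hp P _ (e.symm a p P).2 _ (e.symm b p P).2
  have := congrArg e hab
  simpa using this

end general

end Cfsg.Agent.Helper76.NearField
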