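import Mathlib
import Cfsg.Agent.S0690
import Cfsg.Agent.Lib.Helper56.FrobComplC
import Cfsg.Agent.Lib.Helper76.NearFieldA

/-!
# Zassenhaus near-field step (S0686): core theorem.
-/

set_option autoImplicit false
set_option linter.style.haveILetI false

namespace Cfsg.Agent.Helper76.NearField

open Subgroup

theorem minimal_nonabelian_core {p : ℕ} [Fact p.Prime] {V : Type*} [AddCommGroup V]
    [Module (ZMod p) V] [Finite V] (H : Subgroup (V ≃ₗ[ZMod p] V))
    (hreg : ∀ v w : V, v ≠ 0 → w ≠ 0 → ∃! h : H, (h : V ≃ₗ[ZMod p] V) v = w)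
    (A : Subgroup H) (hAn : A.Normal) (hAc : IsMulCommutative A)
    (hAmax : ∀ B : Subgroup H, B.Normal → IsMulCommutative B → A ≤ B → B = A)
    (N : Subgroup H) (hNn : N.Normal) (hNle : N ≤ Subgroup.centralizer (A : Set H))
    (hNna : ¬ IsMulCommutative N)
    (hNmin : ∀ M : Subgroup H, M.Normal → M ≤ N → ¬ IsMulCommutative M → M = N) :
    Nonempty (N ≃* QuaternionGroup 2) ∨
      Nonempty (N ≃* Matrix.SpecialLinearGroup (Fin 2) (ZMod 5)) := by
  classical
  haveI : Finite (V ≃ₗ[ZMod p] V) :=
    Finite.of_injective (fun f : V ≃ₗ[ZMod p] V => (f : V → V))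
      (fun f g h => DFunLike.coe_injective h)
  haveI := hNn
  haveI := hAn
  -- semiregularity
  have hsemi : ∀ (h : H) (v : V), v ≠ 0 → (h : V ≃ₗ[ZMod p] V) v = v → h = 1 := by
    intro h v hv hfix
    obtain ⟨h0, -, huniq⟩ := hreg v v hv hv
    rw [huniq h hfix, huniq 1 (by simp)]
  -- `N` is not commutative, elementwise
  have hna' : ¬ ∀ x y : N, x * y = y * x := by
    intro h
    exact hNna ⟨⟨h⟩⟩
  haveI : Nontrivial V := by
    by_contra hnt
    rw [not_nontrivial_iff_subsingleton] at hnt
    apply hna'
    intro a b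
    have : ∀ a b : N, a = b := fun a b =>
      Subtype.ext (Subtype.ext (LinearEquiv.ext fun v => Subsingleton.elim _ _))
    rw [this a b]
  -- the derived subgroup of `N`, inside `H`
  let D' : Subgroup H := (commutator N).map N.subtype
  have hD'n : D'.Normal := ConjAct.normal_of_characteristic_of_normal
  have hD'N : D' ≤ N := Subgroup.map_subtype_le _
  by_cases hD : IsMulCommutative D'
  · -- solvable case
    left
    have hD'A : D' ≤ A := by
      have hB : IsMulCommutative (A ⊔ D' : Subgroup H) := by
        rw [← le_centralizer_iff_isMulCommutative]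
        have hAA : A ≤ centralizer (A : Set H) := le_centralizer_iff_isMulCommutative.mpr hAc
        have hDD : D' ≤ centralizer (D' : Set H) := le_centralizer_iff_isMulCommutative.mpr hD
        have hDA : D' ≤ centralizer (A : Set H) := hD'N.trans hNle
        have hAD : A ≤ centralizer (D' : Set H) := le_centralizer_iff.mp hDA
        apply sup_le
        · rw [le_centralizer_iff]
          exact sup_le hAA hDA
        · rw [le_centralizer_iff]
          exact sup_le hAD hDD
      have := hAmax (A ⊔ D') inferInstance hB le_sup_left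
      rw [← this]
      exact le_sup_right
    have hc : ∀ x y z : N, x * y * x⁻¹ * y⁻¹ * z = z * (x * y * x⁻¹ * y⁻¹) := by
      intro x y z
      have hcm : x * y * x⁻¹ * y⁻¹ ∈ commutator N := by
        rw [commutator_def, ← commutatorElement_def]
        exact Subgroup.commutator_mem_commutator (Subgroup.mem_top x) (Subgroup.mem_top y)
      have hcA : ((x * y * x⁻¹ * y⁻¹ : N) : H) ∈ A := hD'A ⟨_, hcm, rfl⟩
      have hz := (Subgroup.mem_centralizer_iff.mp (hNle z.2)) _ hcA
      apply Subtype.ext
      exact hz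
    obtain ⟨r, hr, P, hPchar, hPna⟩ := exists_nonabelian_sylow hc hna'
    haveI := hPchar
    let P' : Subgroup H := (P : Subgroup N).map N.subtype
    have hP'n : P'.Normal := ConjAct.normal_of_characteristic_of_normal
    have hP'N : P' ≤ N := Subgroup.map_subtype_le _
    have hP'na : ¬ IsMulCommutative P' := by
      intro hcomm
      apply hPna
      intro x hx y hy
      have h1 : (⟨(x : H), ⟨x, hx, rfl⟩⟩ : P') * ⟨(y : H), ⟨y, hy, rfl⟩⟩ =
          ⟨(y : H), ⟨y, hy, rfl⟩⟩ * ⟨(x : H), ⟨x, hx, rfl⟩⟩ := hcomm.is_comm.comm _ _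
      have h2 : (x : H) * (y : H) = (y : H) * (x : H) := congrArg Subtype.val h1
      exact Subtype.ext h2
    have hP'eq : P' = N := hNmin P' hP'n hP'N hP'na
    have hPtop : (P : Subgroup N) = ⊤ := by
      rw [eq_top_iff]
      intro x _
      have hx : (x : H) ∈ P' := by rw [hP'eq]; exact x.2
      obtain ⟨y, hy, hyx⟩ := hx
      have : y = x := Subtype.ext hyx
      rwa [← this]
    -- the representation of `N`
    let ρ : N →* (V ≃ₗ[ZMod p] V) := H.subtype.comp N.subtype
    have hsr : ∀ v : V, v ≠ 0 → ∀ g : N, ρ g v = v → g = 1 := by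
      intro v hv g hg
      have := hsemi (g : H) v hv hg
      exact Subtype.ext this
    haveI : Finite N := inferInstance
    have eN : (P : Subgroup N) ≃* N := (MulEquiv.subgroupCongr hPtop).trans Subgroup.topEquiv
    rcases Cfsg.Agent.Helper56.FC.sr_pgroup ρ hsr r (P : Subgroup N) P.isPGroup' with hcyc | ⟨n, ⟨e⟩⟩
    · exfalso
      apply hPna
      intro x hx y hy
      obtain ⟨g, hg⟩ := hcyc.exists_generator
      obtain ⟨i, hi⟩ := Subgroup.mem_zpowers_iff.mp (hg ⟨x, hx⟩)
      obtain ⟨j, hj⟩ := Subgroup.mem_zpowers_iff.mp (hg ⟨y, hy⟩)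
      have : (⟨x, hx⟩ : (P : Subgroup N)) * ⟨y, hy⟩ = ⟨y, hy⟩ * ⟨x, hx⟩ := by
        rw [← hi, ← hj, ← zpow_add, ← zpow_add, add_comm]
      exact congrArg Subtype.val this
    · have hq : ∀ x y c z : QuaternionGroup n, x * y = c * (y * x) → c * z = z * c := by
        intro x y c z hxy
        have h1 : e.symm x * e.symm y = e.symm c * (e.symm y * e.symm x) := by
          rw [← map_mul, ← map_mul, ← map_mul, hxy]
        have h2 : e.symm c = e.symm x * e.symm y * (e.symm x)⁻¹ * (e.symm y)⁻¹ := by
          rw [h1]; group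
        have h3 := hc (e.symm x : N) (e.symm y : N) (e.symm z : N)
        have h4 : e.symm c * e.symm z = e.symm z * e.symm c := by
          rw [h2]
          apply Subtype.ext
          exact h3
        have := congrArg e h4
        simpa using this
      rcases quat_class_two hq with rfl | rfl
      · exfalso
        apply hPna
        intro x hx y hy
        obtain ⟨g, hg⟩ := QuaternionGroup.quaternionGroup_one_isCyclic.exists_generator
        obtain ⟨i, hi⟩ := Subgroup.mem_zpowers_iff.mp (hg (e ⟨x, hx⟩))
        obtain ⟨j, hj⟩ := Subgroup.mem_zpowers_iff.mp (hg (e ⟨y, hy⟩))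
        have h1 : e ⟨x, hx⟩ * e ⟨y, hy⟩ = e ⟨y, hy⟩ * e ⟨x, hx⟩ := by
          rw [← hi, ← hj, ← zpow_add, ← zpow_add, add_comm]
        have h2 : (⟨x, hx⟩ : (P : Subgroup N)) * ⟨y, hy⟩ = ⟨y, hy⟩ * ⟨x, hx⟩ := by
          apply e.injective
          rw [map_mul, map_mul, h1]
        exact congrArg Subtype.val h2
      · exact ⟨eN.symm.trans e⟩
  · -- perfect case
    right
    have hD'eq : D' = N := hNmin D' hD'n hD'N hD
    have hperfN : commutator N = ⊤ := by
      rw [eq_top_iff]
      intro x _
      have hx : (x : H) ∈ D' := by rw [hD'eq]; exact x.2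
      obtain ⟨y, hy, hyx⟩ := hx
      have : y = x := Subtype.ext hyx
      rwa [← this]
    let φ : N →* MulAut (Multiplicative V) :=
      { toFun := fun g => AddEquiv.toMultiplicative (((g : H) : V ≃ₗ[ZMod p] V).toAddEquiv)
        map_one' := by ext x; rfl
        map_mul' := fun a b => by ext x; rfl }
    have hφ : ∀ (g : N) (v : V), φ g (Multiplicative.ofAdd v) =
        Multiplicative.ofAdd (((g : H) : V ≃ₗ[ZMod p] V) v) := fun g v => rfl
    have hφinj : Function.Injective φ := by
      intro a b hab
      apply Subtype.ext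
      apply Subtype.ext
      apply LinearEquiv.ext
      intro v
      have := congrArg (fun f => f (Multiplicative.ofAdd v)) hab
      simp only [hφ] at this
      exact Multiplicative.ofAdd.injective this
    let G : Subgroup (MulAut (Multiplicative V)) := φ.range
    let eG : N ≃* G := MonoidHom.ofInjective hφinj
    have hfpf : ∀ ψ ∈ G, ψ ≠ 1 → ∀ k : Multiplicative V, ψ k = k → k = 1 := by
      rintro ψ ⟨g, rfl⟩ hψ k hk
      by_contra hk1
      apply hψ
      have hv : Multiplicative.toAdd k ≠ 0 := fun h0 => hk1 (by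
        rw [← ofAdd_toAdd k, h0]; rfl)
      have hfix : ((g : H) : V ≃ₗ[ZMod p] V) (Multiplicative.toAdd k) = Multiplicative.toAdd k := by
        have := hφ g (Multiplicative.toAdd k)
        rw [ofAdd_toAdd, hk] at this
        have h2 := congrArg Multiplicative.toAdd this
        simpa using h2.symm
      have hg1 : (g : H) = 1 := hsemi (g : H) _ hv hfix
      have : g = 1 := Subtype.ext hg1
      rw [this, map_one]
    have hperf : commutator G = ⊤ := by
      rw [commutator_def]
      have h1 : (⊤ : Subgroup G) = (⊤ : Subgroup N).map eG.toMonoidHom :=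
        (Subgroup.map_top_of_surjective eG.toMonoidHom eG.surjective).symm
      rw [h1, ← Subgroup.map_commutator, ← commutator_def, hperfN]
    have hne : G ≠ ⊥ := by
      intro hbot
      apply hna'
      have hall : ∀ a : N, a = 1 := by
        intro a
        have h1 : φ a ∈ G := ⟨a, rfl⟩
        have h2 : φ a ∈ (⊥ : Subgroup (MulAut (Multiplicative V))) := hbot ▸ h1
        rw [Subgroup.mem_bot] at h2
        exact hφinj (by rw [h2, map_one])
      intro a b
      rw [hall a, hall b]
    obtain ⟨e⟩ := Cfsg.Agent.S0690.result G hfpf hperf hne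
    exact ⟨eG.trans e⟩

end Cfsg.Agent.Helper76.NearField
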