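import Mathlib

/-!
# O459648 server (helper53, S1022), piece (B3p) `order_pow`
-/

set_option autoImplicit false

namespace Cfsg.Agent.Helper76.O459648

/-- (B3p) `Z` central of order 19 in `H` of order `19 * 2 ^ k`: the Sylow 2-subgroup is normal,
so it is the only subgroup of its order -/
theorem order_pow {H : Type*} [Group H] [Finite H] (k : ℕ) (hH : Nat.card H = 19 * 2 ^ k)
    (Z : Subgroup H) (hZ : Nat.card Z = 19) (hZc : Z ≤ Subgroup.center H) :
    ∃ W : Subgroup H, Nat.card W = 2 ^ k ∧ ∀ W' : Subgroup H, Nat.card W' = 2 ^ k → W' = W := by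
  classical
  have : Fact (Nat.Prime 2) := ⟨Nat.prime_two⟩
  obtain ⟨W⟩ : Nonempty (Sylow 2 H) := inferInstance
  have hfac : (Nat.card H).factorization 2 = k := by
    rw [hH, Nat.factorization_mul (by norm_num) (by positivity), Nat.factorization_pow]
    simp [Nat.factorization_eq_zero_of_not_dvd, Nat.Prime.factorization_self Nat.prime_two]
  have hW : Nat.card (W : Subgroup H) = 2 ^ k := by
    rw [Sylow.card_eq_multiplicity, hfac]
  have htop : Z ⊔ (W : Subgroup H) = ⊤ := by
    apply Subgroup.eq_top_of_card_eq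
    have h1 : 19 ∣ Nat.card ↥(Z ⊔ (W : Subgroup H)) := hZ ▸ Subgroup.card_dvd_of_le le_sup_left
    have h2 : 2 ^ k ∣ Nat.card ↥(Z ⊔ (W : Subgroup H)) :=
      hW ▸ Subgroup.card_dvd_of_le le_sup_right
    have h3 : 19 * 2 ^ k ∣ Nat.card ↥(Z ⊔ (W : Subgroup H)) :=
      Nat.Coprime.mul_dvd_of_dvd_of_dvd (Nat.Coprime.pow_right k (by norm_num)) h1 h2
    have h4 : Nat.card ↥(Z ⊔ (W : Subgroup H)) ∣ Nat.card H := Subgroup.card_subgroup_dvd_card _
    rw [hH] at h4 ⊢
    exact Nat.dvd_antisymm h4 h3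
  have hnorm : (W : Subgroup H).Normal := by
    rw [← Subgroup.normalizer_eq_top_iff]
    apply top_le_iff.mp
    rw [← htop]
    apply sup_le
    · exact hZc.trans (Subgroup.center_le_normalizer _)
    · exact Subgroup.le_normalizer
  refine ⟨W, hW, ?_⟩
  intro W' hW'
  have hp : IsPGroup 2 W' := IsPGroup.of_card hW'
  obtain ⟨Q, hQ⟩ := hp.exists_le_sylow
  have := hnorm
  have : Subsingleton (Sylow 2 H) := (Sylow.unique_of_normal W hnorm).instSubsingleton
  have hQW : Q = W := Subsingleton.elim _ _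
  rw [hQW] at hQ
  exact Subgroup.eq_of_le_of_card_ge hQ (by rw [hW, hW'])

end Cfsg.Agent.Helper76.O459648
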