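import Cfsg.Agent.Lib.Helper93.OR0

/-!
# OR3 piece (C2) `schur_blk` (helper76, for helper93's OR3 server, S2459)
-/

set_option autoImplicit false

namespace Cfsg.Agent.Helper76.OR

open Matrix Cfsg.Agent.Helper93.OR

local notation "SL3" => Matrix.SpecialLinearGroup (Fin 3)

theorem h76_blk_mul {F : Type*} [Field F] (A B : Matrix (Fin 2) (Fin 2) F) :
    blk A * blk B = blk (A * B) := by
  ext i j
  fin_cases i <;> fin_cases j <;>
    simp [blk, Matrix.mul_apply, Fin.sum_univ_three, Fin.sum_univ_two]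

theorem h76_blk_one {F : Type*} [Field F] : blk (1 : Matrix (Fin 2) (Fin 2) F) = 1 := by
  ext i j
  fin_cases i <;> fin_cases j <;> simp [blk]

theorem h76_blk_entries {F : Type*} [Field F] (T : Matrix (Fin 2) (Fin 2) F) :
    blk T 0 0 = 1 ∧ blk T 0 1 = 0 ∧ blk T 0 2 = 0 ∧ blk T 1 0 = 0 ∧ blk T 1 1 = T 0 0 ∧
    blk T 1 2 = T 0 1 ∧ blk T 2 0 = 0 ∧ blk T 2 1 = T 1 0 ∧ blk T 2 2 = T 1 1 := by
  simp [blk]

theorem h76_schur_blk_mul {F : Type*} [Field F] (M : Matrix (Fin 3) (Fin 3) F) (hM : M 0 0 ≠ 0)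
    (S T : Matrix (Fin 2) (Fin 2) F) :
    (blk S * M * blk T) 0 0 = M 0 0 ∧ schur (blk S * M * blk T) = S * schur M * T := by
  obtain ⟨s00, s01, s02, s10, s11, s12, s20, s21, s22⟩ := h76_blk_entries S
  obtain ⟨t00, t01, t02, t10, t11, t12, t20, t21, t22⟩ := h76_blk_entries T
  have h00 : (blk S * M * blk T) 0 0 = M 0 0 := by
    simp only [Matrix.mul_apply, Fin.sum_univ_three, s00, s01, s02, t00, t10, t20]
    ring
  refine ⟨h00, ?_⟩
  ext i j
  fin_cases i <;> fin_cases j <;>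
    (simp only [schur, h00]
     simp only [Matrix.mul_apply, Fin.sum_univ_three, Fin.sum_univ_two, Fin.zero_eta, Fin.mk_one,
       Fin.succ_zero_eq_one, Fin.succ_one_eq_two, schur,
       s00, s01, s02, s10, s11, s12, s20, s21, s22, t00, t01, t02, t10, t11, t12, t20, t21, t22]
     field_simp
     ring)

/-- (C2) conjugating by `1 ⊕ T` conjugates the Schur complement by `T`. -/
theorem schur_blk {F : Type*} [Field F] (M : Matrix (Fin 3) (Fin 3) F) (hM : M 0 0 ≠ 0)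
    (T : GL (Fin 2) F) :
    ∃ P : GL (Fin 3) F, ((P⁻¹ : GL (Fin 3) F).1 * M * P.1) 0 0 = M 0 0 ∧
      schur ((P⁻¹ : GL (Fin 3) F).1 * M * P.1) = (T⁻¹ : GL (Fin 2) F).1 * schur M * T.1 := by
  have h1 : blk T.1 * blk (T⁻¹ : GL (Fin 2) F).1 = 1 := by
    rw [h76_blk_mul]
    have : T.1 * (T⁻¹ : GL (Fin 2) F).1 = 1 := T.mul_inv
    rw [this, h76_blk_one]
  have h2 : blk (T⁻¹ : GL (Fin 2) F).1 * blk T.1 = 1 := by
    rw [h76_blk_mul]
    have : (T⁻¹ : GL (Fin 2) F).1 * T.1 = 1 := T.inv_mul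
    rw [this, h76_blk_one]
  refine ⟨⟨blk T.1, blk (T⁻¹ : GL (Fin 2) F).1, h1, h2⟩, ?_⟩
  exact h76_schur_blk_mul M hM (T⁻¹ : GL (Fin 2) F).1 T.1

end Cfsg.Agent.Helper76.OR
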