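import Cfsg.Agent.Lib.Helper93.OR0

/-!
# OR3 piece (DG) `lower_diag` (helper76, for helper93's OR3 server, S2459)
-/

set_option autoImplicit false

namespace Cfsg.Agent.Helper76.OR

open Matrix Cfsg.Agent.Helper93.OR

local notation "SL3" => Matrix.SpecialLinearGroup (Fin 3)

/-- (DG) a lower triangular matrix with distinct diagonal entries is diagonalisable. -/
theorem lower_diag {F : Type*} [Field F] (L : Matrix (Fin 3) (Fin 3) F) (β : Fin 3 → F)
    (hβ : Function.Injective β) (hL : ∀ i j, i < j → L i j = 0) (hd : ∀ i, L i i = β i) :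
    ∃ Q : GL (Fin 3) F, L = Q.1 * Matrix.diagonal β * (Q⁻¹ : GL (Fin 3) F).1 := by
  have h01 : β 0 - β 1 ≠ 0 := sub_ne_zero.mpr (fun h => by have := hβ h; exact absurd this (by decide))
  have h02 : β 0 - β 2 ≠ 0 := sub_ne_zero.mpr (fun h => by have := hβ h; exact absurd this (by decide))
  have h12 : β 1 - β 2 ≠ 0 := sub_ne_zero.mpr (fun h => by have := hβ h; exact absurd this (by decide))
  set x : F := L 1 0 / (β 0 - β 1) with hx
  set y : F := L 2 1 / (β 1 - β 2) with hy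
  set z : F := (L 2 0 + L 2 1 * x) / (β 0 - β 2) with hz
  set Qm : Matrix (Fin 3) (Fin 3) F := !![1, 0, 0; x, 1, 0; z, y, 1] with hQm
  have hdet : Qm.det ≠ 0 := by
    rw [hQm, Matrix.det_fin_three]
    simp
  set Q : GL (Fin 3) F := Matrix.GeneralLinearGroup.mkOfDetNeZero Qm hdet with hQ
  have hQ1 : Q.1 = Qm := rfl
  have hLe : L = !![β 0, 0, 0; L 1 0, β 1, 0; L 2 0, L 2 1, β 2] := by
    ext i j
    fin_cases i <;> fin_cases j <;> simp [← hd] <;> apply hL <;> decide
  have hcomm : L * Qm = Qm * Matrix.diagonal β := by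
    rw [hLe, hQm]
    ext i j
    fin_cases i <;> fin_cases j <;>
      simp [Matrix.mul_apply, Fin.sum_univ_three, Matrix.diagonal_apply] <;>
      (rw [hx] at * ; try rw [hy] at *; try rw [hz] at *) <;> field_simp <;> ring
  refine ⟨Q, ?_⟩
  have hinv : Q.1 * (Q⁻¹ : GL (Fin 3) F).1 = 1 := by
    have := Q.mul_inv
    exact this
  calc L = L * (Q.1 * (Q⁻¹ : GL (Fin 3) F).1) := by rw [hinv, mul_one]
    _ = (L * Q.1) * (Q⁻¹ : GL (Fin 3) F).1 := by rw [mul_assoc]
    _ = Q.1 * Matrix.diagonal β * (Q⁻¹ : GL (Fin 3) F).1 := by rw [hQ1, hcomm]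

end Cfsg.Agent.Helper76.OR
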