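import Cfsg.Agent.Lib.Helper93.OR0

/-!
# OR3 piece (DG') `upper_diag` (helper76, for helper93's OR3 server, S2459)
-/

set_option autoImplicit false

namespace Cfsg.Agent.Helper76.OR

open Matrix Cfsg.Agent.Helper93.OR

local notation "SL3" => Matrix.SpecialLinearGroup (Fin 3)

/-- (DG') an upper triangular matrix with distinct diagonal entries is diagonalisable. -/
theorem upper_diag {F : Type*} [Field F] (U : Matrix (Fin 3) (Fin 3) F) (γ : Fin 3 → F)
    (hγ : Function.Injective γ) (hU : ∀ i j, j < i → U i j = 0) (hd : ∀ i, U i i = γ i) :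
    ∃ Q : GL (Fin 3) F, U = Q.1 * Matrix.diagonal γ * (Q⁻¹ : GL (Fin 3) F).1 := by
  have h10 : γ 1 - γ 0 ≠ 0 := sub_ne_zero.mpr (fun h => by have := hγ h; exact absurd this (by decide))
  have h20 : γ 2 - γ 0 ≠ 0 := sub_ne_zero.mpr (fun h => by have := hγ h; exact absurd this (by decide))
  have h21 : γ 2 - γ 1 ≠ 0 := sub_ne_zero.mpr (fun h => by have := hγ h; exact absurd this (by decide))
  set x : F := U 0 1 / (γ 1 - γ 0) with hx
  set y : F := U 1 2 / (γ 2 - γ 1) with hy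
  set z : F := (U 0 1 * y + U 0 2) / (γ 2 - γ 0) with hz
  set Qm : Matrix (Fin 3) (Fin 3) F := !![1, x, z; 0, 1, y; 0, 0, 1] with hQm
  have hdet : Qm.det ≠ 0 := by
    rw [hQm, Matrix.det_fin_three]
    simp
  set Q : GL (Fin 3) F := Matrix.GeneralLinearGroup.mkOfDetNeZero Qm hdet with hQ
  have hQ1 : Q.1 = Qm := rfl
  have hUe : U = !![γ 0, U 0 1, U 0 2; 0, γ 1, U 1 2; 0, 0, γ 2] := by
    ext i j
    fin_cases i <;> fin_cases j <;> simp [← hd] <;> apply hU <;> decide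
  have hcomm : U * Qm = Qm * Matrix.diagonal γ := by
    rw [hUe, hQm]
    ext i j
    fin_cases i <;> fin_cases j <;>
      simp [Matrix.mul_apply, Fin.sum_univ_three, Matrix.diagonal_apply] <;>
      (rw [hx] at * ; try rw [hy] at *; try rw [hz] at *) <;> field_simp <;> ring
  refine ⟨Q, ?_⟩
  have hinv : Q.1 * (Q⁻¹ : GL (Fin 3) F).1 = 1 := by
    have := Q.mul_inv
    exact this
  calc U = U * (Q.1 * (Q⁻¹ : GL (Fin 3) F).1) := by rw [hinv, mul_one]
    _ = (U * Q.1) * (Q⁻¹ : GL (Fin 3) F).1 := by rw [mul_assoc]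
    _ = Q.1 * Matrix.diagonal γ * (Q⁻¹ : GL (Fin 3) F).1 := by rw [hQ1, hcomm]

end Cfsg.Agent.Helper76.OR
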