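import Cfsg.Agent.Lib.Helper76.Ord7920B

/-!
# Order 7920 (S2490, helper83's server), piece (C)

`Cfsg.Agent.Helper76.Ord7920.conn_twelve` lives in `Ord7920B.lean` (shared core with `conn_one`);
this module only re-exports it by import.
-/
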