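import Mathlib

/-!
# The number of `p`-regular elements of a finite group is prime to `p` (helper76)
-/

set_option autoImplicit false
set_option linter.unusedSectionVars false
set_option linter.style.haveILetI false

namespace Cfsg.Agent.Helper76.PRegCount

section central

variable {X : Type*} [Group X] [Finite X] {p : ℕ} [Fact p.Prime]

/-- If a Sylow `p`-subgroup is central, the `p`-regular elements form the kernel of the transfer,
whose order is prime to `p`. -/
theorem not_dvd_card_pRegular_of_central (Q : Sylow p X)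
    (hQ : (Q : Subgroup X) ≤ Subgroup.center X) :
    ¬ p ∣ Nat.card {x : X // ¬ p ∣ orderOf x} := by
  classical
  have hp : p.Prime := Fact.out
  have hP : Subgroup.normalizer ((Q : Subgroup X) : Set X) ≤
      Subgroup.centralizer ((Q : Subgroup X) : Set X) := by
    intro n _
    rw [Subgroup.mem_centralizer_iff]
    intro h hh
    exact ((Subgroup.mem_center_iff.mp (hQ hh)) n).symm
  have hker := MonoidHom.not_dvd_card_ker_transferSylow Q hP
  have hiff : ∀ x : X, ¬ p ∣ orderOf x ↔ x ∈ (MonoidHom.transferSylow Q hP).ker := by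
    intro x
    constructor
    · intro hx
      rw [MonoidHom.mem_ker]
      obtain ⟨k, hk⟩ := (IsPGroup.iff_orderOf.mp Q.2) (MonoidHom.transferSylow Q hP x)
      have hdvd : orderOf (MonoidHom.transferSylow Q hP x) ∣ orderOf x := orderOf_map_dvd _ x
      rcases Nat.eq_zero_or_pos k with h0 | hpos
      · rw [h0, pow_zero] at hk
        exact orderOf_eq_one_iff.mp hk
      · exfalso
        apply hx
        refine dvd_trans ?_ hdvd
        rw [hk]
        exact dvd_pow_self p hpos.ne'
    · intro hx hdiv
      apply hker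
      have h1 : orderOf (⟨x, hx⟩ : (MonoidHom.transferSylow Q hP).ker) = orderOf x :=
        Subgroup.orderOf_mk x hx
      have h2 := orderOf_dvd_natCard (⟨x, hx⟩ : (MonoidHom.transferSylow Q hP).ker)
      rw [h1] at h2
      exact dvd_trans hdiv h2
  have hcard : Nat.card {x : X // ¬ p ∣ orderOf x} =
      Nat.card (MonoidHom.transferSylow Q hP).ker :=
    Nat.card_congr (Equiv.subtypeEquivRight hiff)
  rw [hcard]
  exact hker

end central

section general

variable {X : Type*} [Group X] [Finite X] {p : ℕ} [Fact p.Prime]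

/-- conjugation action of a subgroup on the set of `p`-regular elements -/
@[reducible] noncomputable def conjAction (P : Subgroup X) : MulAction P {x : X // ¬ p ∣ orderOf x} where
  smul g x := ⟨(g : X) * (x : X) * (g : X)⁻¹, by
    have h : SemiconjBy (g : X) (x : X) ((g : X) * (x : X) * (g : X)⁻¹) := by
      unfold SemiconjBy
      group
    rw [← h.orderOf_eq]
    exact x.2⟩
  one_smul x := by
    apply Subtype.ext
    show ((1 : P) : X) * (x : X) * ((1 : P) : X)⁻¹ = x
    simp
  mul_smul g h x := by
    apply Subtype.ext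
    show ((g * h : P) : X) * (x : X) * ((g * h : P) : X)⁻¹ =
      (g : X) * ((h : X) * (x : X) * (h : X)⁻¹) * (g : X)⁻¹
    rw [Subgroup.coe_mul]
    group

/-- The number of `p`-regular elements of a finite group is not divisible by `p`. -/
theorem not_dvd_card_pRegular (X : Type*) [Group X] [Finite X] (p : ℕ) [Fact p.Prime] :
    ¬ p ∣ Nat.card {x : X // ¬ p ∣ orderOf x} := by
  classical
  have hp : p.Prime := Fact.out
  obtain ⟨P⟩ : Nonempty (Sylow p X) := inferInstance
  letI act : MulAction (P : Subgroup X) {x : X // ¬ p ∣ orderOf x} := conjAction (P : Subgroup X)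
  have hmod := P.2.card_modEq_card_fixedPoints {x : X // ¬ p ∣ orderOf x}
  let Y : Subgroup X := Subgroup.centralizer ((P : Subgroup X) : Set X)
  -- fixed points = `p`-regular elements of `Y`
  have hfix : Nat.card (MulAction.fixedPoints (P : Subgroup X) {x : X // ¬ p ∣ orderOf x}) =
      Nat.card {y : Y // ¬ p ∣ orderOf y} := by
    refine Nat.card_congr ⟨fun s => ⟨⟨((s : {x : X // ¬ p ∣ orderOf x}) : X), ?_⟩, ?_⟩,
      fun y => ⟨⟨((y : Y) : X), ?_⟩, ?_⟩, ?_, ?_⟩
    · -- membership in the centralizer
      rw [Subgroup.mem_centralizer_iff]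
      intro g hg
      have h1 := s.2 ⟨g, hg⟩
      have h2 : g * ((s : {x : X // ¬ p ∣ orderOf x}) : X) * g⁻¹ =
          ((s : {x : X // ¬ p ∣ orderOf x}) : X) := congrArg Subtype.val h1
      calc g * ((s : {x : X // ¬ p ∣ orderOf x}) : X)
          = (g * ((s : {x : X // ¬ p ∣ orderOf x}) : X) * g⁻¹) * g := by group
        _ = ((s : {x : X // ¬ p ∣ orderOf x}) : X) * g := by rw [h2]
    · rw [Subgroup.orderOf_mk]
      exact (s : {x : X // ¬ p ∣ orderOf x}).2
    · have := y.2
      rwa [← Subgroup.orderOf_coe] at this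
    · intro g
      apply Subtype.ext
      show (g : X) * ((y : Y) : X) * (g : X)⁻¹ = ((y : Y) : X)
      have h1 := (Subgroup.mem_centralizer_iff.mp (y : Y).2) (g : X) g.2
      rw [h1]
      group
    · intro s
      rfl
    · intro y
      rfl
  -- `Y` has a central Sylow subgroup
  obtain ⟨Q⟩ : Nonempty (Sylow p Y) := inferInstance
  have hQc : (Q : Subgroup Y) ≤ Subgroup.center Y := by
    intro q hq
    have hQ' : IsPGroup p ((Q : Subgroup Y).map Y.subtype) := Q.2.map _
    have hle : (Q : Subgroup Y).map Y.subtype ≤ Subgroup.normalizer ((P : Subgroup X) : Set X) := by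
      rintro _ ⟨y, _, rfl⟩
      exact Subgroup.centralizer_le_normalizer _ y.2
    have hinf := hQ'.inf_normalizer_sylow P
    have hqP : (q : X) ∈ (P : Subgroup X) := by
      have h1 : (q : X) ∈ (Q : Subgroup Y).map Y.subtype := ⟨q, hq, rfl⟩
      have h2 : (q : X) ∈ (Q : Subgroup Y).map Y.subtype ⊓
          Subgroup.normalizer ((P : Subgroup X) : Set X) := ⟨h1, hle h1⟩
      have h3 : (q : X) ∈ (Q : Subgroup Y).map Y.subtype ⊓ (P : Subgroup X) := by
        rw [← hinf]
        exact h2
      exact h3.2
    rw [Subgroup.mem_center_iff]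
    intro y
    apply Subtype.ext
    rw [Subgroup.coe_mul, Subgroup.coe_mul]
    exact ((Subgroup.mem_centralizer_iff.mp y.2) (q : X) hqP).symm
  have hY := not_dvd_card_pRegular_of_central Q hQc
  intro hdvd
  apply hY
  rw [← hfix]
  exact (Nat.modEq_zero_iff_dvd.mp ((hmod.symm.trans (Nat.modEq_zero_iff_dvd.mpr hdvd))))

end general

end Cfsg.Agent.Helper76.PRegCount
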