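import Mathlib
import Cfsg.Prelude.Def_Characters
import Cfsg.Agent.Lib.Helper78.ProdIrr
import Cfsg.Agent.Lib.Helper81.CharSylInd

/-!
# Irreducible characters of a finite power `ι → M` (helper76)

* `irr_of_subsingleton` : the irreducible character of a trivial group is `1`.
* `exists_pi_decomp` : every irreducible character of `ι → M` is a product `∏ i, φ i (f i)`.
* `pi_indFun` : the product of induced functions is induced from the product subgroup.
-/

set_option autoImplicit false
set_option linter.unusedSectionVars false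
set_option linter.style.haveILetI false

namespace Cfsg.Agent.Helper76.PiIrr

open Cfsg
open scoped ComplexConjugate

universe u v

section triv

theorem irr_of_subsingleton {G : Type u} [Group G] [Subsingleton G] {θ : G → ℂ}
    (hθ : IsIrrCharacter G θ) (g : G) : θ g = 1 := by
  haveI : Fintype G := Fintype.ofFinite G
  obtain ⟨d, hd, hdvd, hpos⟩ := Cfsg.Agent.Helper81.irr_degree_dvd_card hθ
  have hc : Nat.card G = 1 := Nat.card_eq_one_iff_unique.mpr ⟨inferInstance, ⟨1⟩⟩
  rw [hc] at hdvd
  have hd1 : d = 1 := Nat.dvd_one.mp hdvd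
  rw [Subsingleton.elim g 1, hd, hd1]
  simp

end triv

section pidecomp

variable {M : Type u} [Group M] [Fintype M]

/-- `Fin.cons` as a homomorphism. -/
def consHom (n : ℕ) : M × (Fin n → M) →* (Fin (n + 1) → M) where
  toFun p := Fin.cons p.1 p.2
  map_one' := by
    funext i
    refine Fin.cases ?_ (fun j => ?_) i <;> simp
  map_mul' a b := by
    funext i
    refine Fin.cases ?_ (fun j => ?_) i <;> simp

theorem consHom_surjective (n : ℕ) : Function.Surjective (consHom (M := M) n) := by
  intro f
  exact ⟨(f 0, Fin.tail f), Fin.cons_self_tail f⟩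

theorem exists_fin_decomp : ∀ (n : ℕ) {θ : (Fin n → M) → ℂ}, IsIrrCharacter (Fin n → M) θ →
    ∃ φ : Fin n → IrrCharacter M, ∀ f : Fin n → M, θ f = ∏ i, (φ i : M → ℂ) (f i) := by
  intro n
  induction n with
  | zero =>
    intro θ hθ
    refine ⟨fun i => i.elim0, fun f => ?_⟩
    rw [irr_of_subsingleton hθ f]
    simp
  | succ n ih =>
    intro θ hθ
    have hΘ := Cfsg.Agent.Helper78.isIrrCharacter_comp_surjective hθ (consHom (M := M) n)
      (consHom_surjective n)
    obtain ⟨ζ, ψ, hζψ⟩ := Cfsg.Agent.Helper78.exists_prod_decomp hΘ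
    obtain ⟨φ', hφ'⟩ := ih ψ.2
    refine ⟨Fin.cons (α := fun _ => IrrCharacter M) ζ φ', fun f => ?_⟩
    have h1 : θ f = (ζ : M → ℂ) (f 0) * (ψ : (Fin n → M) → ℂ) (Fin.tail f) := by
      rw [← hζψ (f 0) (Fin.tail f)]
      change θ f = θ (Fin.cons (f 0) (Fin.tail f))
      rw [Fin.cons_self_tail]
    rw [h1, hφ', Fin.prod_univ_succ]
    simp [Fin.tail]

/-- Reindexing along an equivalence, as a homomorphism. -/
def compHom {ι κ : Type*} (e : ι ≃ κ) : (κ → M) →* (ι → M) where
  toFun g := fun i => g (e i)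
  map_one' := rfl
  map_mul' _ _ := rfl

theorem compHom_surjective {ι κ : Type*} (e : ι ≃ κ) :
    Function.Surjective (compHom (M := M) e) := by
  intro f
  refine ⟨fun j => f (e.symm j), ?_⟩
  funext i
  simp [compHom]

/-- Every irreducible character of a finite power `ι → M` is a product of irreducible
characters of `M`. -/
theorem exists_pi_decomp {ι : Type v} [Fintype ι] {θ : (ι → M) → ℂ}
    (hθ : IsIrrCharacter (ι → M) θ) :
    ∃ φ : ι → IrrCharacter M, ∀ f : ι → M, θ f = ∏ i, (φ i : M → ℂ) (f i) := by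
  classical
  let e : ι ≃ Fin (Fintype.card ι) := Fintype.equivFin ι
  have hθ' := Cfsg.Agent.Helper78.isIrrCharacter_comp_surjective hθ (compHom (M := M) e)
    (compHom_surjective e)
  obtain ⟨φ', hφ'⟩ := exists_fin_decomp _ hθ'
  refine ⟨fun i => φ' (e i), fun f => ?_⟩
  have h1 : θ f = θ (compHom (M := M) e (fun j => f (e.symm j))) := by
    congr 1
    funext i
    simp [compHom]
  rw [h1, hφ']
  rw [← Equiv.prod_comp e (fun j => (φ' j : M → ℂ) (f (e.symm j)))]
  simp

end pidecomp

section piind

variable {M : Type u} [Group M] [Fintype M] {ι : Type v} [Fintype ι] [DecidableEq ι]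

/-- The product function on the product subgroup. -/
noncomputable def piFun (K : ι → Subgroup M) (ν : ∀ i, K i → ℂ) :
    (Subgroup.pi Set.univ K) → ℂ :=
  fun s => ∏ i, ν i ⟨s.1 i, s.2 i (Set.mem_univ i)⟩

theorem piFun_apply (K : ι → Subgroup M) (ν : ∀ i, K i → ℂ) (s : Subgroup.pi Set.univ K) :
    piFun K ν s = ∏ i, ν i ⟨s.1 i, s.2 i (Set.mem_univ i)⟩ := rfl

/-- The product subgroup as a product type. -/
def piSubEquiv (K : ι → Subgroup M) : (Subgroup.pi Set.univ K) ≃ (∀ i, K i) where
  toFun s i := ⟨s.1 i, s.2 i (Set.mem_univ i)⟩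
  invFun t := ⟨fun i => (t i).1, fun i _ => (t i).2⟩
  left_inv _ := rfl
  right_inv _ := rfl

theorem card_pi_sub (K : ι → Subgroup M) :
    Nat.card (Subgroup.pi Set.univ K) = ∏ i, Nat.card (K i) := by
  rw [Nat.card_congr (piSubEquiv K), Nat.card_pi]

theorem extendByZero_pi (K : ι → Subgroup M) (ν : ∀ i, K i → ℂ) (y : ι → M) :
    extendByZero (Subgroup.pi Set.univ K) (piFun K ν) y = ∏ i, extendByZero (K i) (ν i) (y i) := by
  classical
  by_cases hy : y ∈ Subgroup.pi Set.univ K
  · rw [Cfsg.Agent.Helper81.extendByZero_apply_mem _ _ hy, piFun_apply]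
    apply Finset.prod_congr rfl
    intro i _
    rw [Cfsg.Agent.Helper81.extendByZero_apply_mem _ _ (hy i (Set.mem_univ i))]
  · rw [Cfsg.Agent.Helper81.extendByZero_apply_not_mem _ _ hy]
    have : ∃ i, y i ∉ K i := by
      by_contra hcon
      push Not at hcon
      exact hy (fun i _ => hcon i)
    obtain ⟨i, hi⟩ := this
    symm
    apply Finset.prod_eq_zero (Finset.mem_univ i)
    exact Cfsg.Agent.Helper81.extendByZero_apply_not_mem _ _ hi

/-- The product of induced functions is induced from the product subgroup. -/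
theorem pi_indFun (K : ι → Subgroup M) (ν : ∀ i, K i → ℂ) (f : ι → M) :
    indFun (Subgroup.pi Set.univ K) (piFun K ν) f = ∏ i, indFun (K i) (ν i) (f i) := by
  classical
  simp only [Cfsg.Agent.Helper81.indFun_apply]
  rw [Finset.prod_mul_distrib, Finset.prod_univ_sum, Fintype.piFinset_univ, card_pi_sub]
  congr 1
  · push_cast
    rw [Finset.prod_inv_distrib]
  · apply Finset.sum_congr rfl
    intro x _
    rw [extendByZero_pi]
    rfl

/-- The product of linear characters, as a linear character of the product subgroup. -/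
noncomputable def piLin (K : ι → Subgroup M) (lam : ∀ i, K i →* ℂˣ) :
    (Subgroup.pi Set.univ K) →* ℂˣ where
  toFun s := ∏ i, lam i ⟨s.1 i, s.2 i (Set.mem_univ i)⟩
  map_one' := by
    apply Finset.prod_eq_one
    intro i _
    exact map_one (lam i)
  map_mul' s t := by
    rw [← Finset.prod_mul_distrib]
    apply Finset.prod_congr rfl
    intro i _
    rw [← map_mul]
    rfl

theorem piLin_coe (K : ι → Subgroup M) (lam : ∀ i, K i →* ℂˣ) (s : Subgroup.pi Set.univ K) :
    ((piLin K lam s : ℂˣ) : ℂ) = piFun K (fun i h => ((lam i h : ℂˣ) : ℂ)) s := by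
  rw [piFun_apply]
  simp [piLin]

/-- A product of monomial characters of the factors is monomial. -/
theorem monomial_pi (K : ι → Subgroup M) (lam : ∀ i, K i →* ℂˣ) (φ : ι → M → ℂ)
    (hφ : ∀ i, φ i = indFun (K i) (fun h => ((lam i h : ℂˣ) : ℂ))) :
    (fun f : ι → M => ∏ i, φ i (f i)) =
      indFun (Subgroup.pi Set.univ K) (fun s => ((piLin K lam s : ℂˣ) : ℂ)) := by
  funext f
  have h1 : (fun s : Subgroup.pi Set.univ K => ((piLin K lam s : ℂˣ) : ℂ)) =
      piFun K (fun i h => ((lam i h : ℂˣ) : ℂ)) := by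
    funext s
    exact piLin_coe K lam s
  rw [h1, pi_indFun]
  apply Finset.prod_congr rfl
  intro i _
  rw [hφ i]

end piind

end Cfsg.Agent.Helper76.PiIrr
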