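import Mathlib

set_option autoImplicit false
set_option linter.style.haveILetI false
set_option linter.unusedSectionVars false
set_option linter.unusedVariables false

namespace Cfsg.Agent.Helper76.PrimFix

universe u v

section basic
variable {V : Type u} [AddCommGroup V]

theorem end_mul_apply (f g : AddMonoid.End V) (v : V) : (f * g) v = f (g v) := rfl

theorem end_one_apply (v : V) : (1 : AddMonoid.End V) v = v := rfl

theorem end_sum_apply {ι : Type*} (s : Finset ι) (f : ι → AddMonoid.End V) (v : V) :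
    (∑ i ∈ s, f i) v = ∑ i ∈ s, f i v := AddMonoidHom.finsetSum_apply f s v

theorem end_pow_fixed (Z : AddMonoid.End V) {v : V} (hv : Z v = v) (n : ℕ) : (Z ^ n) v = v := by
  induction n with
  | zero => rfl
  | succ n ih => rw [pow_succ, end_mul_apply, hv, ih]

variable (q : ℕ) [hq : Fact q.Prime]

/-- the map `a ↦ Z ^ a` on `ZMod q` -/
def gpow (Z : AddMonoid.End V) (a : ZMod q) : AddMonoid.End V := Z ^ a.val

theorem gpow_zero (Z : AddMonoid.End V) : gpow q Z 0 = 1 := by
  unfold gpow; rw [ZMod.val_zero, pow_zero]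

theorem gpow_add (Z : AddMonoid.End V) (hZ : Z ^ q = 1) (a b : ZMod q) :
    gpow q Z (a + b) = gpow q Z a * gpow q Z b := by
  unfold gpow
  rw [ZMod.val_add, ← pow_add, ← pow_eq_pow_mod _ hZ]

theorem gpow_natCast (Z : AddMonoid.End V) (hZ : Z ^ q = 1) (n : ℕ) :
    gpow q Z (n : ZMod q) = Z ^ n := by
  unfold gpow
  rw [ZMod.val_natCast, ← pow_eq_pow_mod _ hZ]

theorem gpow_one (Z : AddMonoid.End V) (hZ : Z ^ q = 1) : gpow q Z 1 = Z := by
  have := gpow_natCast q Z hZ 1
  rwa [Nat.cast_one, pow_one] at this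

theorem gpow_comm (Z Y : AddMonoid.End V) (h : Y * Z = Z * Y) (a : ZMod q) :
    Y * gpow q Z a = gpow q Z a * Y := by
  unfold gpow
  exact (Commute.pow_right (show Commute Y Z from h) _).eq

theorem gpow_fixed (Z : AddMonoid.End V) {v : V} (hv : Z v = v) (a : ZMod q) :
    gpow q Z a v = v := end_pow_fixed Z hv _

/-- the norm operator -/
noncomputable def normOp (Z : AddMonoid.End V) : AddMonoid.End V := ∑ a : ZMod q, gpow q Z a

theorem mul_normOp (Z : AddMonoid.End V) (hZ : Z ^ q = 1) : Z * normOp q Z = normOp q Z := by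
  unfold normOp
  rw [Finset.mul_sum]
  have h1 : ∀ a : ZMod q, Z * gpow q Z a = gpow q Z (1 + a) := by
    intro a
    rw [gpow_add q Z hZ, gpow_one q Z hZ]
  simp only [h1]
  exact Equiv.sum_comp (Equiv.addLeft (1 : ZMod q)) (fun a => gpow q Z a)

theorem normOp_comm (Z Y : AddMonoid.End V) (h : Y * Z = Z * Y) :
    Y * normOp q Z = normOp q Z * Y := by
  unfold normOp
  rw [Finset.mul_sum, Finset.sum_mul]
  exact Finset.sum_congr rfl (fun a _ => gpow_comm q Z Y h a)

theorem normOp_fixed (Z : AddMonoid.End V) {v : V} (hv : Z v = v) : normOp q Z v = q • v := by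
  unfold normOp
  rw [end_sum_apply]
  simp only [gpow_fixed q Z hv, Finset.sum_const, Finset.card_univ, ZMod.card]

theorem normOp_mul_unit (Z : AddMonoid.End V) (hZ : Z ^ q = 1) {a : ZMod q} (ha : a ≠ 0) :
    ∑ k : ZMod q, gpow q Z (a * k) = normOp q Z := by
  unfold normOp
  exact Equiv.sum_comp (Equiv.mulLeft₀ a ha) (fun k => gpow q Z k)

end basic

section decomp
variable {V : Type u} [AddCommGroup V] [Finite V] (q : ℕ) [hq : Fact q.Prime]

/-- fixed points of an endomorphism -/
def fixSub (Z : AddMonoid.End V) : AddSubgroup V where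
  carrier := {v | Z v = v}
  zero_mem' := map_zero Z
  add_mem' := by
    intro a b ha hb
    simp only [Set.mem_ofPred_eq] at ha hb ⊢
    rw [map_add, ha, hb]
  neg_mem' := by
    intro a ha
    simp only [Set.mem_ofPred_eq] at ha ⊢
    rw [map_neg, ha]

theorem mem_fixSub (Z : AddMonoid.End V) (v : V) : v ∈ fixSub Z ↔ Z v = v := Iff.rfl

/-- kernel of an endomorphism -/
def kerSub (N : AddMonoid.End V) : AddSubgroup V where
  carrier := {v | N v = 0}
  zero_mem' := map_zero N
  add_mem' := by
    intro a b ha hb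
    simp only [Set.mem_ofPred_eq] at ha hb ⊢
    rw [map_add, ha, hb, add_zero]
  neg_mem' := by
    intro a ha
    simp only [Set.mem_ofPred_eq] at ha ⊢
    rw [map_neg, ha, neg_zero]

theorem mem_kerSub (N : AddMonoid.End V) (v : V) : v ∈ kerSub N ↔ N v = 0 := Iff.rfl

theorem eq_zero_of_nsmul_eq_zero (hcop : (Nat.card V).Coprime q) {w : V} (hw : q • w = 0) :
    w = 0 := by
  have h1 : addOrderOf w ∣ q := addOrderOf_dvd_of_nsmul_eq_zero hw
  have h2 : addOrderOf w ∣ Nat.card V := addOrderOf_dvd_natCard w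
  have h3 : addOrderOf w ∣ 1 := by
    have := Nat.dvd_gcd h2 h1
    rwa [Nat.Coprime.gcd_eq_one hcop] at this
  exact AddMonoid.addOrderOf_eq_one_iff.mp (Nat.dvd_one.mp h3)

theorem coprime_card_addSubgroup (hcop : (Nat.card V).Coprime q) (W : AddSubgroup V) :
    (Nat.card W).Coprime q :=
  Nat.Coprime.coprime_dvd_left (AddSubgroup.card_addSubgroup_dvd_card W) hcop

theorem exists_nsmul_eq (hcop : (Nat.card V).Coprime q) (W : AddSubgroup V) {w : V} (hw : w ∈ W) :
    ∃ v ∈ W, q • v = w := by
  obtain ⟨v, hv⟩ := (nsmulCoprime (coprime_card_addSubgroup q hcop W)).surjective ⟨w, hw⟩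
  refine ⟨v.1, v.2, ?_⟩
  have := congrArg Subtype.val hv
  simpa using this

theorem pow_mem_of_invariant (Z : AddMonoid.End V) (F : AddSubgroup V) (hF : ∀ v ∈ F, Z v ∈ F)
    (n : ℕ) : ∀ v ∈ F, (Z ^ n) v ∈ F := by
  induction n with
  | zero => intro v hv; exact hv
  | succ n ih =>
    intro v hv
    rw [pow_succ, end_mul_apply]
    exact ih _ (hF v hv)

theorem normOp_mem_of_invariant (Z : AddMonoid.End V) (F : AddSubgroup V)
    (hF : ∀ v ∈ F, Z v ∈ F) : ∀ v ∈ F, normOp q Z v ∈ F := by
  intro v hv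
  unfold normOp
  rw [end_sum_apply]
  exact AddSubgroup.sum_mem _ (fun a _ => pow_mem_of_invariant Z F hF _ v hv)

theorem normOp_apply_fixed (Z : AddMonoid.End V) (hZ : Z ^ q = 1) (v : V) :
    Z (normOp q Z v) = normOp q Z v := by
  rw [← end_mul_apply, mul_normOp q Z hZ]

theorem card_decomp (Z : AddMonoid.End V) (hZ : Z ^ q = 1) (hcop : (Nat.card V).Coprime q)
    (F : AddSubgroup V) (hF : ∀ v ∈ F, Z v ∈ F) :
    Nat.card F = Nat.card ↥(F ⊓ fixSub Z) * Nat.card ↥(F ⊓ kerSub (normOp q Z)) := by
  let f : F →+ V := AddMonoidHom.comp (normOp q Z : V →+ V) F.subtype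
  have h1 : Nat.card f.ker * Nat.card f.range = Nat.card F := by
    rw [← AddSubgroup.index_ker]
    exact AddSubgroup.card_mul_index _
  have h2 : f.range = F ⊓ fixSub Z := by
    ext w
    rw [AddMonoidHom.mem_range, AddSubgroup.mem_inf, mem_fixSub]
    constructor
    · rintro ⟨v, rfl⟩
      exact ⟨normOp_mem_of_invariant q Z F hF v.1 v.2, normOp_apply_fixed q Z hZ _⟩
    · rintro ⟨hwF, hwZ⟩
      obtain ⟨v, hv, hqv⟩ := exists_nsmul_eq q hcop (F ⊓ fixSub Z)
        (AddSubgroup.mem_inf.mpr ⟨hwF, (mem_fixSub Z w).mpr hwZ⟩)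
      rw [AddSubgroup.mem_inf, mem_fixSub] at hv
      refine ⟨⟨v, hv.1⟩, ?_⟩
      change normOp q Z v = w
      rw [normOp_fixed q Z hv.2, hqv]
  have h3 : Nat.card f.ker = Nat.card ↥(F ⊓ kerSub (normOp q Z)) := by
    apply Nat.card_congr
    refine ⟨fun x => ⟨x.1.1, AddSubgroup.mem_inf.mpr ⟨x.1.2, ?_⟩⟩,
      fun y => ⟨⟨y.1, (AddSubgroup.mem_inf.mp y.2).1⟩, ?_⟩, ?_, ?_⟩
    · have := x.2
      rw [AddMonoidHom.mem_ker] at this
      exact this
    · have := (AddSubgroup.mem_inf.mp y.2).2
      rw [AddMonoidHom.mem_ker]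
      exact this
    · intro x; rfl
    · intro y; rfl
  rw [← h1, h2, h3, mul_comm]

end decomp

section indep
variable {V : Type u} [AddCommGroup V] [Finite V] (q : ℕ) [hq : Fact q.Prime]

/-- points of `ker N` fixed by `X * Z^j` -/
noncomputable def twSub (Z X : AddMonoid.End V) (j : ZMod q) : AddSubgroup V :=
  kerSub (normOp q Z) ⊓ fixSub (X * gpow q Z j)

theorem apply_of_mem_twSub (Z X : AddMonoid.End V) (hZ : Z ^ q = 1) (hXZ : X * Z = Z * X)
    (j : ZMod q) {d : V} (hd : d ∈ twSub q Z X j) : X d = gpow q Z (-j) d := by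
  have h1 : (X * gpow q Z j) d = d := (AddSubgroup.mem_inf.mp hd).2
  have h2 : gpow q Z (-j) ((X * gpow q Z j) d) = X d := by
    rw [← end_mul_apply, ← mul_assoc, ← gpow_comm q Z X hXZ, mul_assoc, ← gpow_add q Z hZ,
      neg_add_cancel, gpow_zero, mul_one]
  rw [← h2, h1]

theorem pow_apply_of_mem_twSub (Z X : AddMonoid.End V) (hZ : Z ^ q = 1) (hXZ : X * Z = Z * X)
    (j : ZMod q) {d : V} (hd : d ∈ twSub q Z X j) (n : ℕ) :
    (X ^ n) d = gpow q Z (-(j * (n : ZMod q))) d := by
  induction n with
  | zero =>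
    rw [pow_zero, Nat.cast_zero, mul_zero, neg_zero, gpow_zero]
  | succ n ih =>
    rw [pow_succ', end_mul_apply, ih, ← end_mul_apply, gpow_comm q Z X hXZ, end_mul_apply,
      apply_of_mem_twSub q Z X hZ hXZ j hd, ← end_mul_apply, ← gpow_add q Z hZ]
    congr 2
    push_cast
    ring

/-- the projection operators -/
noncomputable def projOp (Z X : AddMonoid.End V) (i : ZMod q) : AddMonoid.End V :=
  ∑ k : ZMod q, gpow q Z (i * k) * X ^ k.val

theorem projOp_apply (Z X : AddMonoid.End V) (hZ : Z ^ q = 1) (hXZ : X * Z = Z * X)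
    (i j : ZMod q) {d : V} (hd : d ∈ twSub q Z X j) :
    projOp q Z X i d = if i = j then q • d else 0 := by
  unfold projOp
  rw [end_sum_apply]
  have h1 : ∀ k : ZMod q, (gpow q Z (i * k) * X ^ k.val) d = gpow q Z ((i - j) * k) d := by
    intro k
    rw [end_mul_apply, pow_apply_of_mem_twSub q Z X hZ hXZ j hd, ← end_mul_apply,
      ← gpow_add q Z hZ, ZMod.natCast_zmod_val]
    congr 2
    ring
  simp only [h1]
  by_cases hij : i = j
  · rw [if_pos hij, hij, sub_self]
    simp only [zero_mul, gpow_zero, end_one_apply, Finset.sum_const, Finset.card_univ, ZMod.card]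
  · rw [if_neg hij, ← end_sum_apply, normOp_mul_unit q Z hZ (sub_ne_zero.mpr hij)]
    exact (AddSubgroup.mem_inf.mp hd).1

theorem prod_card_twSub_le (Z X : AddMonoid.End V) (hZ : Z ^ q = 1) (hXZ : X * Z = Z * X)
    (hcop : (Nat.card V).Coprime q) :
    ∏ j : ZMod q, Nat.card (twSub q Z X j) ≤ Nat.card (kerSub (normOp q Z)) := by
  classical
  rw [← Nat.card_pi]
  let σ : (∀ j : ZMod q, twSub q Z X j) → kerSub (normOp q Z) := fun u =>
    ⟨∑ j, (u j : V), AddSubgroup.sum_mem _ (fun j _ => (AddSubgroup.mem_inf.mp (u j).2).1)⟩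
  apply Nat.card_le_card_of_injective σ
  intro u u' huu
  have h0 : ∑ j, (u j : V) = ∑ j, (u' j : V) := congrArg Subtype.val huu
  funext i
  apply Subtype.ext
  have h1 : ∀ w : ∀ j : ZMod q, twSub q Z X j,
      projOp q Z X i (∑ j, (w j : V)) = q • (w i : V) := by
    intro w
    rw [map_sum]
    simp only [fun j => projOp_apply q Z X hZ hXZ i j (w j).2]
    rw [Finset.sum_ite_eq Finset.univ i (fun j => q • (w j : V)), if_pos (Finset.mem_univ _)]
  have h2 : q • (u i : V) = q • (u' i : V) := by
    rw [← h1 u, ← h1 u', h0]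
  have h3 : q • ((u i : V) - (u' i : V)) = 0 := by
    rw [smul_sub, h2, sub_self]
  exact sub_eq_zero.mp (eq_zero_of_nsmul_eq_zero q hcop h3)

end indep

section main
variable {H : Type v} [Group H] (q : ℕ) [hq : Fact q.Prime]

/-- restriction of an endomorphism to an invariant subgroup -/
def resEnd {V : Type u} [AddCommGroup V] (W : AddSubgroup V) (f : AddMonoid.End V)
    (hf : ∀ w ∈ W, f w ∈ W) : AddMonoid.End W :=
  AddMonoidHom.codRestrict (AddMonoidHom.comp (f : V →+ V) W.subtype) W (fun w => hf w.1 w.2)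

theorem resEnd_apply {V : Type u} [AddCommGroup V] (W : AddSubgroup V) (f : AddMonoid.End V)
    (hf : ∀ w ∈ W, f w ∈ W) (w : W) : ((resEnd W f hf w : W) : V) = f w := rfl

/-- restriction of an action to an invariant subgroup -/
def resHom {V : Type u} [AddCommGroup V] (ρ : H →* AddMonoid.End V) (W : AddSubgroup V)
    (hW : ∀ h : H, ∀ w ∈ W, ρ h w ∈ W) : H →* AddMonoid.End W where
  toFun h := resEnd W (ρ h) (hW h)
  map_one' := by
    apply AddMonoid.End.ext
    intro w
    apply Subtype.ext
    rw [resEnd_apply, map_one]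
    rfl
  map_mul' := by
    intro a b
    apply AddMonoid.End.ext
    intro w
    apply Subtype.ext
    rw [resEnd_apply, map_mul]
    rfl

theorem resHom_apply {V : Type u} [AddCommGroup V] (ρ : H →* AddMonoid.End V) (W : AddSubgroup V)
    (hW : ∀ h : H, ∀ w ∈ W, ρ h w ∈ W) (h : H) (w : W) :
    ((resHom ρ W hW h w : W) : V) = ρ h w := rfl

theorem exists_central_elt [Finite H] {V : Type u} [AddCommGroup V]
    (ρ : H →* AddMonoid.End V) (K : Subgroup H) (hK : ∀ k ∈ K, ρ k = 1)
    (hidx : ∃ n, K.index = q ^ n) (hne : ∃ h, ρ h ≠ 1) :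
    ∃ z : H, ρ z ≠ 1 ∧ ρ z ^ q = 1 ∧ ∀ h : H, ρ h * ρ z = ρ z * ρ h := by
  classical
  let C : Subgroup H := ρ.ker
  have hKC : K ≤ C := fun k hk => MonoidHom.mem_ker.mpr (hK k hk)
  obtain ⟨n, hn⟩ := hidx
  obtain ⟨j, hj⟩ : ∃ j, C.index = q ^ j := by
    have : C.index ∣ K.index := Subgroup.index_dvd_of_le hKC
    rw [hn] at this
    obtain ⟨j, -, hj⟩ := (Nat.dvd_prime_pow hq.out).mp this
    exact ⟨j, hj⟩
  have hQ : IsPGroup q (H ⧸ C) := IsPGroup.of_card (n := j) (by rw [← hj, Subgroup.index_eq_card])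
  haveI : Nontrivial (H ⧸ C) := by
    obtain ⟨h, hh⟩ := hne
    refine ⟨⟨(h : H ⧸ C), 1, ?_⟩⟩
    intro h1
    rw [QuotientGroup.eq_one_iff] at h1
    exact hh (MonoidHom.mem_ker.mp h1)
  haveI := hQ.center_nontrivial
  have hq_dvd : q ∣ Nat.card (Subgroup.center (H ⧸ C)) := by
    have hZ : IsPGroup q (Subgroup.center (H ⧸ C)) := hQ.to_subgroup _
    rcases hZ.card_eq_or_dvd with h1 | h1
    · exfalso
      have := Finite.one_lt_card (α := Subgroup.center (H ⧸ C))
      omega
    · exact h1
  obtain ⟨c, hc⟩ := exists_prime_orderOf_dvd_card' q hq_dvd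
  obtain ⟨z, hz⟩ := QuotientGroup.mk_surjective (c : H ⧸ C)
  have hc1 : (c : H ⧸ C) ≠ 1 := by
    intro h1
    have : c = 1 := Subtype.ext h1
    rw [this, orderOf_one] at hc
    exact hq.out.one_lt.ne hc
  have hcq : (c : H ⧸ C) ^ q = 1 := by
    have : c ^ q = 1 := by rw [← hc]; exact pow_orderOf_eq_one c
    exact_mod_cast congrArg Subtype.val this
  refine ⟨z, ?_, ?_, ?_⟩
  · intro h1
    apply hc1
    rw [← hz, QuotientGroup.eq_one_iff]
    exact MonoidHom.mem_ker.mpr h1
  · rw [← map_pow]
    have : ((z ^ q : H) : H ⧸ C) = 1 := by rw [QuotientGroup.mk_pow, hz, hcq]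
    rw [QuotientGroup.eq_one_iff] at this
    exact MonoidHom.mem_ker.mp this
  · intro h
    have h1 : (h : H ⧸ C) * (z : H ⧸ C) = (z : H ⧸ C) * (h : H ⧸ C) := by
      rw [hz]
      exact (Subgroup.mem_center_iff.mp c.2 (h : H ⧸ C))
    rw [← QuotientGroup.mk_mul, ← QuotientGroup.mk_mul, QuotientGroup.eq] at h1
    have h2 := MonoidHom.mem_ker.mp h1
    rw [← map_mul, ← map_mul]
    have h3 : z * h = h * z * ((h * z)⁻¹ * (z * h)) := by group
    rw [h3, map_mul ρ (h * z), h2, mul_one]

theorem fp_core [Finite H] (K : Subgroup H) (hidx : ∃ n, K.index = q ^ n) :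
    ∀ n : ℕ, ∀ (V : Type u) [AddCommGroup V] [Finite V], Nat.card V ≤ n →
      ∀ ρ : H →* AddMonoid.End V, (Nat.card V).Coprime q → (∀ k ∈ K, ρ k = 1) →
      (∀ v : V, (∀ h : H, ρ h v = v) → v = 0) →
      ∃ x : H, Nat.card (fixSub (ρ x)) ^ q ≤ Nat.card V := by
  intro n
  induction n with
  | zero =>
    intro V _ _ hn
    exfalso
    have := Nat.card_pos (α := V)
    omega
  | succ n ih =>
    intro V _ _ hn ρ hcop hK hfix
    classical
    by_cases hne : ∃ h, ρ h ≠ 1
    · obtain ⟨z, hz1, hzq, hzc⟩ := exists_central_elt q ρ K hK hidx hne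
      set Z := ρ z with hZdef
      set V₀ := fixSub Z with hV₀
      set V₁ := kerSub (normOp q Z) with hV₁
      have hdec : Nat.card V = Nat.card V₀ * Nat.card V₁ := by
        have := card_decomp q Z hzq hcop ⊤ (fun v _ => AddSubgroup.mem_top _)
        rwa [AddSubgroup.card_top, top_inf_eq, top_inf_eq] at this
      have hV₁ne : Nat.card V₁ ≠ 1 := by
        intro h1
        rw [h1, mul_one] at hdec
        have htop : V₀ = ⊤ := (AddSubgroup.card_eq_iff_eq_top V₀).mp hdec.symm
        apply hz1
        apply AddMonoid.End.ext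
        intro v
        have : v ∈ V₀ := by rw [htop]; exact AddSubgroup.mem_top v
        exact this
      have hV₁pos : 0 < Nat.card V₁ := Nat.card_pos
      have hV₀pos : 0 < Nat.card V₀ := Nat.card_pos
      have hV₀lt : Nat.card V₀ ≤ n := by
        have : Nat.card V₀ * 2 ≤ Nat.card V₀ * Nat.card V₁ :=
          Nat.mul_le_mul_left _ (by omega)
        rw [← hdec] at this
        omega
      have hinv : ∀ h : H, ∀ w ∈ V₀, ρ h w ∈ V₀ := by
        intro h w hw
        change Z (ρ h w) = ρ h w
        rw [← end_mul_apply, ← hzc h, end_mul_apply]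
        congr 1
      obtain ⟨x, hx⟩ := ih V₀ hV₀lt (resHom ρ V₀ hinv) (coprime_card_addSubgroup q hcop V₀)
        (by
          intro k hk
          apply AddMonoid.End.ext
          intro w
          apply Subtype.ext
          rw [resHom_apply, hK k hk]
          rfl)
        (by
          intro v hv
          apply Subtype.ext
          apply hfix
          intro h
          have := congrArg Subtype.val (hv h)
          rwa [resHom_apply] at this)
      set X := ρ x with hXdef
      have hXZ : X * Z = Z * X := hzc x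
      have hprod := prod_card_twSub_le q Z X hzq hXZ hcop
      obtain ⟨j, -, hj⟩ := Finset.exists_min_image Finset.univ
        (fun j : ZMod q => Nat.card (twSub q Z X j)) ⟨0, Finset.mem_univ _⟩
      have hjq : Nat.card (twSub q Z X j) ^ q ≤ Nat.card V₁ := by
        have := Finset.pow_card_le_prod Finset.univ (fun i : ZMod q => Nat.card (twSub q Z X i))
          (Nat.card (twSub q Z X j)) (fun i hi => hj i hi)
        rw [Finset.card_univ, ZMod.card] at this
        exact this.trans hprod
      refine ⟨x * z ^ j.val, ?_⟩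
      have hρ : ρ (x * z ^ j.val) = X * gpow q Z j := by
        rw [map_mul, map_pow]
        rfl
      rw [hρ]
      set F := fixSub (X * gpow q Z j) with hF
      have hFinv : ∀ v ∈ F, Z v ∈ F := by
        intro v hv
        change (X * gpow q Z j) (Z v) = Z v
        have hc : (X * gpow q Z j) * Z = Z * (X * gpow q Z j) := by
          rw [mul_assoc, ← gpow_comm q Z Z rfl, ← mul_assoc, hXZ, mul_assoc]
        rw [← end_mul_apply, hc, end_mul_apply]
        congr 1
      have hFdec := card_decomp q Z hzq hcop F hFinv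
      have hF1 : F ⊓ V₁ = twSub q Z X j := inf_comm _ _
      have hF0 : Nat.card ↥(F ⊓ V₀) = Nat.card (fixSub (resHom ρ V₀ hinv x)) := by
        apply Nat.card_congr
        refine ⟨fun v => ⟨⟨v.1, (AddSubgroup.mem_inf.mp v.2).2⟩, ?_⟩,
          fun w => ⟨w.1.1, AddSubgroup.mem_inf.mpr ⟨?_, w.1.2⟩⟩, ?_, ?_⟩
        · apply Subtype.ext
          rw [resHom_apply]
          have h1 : (X * gpow q Z j) v.1 = v.1 := (AddSubgroup.mem_inf.mp v.2).1
          rw [end_mul_apply, gpow_fixed q Z (AddSubgroup.mem_inf.mp v.2).2] at h1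
          exact h1
        · have h1 := congrArg Subtype.val w.2
          rw [resHom_apply] at h1
          change (X * gpow q Z j) w.1.1 = w.1.1
          rw [end_mul_apply, gpow_fixed q Z w.1.2]
          exact h1
        · intro v; rfl
        · intro w; rfl
      rw [hFdec, hF1, hF0, mul_pow, hdec]
      exact Nat.mul_le_mul hx hjq
    · push Not at hne
      refine ⟨1, ?_⟩
      have hall : ∀ v : V, v = 0 := fun v => hfix v (fun h => by rw [hne h]; rfl)
      have hsub : Subsingleton V := ⟨fun a b => by rw [hall a, hall b]⟩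
      have h1 : Nat.card V = 1 := Nat.card_unique
      have h2 : Nat.card (fixSub (ρ 1)) = 1 := Nat.card_unique
      rw [h1, h2, one_pow]

end main

section wrapper
variable {H : Type v} [Group H] [Finite H] (q : ℕ) [hq : Fact q.Prime]

/-- Fixed-point lemma: a group `H` acting on a finite abelian group `M` of order prime to `q`,
through a `q`-group quotient `H / K`, without nontrivial fixed points, contains an element `x`
with `|C_M(x)| ^ q ≤ |M|`. -/
theorem fp_mul {M : Type u} [Group M] [Finite M] [MulDistribMulAction H M]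
    (hcomm : ∀ a b : M, a * b = b * a) (K : Subgroup H) (hidx : ∃ n, K.index = q ^ n)
    (hcop : (Nat.card M).Coprime q) (hK : ∀ k ∈ K, ∀ m : M, k • m = m)
    (hfix : ∀ m : M, (∀ h : H, h • m = m) → m = 1) :
    ∃ x : H, Nat.card {m : M // x • m = m} ^ q ≤ Nat.card M := by
  letI cg : CommGroup M := { ‹Group M› with mul_comm := hcomm }
  let ρ : H →* AddMonoid.End (Additive M) :=
    { toFun := fun h =>
        { toFun := fun v => Additive.ofMul (h • Additive.toMul v)
          map_zero' := by
            change Additive.ofMul (h • (1 : M)) = 0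
            rw [smul_one]; rfl
          map_add' := by
            intro a b
            change Additive.ofMul (h • (Additive.toMul a * Additive.toMul b)) = _
            rw [smul_mul']; rfl }
      map_one' := by
        apply AddMonoid.End.ext
        intro v
        change Additive.ofMul ((1 : H) • Additive.toMul v) = v
        rw [one_smul]; rfl
      map_mul' := by
        intro a b
        apply AddMonoid.End.ext
        intro v
        change Additive.ofMul ((a * b) • Additive.toMul v) = _
        rw [mul_smul]; rfl }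
  have hρ : ∀ (h : H) (v : Additive M), ρ h v = Additive.ofMul (h • Additive.toMul v) :=
    fun h v => rfl
  haveI : Finite (Additive M) := ‹Finite M›
  have hcard : Nat.card (Additive M) = Nat.card M := rfl
  obtain ⟨x, hx⟩ := fp_core q K hidx (Nat.card (Additive M)) (Additive M) le_rfl ρ
    (by rw [hcard]; exact hcop)
    (by
      intro k hk
      apply AddMonoid.End.ext
      intro v
      rw [hρ, hK k hk]; rfl)
    (by
      intro v hv
      have : Additive.toMul v = 1 := hfix _ (fun h => by
        have := hv h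
        rw [hρ] at this
        exact congrArg Additive.toMul this)
      exact congrArg Additive.ofMul this)
  refine ⟨x, ?_⟩
  rw [hcard] at hx
  have h1 : Nat.card {m : M // x • m = m} = Nat.card (fixSub (ρ x)) := by
    apply Nat.card_congr
    refine ⟨fun m => ⟨Additive.ofMul m.1, ?_⟩, fun v => ⟨Additive.toMul v.1, ?_⟩, ?_, ?_⟩
    · change ρ x (Additive.ofMul m.1) = Additive.ofMul m.1
      rw [hρ]
      exact congrArg Additive.ofMul m.2
    · have := v.2
      change ρ x v.1 = v.1 at this
      rw [hρ] at this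
      exact congrArg Additive.toMul this
    · intro m; rfl
    · intro v; rfl
  rw [h1]
  exact hx

end wrapper

end Cfsg.Agent.Helper76.PrimFix
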