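import Mathlib
import Cfsg.Agent.Lib.Helper76.PrimFix

/-!
# Conjugation action on `P / (P ∩ Z(G))` and a centralizer bound (helper76)

For a normal subgroup `P` of `G` we let `G` act by conjugation on `QV P = P / (P ∩ Z(G))`.
`lemmaL` : under suitable hypotheses there is `x` such that every `g` having a power in `x K`
satisfies `|P : P ∩ Z(G)| ≤ |P : C_P(g)|²`.
-/

set_option autoImplicit false
set_option linter.style.haveILetI false
set_option linter.unusedSectionVars false
set_option linter.unusedVariables false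

namespace Cfsg.Agent.Helper76.PrimAct

open Cfsg.Agent.Helper76.PrimFix

universe u

section action
variable {G : Type u} [Group G]

theorem inv_mul_mem_center_iff (a b : G) :
    a⁻¹ * b ∈ Subgroup.center G ↔ b * a⁻¹ ∈ Subgroup.center G := by
  constructor
  · intro h
    have h1 := Subgroup.mem_center_iff.mp h a
    have h2 : b * a⁻¹ = a⁻¹ * b := by
      have : b = a * (a⁻¹ * b) := by group
      calc b * a⁻¹ = a * (a⁻¹ * b) * a⁻¹ := by rw [← this]
        _ = (a⁻¹ * b) * a * a⁻¹ := by rw [h1]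
        _ = a⁻¹ * b := by group
    rw [h2]; exact h
  · intro h
    have h1 := Subgroup.mem_center_iff.mp h a⁻¹
    have h2 : a⁻¹ * b = b * a⁻¹ := by
      calc a⁻¹ * b = a⁻¹ * (b * a⁻¹) * a := by group
        _ = (b * a⁻¹) * a⁻¹ * a := by rw [h1]
        _ = b * a⁻¹ := by group
    rw [h2]; exact h

variable (P : Subgroup G) [hP : P.Normal]

/-- `Z(G) ∩ P` as a subgroup of `P` -/
def zc : Subgroup P := (Subgroup.center G).subgroupOf P

instance zc_normal : (zc P).Normal := by
  unfold zc; infer_instance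

theorem mem_zc (x : P) : x ∈ zc P ↔ (x : G) ∈ Subgroup.center G := Subgroup.mem_subgroupOf

/-- the quotient `P / (P ∩ Z(G))` -/
def QV : Type u := P ⧸ zc P

instance : Group (QV P) := inferInstanceAs (Group (P ⧸ zc P))

/-- the quotient map -/
def qmk : P →* QV P := QuotientGroup.mk' (zc P)

theorem qmk_surjective : Function.Surjective (qmk P) := QuotientGroup.mk'_surjective (zc P)

theorem qmk_eq_iff (a b : P) : qmk P a = qmk P b ↔ (a : G)⁻¹ * b ∈ Subgroup.center G := by
  change ((a : P ⧸ zc P) = (b : P ⧸ zc P)) ↔ _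
  rw [QuotientGroup.eq, mem_zc]
  rfl

theorem qmk_eq_one_iff (a : P) : qmk P a = 1 ↔ (a : G) ∈ Subgroup.center G := by
  change ((a : P ⧸ zc P) = 1) ↔ _
  rw [QuotientGroup.eq_one_iff, mem_zc]

theorem ker_qmk : (qmk P).ker = zc P := QuotientGroup.ker_mk' (zc P)

/-- conjugation by `g` on the quotient -/
def conjQ (g : G) : QV P →* QV P :=
  QuotientGroup.map (zc P) (zc P) ((MulAut.conjNormal g : MulAut P).toMonoidHom) (by
    intro x hx
    rw [Subgroup.mem_comap, mem_zc] at *
    have h1 : (((MulAut.conjNormal g : MulAut P).toMonoidHom x : P) : G) = g * x * g⁻¹ :=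
      MulAut.conjNormal_apply g x
    rw [h1]
    have h2 : g * (x : G) * g⁻¹ = x := by
      rw [Subgroup.mem_center_iff.mp hx g, mul_assoc, mul_inv_cancel, mul_one]
    rw [h2]; exact hx)

theorem conjQ_qmk (g : G) (x : P) :
    conjQ P g (qmk P x) = qmk P (MulAut.conjNormal g x) := rfl

instance : MulDistribMulAction G (QV P) where
  smul g v := conjQ P g v
  one_smul := by
    intro v
    obtain ⟨x, rfl⟩ := qmk_surjective P v
    change conjQ P 1 (qmk P x) = qmk P x
    rw [conjQ_qmk, map_one]; rfl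
  mul_smul := by
    intro a b v
    obtain ⟨x, rfl⟩ := qmk_surjective P v
    change conjQ P (a * b) (qmk P x) = conjQ P a (conjQ P b (qmk P x))
    rw [conjQ_qmk, conjQ_qmk, conjQ_qmk, map_mul]; rfl
  smul_mul := fun g a b => map_mul (conjQ P g) a b
  smul_one := fun g => map_one (conjQ P g)

theorem smul_qmk (g : G) (x : P) : g • qmk P x = qmk P (MulAut.conjNormal g x) := rfl

theorem smul_qmk_eq_iff (g : G) (x : P) :
    g • qmk P x = qmk P x ↔ (x : G) * g * (x : G)⁻¹ * g⁻¹ ∈ Subgroup.center G := by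
  rw [smul_qmk, qmk_eq_iff, MulAut.conjNormal_apply, inv_mul_mem_center_iff]
  have : (x : G) * (g * (x : G) * g⁻¹)⁻¹ = (x : G) * g * (x : G)⁻¹ * g⁻¹ := by group
  rw [this]

end action

section lemmaL
variable {G : Type u} [Group G] [Finite G] (p q : ℕ) [hp : Fact p.Prime] [hq : Fact q.Prime]
variable (P : Subgroup G) [hP : P.Normal]

instance : Finite (QV P) := inferInstanceAs (Finite (P ⧸ zc P))

theorem qv_comm (hcl : ∀ a ∈ P, ∀ b ∈ P, a * b * a⁻¹ * b⁻¹ ∈ Subgroup.center G) (a b : QV P) :
    a * b = b * a := by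
  obtain ⟨x, rfl⟩ := qmk_surjective P a
  obtain ⟨y, rfl⟩ := qmk_surjective P b
  rw [← map_mul, ← map_mul, qmk_eq_iff]
  have := hcl _ (P.inv_mem y.2) _ (P.inv_mem x.2)
  convert this using 1
  simp [mul_assoc]

theorem card_qv : Nat.card (QV P) = (Subgroup.center G).relIndex P :=
  (Subgroup.index_eq_card (zc P)).symm

theorem isPGroup_qv (hPp : IsPGroup p P) : IsPGroup p (QV P) := by
  obtain ⟨a, ha⟩ := IsPGroup.iff_card.mp hPp
  have h1 : Nat.card (QV P) ∣ Nat.card P := Subgroup.card_quotient_dvd_card (zc P)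
  rw [ha] at h1
  exact IsPGroup.of_card_dvd_pow h1

theorem fix_trivial (hPp : IsPGroup p P)
    (hstar : ∀ x ∈ P, (∀ g : G, x * g * x⁻¹ * g⁻¹ ∈ Subgroup.center G) → x ∈ Subgroup.center G)
    (B : Subgroup G) [hB : B.Normal] (hGB : ∃ n, B.index = p ^ n)
    (m : QV P) (hm : ∀ b ∈ B, b • m = m) : m = 1 := by
  classical
  by_contra hm1
  let W : Subgroup (QV P) :=
    { carrier := {v | ∀ b ∈ B, b • v = v}
      one_mem' := fun b _ => smul_one b
      mul_mem' := by
        intro a c ha hc b hb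
        rw [smul_mul', ha b hb, hc b hb]
      inv_mem' := by
        intro a ha b hb
        rw [smul_inv', ha b hb] }
  have hWmem : ∀ v : QV P, v ∈ W ↔ ∀ b ∈ B, b • v = v := fun v => Iff.rfl
  have hWinv : ∀ g : G, ∀ v ∈ W, g • v ∈ W := by
    intro g v hv b hb
    have h1 : b * g = g * (g⁻¹ * b * g) := by group
    have h2 : g⁻¹ * b * g ∈ B := by
      have := hB.conj_mem b hb g⁻¹
      simpa using this
    rw [← mul_smul, h1, mul_smul, hv _ h2]
  let S : Sylow p G := default
  letI : MulAction (S : Subgroup G) W :=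
    { smul := fun s w => ⟨(s : G) • w.1, hWinv s w.1 w.2⟩
      one_smul := fun w => Subtype.ext (one_smul G w.1)
      mul_smul := fun a b w => Subtype.ext (mul_smul (a : G) (b : G) w.1) }
  have hsmul : ∀ (s : (S : Subgroup G)) (w : W), ((s • w : W) : QV P) = (s : G) • w.1 :=
    fun s w => rfl
  have hS : IsPGroup p (S : Subgroup G) := S.isPGroup'
  have hpW : p ∣ Nat.card W := by
    rcases ((isPGroup_qv p P hPp).to_subgroup W).card_eq_or_dvd with h1 | h1
    · exfalso
      have hbot : W = ⊥ := Subgroup.card_eq_one.mp h1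
      have : m ∈ W := hm
      rw [hbot, Subgroup.mem_bot] at this
      exact hm1 this
    · exact h1
  have h1fix : (1 : W) ∈ MulAction.fixedPoints (S : Subgroup G) W := by
    intro s
    apply Subtype.ext
    rw [hsmul]
    exact smul_one _
  obtain ⟨w, hwfix, hw1⟩ := hS.exists_fixed_point_of_prime_dvd_card_of_fixed_point W hpW h1fix
  have hSB : (S : Subgroup G) ⊔ B = ⊤ := by
    obtain ⟨n, hn⟩ := hGB
    have h1 : ((S : Subgroup G) ⊔ B).index ∣ (S : Subgroup G).index :=
      Subgroup.index_dvd_of_le le_sup_left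
    have h2 : ((S : Subgroup G) ⊔ B).index ∣ B.index := Subgroup.index_dvd_of_le le_sup_right
    rw [hn] at h2
    obtain ⟨j, -, hj⟩ := (Nat.dvd_prime_pow hp.out).mp h2
    rcases Nat.eq_zero_or_pos j with hj0 | hj0
    · rw [hj0, pow_zero] at hj
      exact Subgroup.index_eq_one.mp hj
    · exfalso
      apply S.not_dvd_index
      apply dvd_trans _ h1
      rw [hj]
      exact dvd_pow_self p hj0.ne'
  have hall : ∀ g : G, g • w.1 = w.1 := by
    have hle : (S : Subgroup G) ⊔ B ≤ MulAction.stabilizer G w.1 := by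
      apply sup_le
      · intro s hs
        rw [MulAction.mem_stabilizer_iff]
        have := congrArg Subtype.val (hwfix ⟨s, hs⟩)
        rwa [hsmul] at this
      · intro b hb
        rw [MulAction.mem_stabilizer_iff]
        exact w.2 b hb
    intro g
    have : g ∈ MulAction.stabilizer G w.1 := hle (by rw [hSB]; exact Subgroup.mem_top g)
    exact MulAction.mem_stabilizer_iff.mp this
  obtain ⟨x, hx⟩ := qmk_surjective P w.1
  apply hw1
  apply Subtype.ext
  rw [← hx]
  symm
  change qmk P x = 1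
  rw [qmk_eq_one_iff]
  apply hstar _ x.2
  intro g
  rw [← smul_qmk_eq_iff, hx]
  exact hall g

end lemmaL

section lemmaL2
variable {G : Type u} [Group G] [Finite G] (p q : ℕ) [hp : Fact p.Prime] [hq : Fact q.Prime]
variable (P : Subgroup G) [hP : P.Normal]

theorem lemmaL (hpq : p ≠ q) (hPp : IsPGroup p P)
    (hcl : ∀ a ∈ P, ∀ b ∈ P, a * b * a⁻¹ * b⁻¹ ∈ Subgroup.center G)
    (hstar : ∀ x ∈ P, (∀ g : G, x * g * x⁻¹ * g⁻¹ ∈ Subgroup.center G) → x ∈ Subgroup.center G)
    (K B : Subgroup G) [hB : B.Normal] (hKB : K ≤ B)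
    (hK : ∀ x ∈ P, ∀ k ∈ K, x * k * x⁻¹ * k⁻¹ ∈ Subgroup.center G)
    (hBK : ∃ n, K.relIndex B = q ^ n) (hGB : ∃ n, B.index = p ^ n) :
    ∃ x ∈ B, ∀ (g : G) (m : ℕ) (k : G), k ∈ K → g ^ m = x * k →
      (Subgroup.center G).relIndex P ≤ ((Subgroup.centralizer {g}).relIndex P) ^ 2 := by
  classical
  have hKtriv : ∀ k ∈ K, ∀ v : QV P, k • v = v := by
    intro k hk v
    obtain ⟨x, rfl⟩ := qmk_surjective P v
    rw [smul_qmk_eq_iff]
    exact hK _ x.2 k hk
  have hcop : (Nat.card (QV P)).Coprime q := by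
    obtain ⟨a, ha⟩ := IsPGroup.iff_card.mp (isPGroup_qv p P hPp)
    rw [ha]
    exact Nat.Coprime.pow_left _ ((Nat.coprime_primes hp.out hq.out).mpr hpq)
  obtain ⟨x, hx⟩ := fp_mul (H := B) q (M := QV P) (qv_comm P hcl) (K.subgroupOf B) hBK hcop
    (by
      intro k hk v
      exact hKtriv (k : G) (Subgroup.mem_subgroupOf.mp hk) v)
    (by
      intro m hm
      exact fix_trivial p P hPp hstar B hGB m (fun b hb => hm ⟨b, hb⟩))
  refine ⟨x.1, x.2, ?_⟩
  intro g m k hk hgm
  -- fixed points of g are fixed by x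
  have hfix : ∀ v : QV P, g • v = v → x • v = v := by
    intro v hv
    have h1 : (g ^ m) • v = v := by
      clear hgm
      induction m with
      | zero => rw [pow_zero, one_smul]
      | succ m ih => rw [pow_succ, mul_smul, hv, ih]
    rw [hgm, mul_smul, hKtriv k hk] at h1
    exact h1
  let I : Subgroup (QV P) := ((Subgroup.centralizer ({g} : Set G)).subgroupOf P).map (qmk P)
  have hI1 : Nat.card I ≤ Nat.card {v : QV P // x • v = v} := by
    apply Nat.card_le_card_of_injective (fun v : I => (⟨v.1, by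
      apply hfix
      obtain ⟨c, hc, hcv⟩ := Subgroup.mem_map.mp v.2
      rw [← hcv, smul_qmk]
      congr 1
      apply Subtype.ext
      rw [MulAut.conjNormal_apply]
      have h1 := Subgroup.mem_centralizer_iff.mp (Subgroup.mem_subgroupOf.mp hc) g rfl
      rw [h1, mul_assoc, mul_inv_cancel, mul_one]⟩ : {v : QV P // x • v = v}))
    intro a b hab
    apply Subtype.ext
    exact congrArg (fun w : {v : QV P // x • v = v} => w.1) hab
  have hI2 : I.index = (Subgroup.centralizer ({g} : Set G)).relIndex P := by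
    apply Subgroup.index_map_eq _ (qmk_surjective P)
    rw [ker_qmk]
    intro z hz
    rw [mem_zc] at hz
    rw [Subgroup.mem_subgroupOf]
    exact Subgroup.center_le_centralizer _ hz
  have hI3 : Nat.card I * I.index = Nat.card (QV P) := Subgroup.card_mul_index I
  rw [← card_qv, ← hI2, ← hI3]
  have ha : 0 < Nat.card I := Nat.card_pos
  have h2q : 2 ≤ q := hq.out.two_le
  have h1 : Nat.card I ^ 2 ≤ Nat.card I * I.index := by
    calc Nat.card I ^ 2 ≤ Nat.card I ^ q := Nat.pow_le_pow_right ha h2q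
      _ ≤ Nat.card {v : QV P // x • v = v} ^ q := Nat.pow_le_pow_left hI1 q
      _ ≤ Nat.card (QV P) := hx
      _ = Nat.card I * I.index := hI3.symm
  have h2 : Nat.card I ≤ I.index := by
    rw [sq] at h1
    exact Nat.le_of_mul_le_mul_left h1 ha
  rw [sq]
  exact Nat.mul_le_mul_right _ h2

end lemmaL2

end Cfsg.Agent.Helper76.PrimAct
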