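import Mathlib
import Cfsg.Prelude.Def_Characters
import Cfsg.Prelude.Def_Blocks
import Cfsg.Agent.Lib.Helper81.CharCorr
import Cfsg.Agent.Lib.Helper81.CharAbel
import Cfsg.Agent.Lib.Helper79.DegreeRatio
import Cfsg.Agent.Lib.Helper79.LinearChars
import Cfsg.Agent.Lib.Helper79.LinearDeg
import Cfsg.Agent.Lib.Helper79.Restrict
import Cfsg.Agent.Lib.Helper62.FittingMin

/-!
# Primitive characters: restriction to normal subgroups (helper76)
-/

set_option autoImplicit false
set_option linter.style.haveILetI false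
set_option linter.unusedSectionVars false
set_option linter.unusedVariables false

namespace Cfsg.Agent.Helper76.PrimChar

open Cfsg Cfsg.Agent.Helper81
open scoped ComplexConjugate

universe u

section prim
variable {G : Type u} [Group G] [Fintype G]

/-- `χ` is not induced from a proper subgroup -/
def IsPrim (χ : G → ℂ) : Prop :=
  ∀ (H : Subgroup G) (θ : H → ℂ), IsCharacter H θ → indFun H θ = χ → H = ⊤

/-- the restriction of a primitive character to a normal subgroup is homogeneous, a multiple of an
invariant irreducible character -/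
theorem homog {χ : G → ℂ} (hχ : IsIrrCharacter G χ) (hprim : IsPrim χ) (N : Subgroup G)
    (hN : N.Normal) :
    ∃ (θ : N → ℂ) (e : ℕ), IsIrrCharacter N θ ∧ (∀ g : G, conjFun N hN θ g = θ) ∧ 0 < e ∧
      (fun n : N => χ n) = (e : ℂ) • θ := by
  classical
  haveI : Fintype N := Fintype.ofFinite N
  have hres : IsCharacter N (fun n : N => χ n) := isCharacter_restrict N (IsIrrCharacter.isCharacter hχ)
  have h0 : (fun n : N => χ n) ≠ 0 := by
    intro h
    have h1 := congrFun h 1
    obtain ⟨d, hd0, hd⟩ := irr_one_pos hχ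
    simp only [Subgroup.coe_one, Pi.zero_apply] at h1
    rw [hd] at h1
    have : d = 0 := by exact_mod_cast h1
    omega
  obtain ⟨θ, hθ, hne⟩ := exists_irr_constituent hres h0
  let T := Cfsg.Agent.Helper79.inertiaGrp N hN θ
  haveI : Fintype T := Fintype.ofFinite T
  have hNT : N ≤ T := Cfsg.Agent.Helper79.le_inertiaGrp N hN
    (isClassFunction_of_isCharacter (IsIrrCharacter.isCharacter hθ))
  have hT : ∀ g : G, g ∈ T ↔ conjFun N hN θ g = θ := fun g => Iff.rfl
  obtain ⟨ψ, hψ, hind, -⟩ := clifford_corr_surj N T hN hNT hθ hT hχ hne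
  have htop : T = ⊤ := hprim T ψ (IsIrrCharacter.isCharacter hψ) hind
  have hinv : ∀ g : G, conjFun N hN θ g = θ := by
    intro g
    exact (hT g).mp (by rw [htop]; exact Subgroup.mem_top g)
  obtain ⟨e, he⟩ := exists_nat_classInner hres hθ
  have he0 : 0 < e := by
    rcases Nat.eq_zero_or_pos e with h | h
    · rw [h] at he; exact absurd (by simpa using he) hne
    · exact h
  refine ⟨θ, e, hθ, hinv, he0, ?_⟩
  have hcl := clifford N hN hχ hθ hne
  have hset : conjSet N hN θ = {θ} := by
    ext φ
    simp only [conjSet, Set.mem_ofPred_eq, Set.mem_singleton_iff]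
    constructor
    · rintro ⟨g, rfl⟩; exact hinv g
    · intro h; exact ⟨1, by rw [h, conjFun_one]⟩
  rw [hset, finsum_mem_singleton, he] at hcl
  exact hcl

end prim

section central
variable {G : Type u} [Group G] [Fintype G]

/-- irreducible characters of abelian groups are multiplicative -/
theorem irr_mul_of_comm {A : Type u} [Group A] [Finite A] (hAc : ∀ a b : A, a * b = b * a)
    {θ : A → ℂ} (hθ : IsIrrCharacter A θ) (x y : A) : θ (x * y) = θ x * θ y := by
  let θ' : IrrCharacter A := ⟨θ, hθ⟩
  have hdeg : charDegree (θ' : A → ℂ) = 1 := by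
    rw [Cfsg.Agent.Helper79.degree_one_iff]
    have hc : commutator A = ⊥ := by
      rw [eq_bot_iff, commutator_def, Subgroup.commutator_le]
      intro a _ b _
      rw [Subgroup.mem_bot, commutatorElement_eq_one_iff_mul_comm]
      exact hAc a b
    rw [hc]; exact bot_le
  exact (Cfsg.Agent.Helper79.irr_mul_of_degree_one θ' hdeg x y).1

/-- for a faithful primitive character, normal abelian subgroups are central -/
theorem abel_central {χ : G → ℂ} (hχ : IsIrrCharacter G χ) (hprim : IsPrim χ)
    (hf : ∀ g : G, χ g = χ 1 → g = 1) (A : Subgroup G) (hA : A.Normal)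
    (hAc : ∀ a ∈ A, ∀ b ∈ A, a * b = b * a) : A ≤ Subgroup.center G := by
  obtain ⟨θ, e, hθ, hinv, he, hres⟩ := homog hχ hprim A hA
  have hmul : ∀ x y : A, θ (x * y) = θ x * θ y :=
    irr_mul_of_comm (fun a b => Subtype.ext (hAc a a.2 b b.2)) hθ
  intro a ha
  rw [Subgroup.mem_center_iff]
  intro g
  let a₀ : A := ⟨a, ha⟩
  let a₁ : A := ⟨g * a * g⁻¹, hA.conj_mem a ha g⟩
  have h1 : θ a₁ = θ a₀ := by
    have := congrFun (hinv g) a₀
    rw [conjFun_apply] at this
    exact this
  have h2 : θ (a₀⁻¹ * a₁) = θ 1 := by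
    rw [hmul, h1, ← hmul, inv_mul_cancel]
  have h3 : χ ((a₀⁻¹ * a₁ : A) : G) = χ 1 := by
    have e1 := congrFun hres (a₀⁻¹ * a₁)
    have e2 := congrFun hres 1
    simp only [Pi.smul_apply, smul_eq_mul] at e1 e2
    rw [e1, h2, ← e2]; rfl
  have h4 := hf _ h3
  have h5 : a⁻¹ * (g * a * g⁻¹) = 1 := h4
  have h6 : a = g * a * g⁻¹ := inv_mul_eq_one.mp h5
  calc g * a = (g * a * g⁻¹) * g := by group
    _ = a * g := by rw [← h6]

end central

section descend
variable {G : Type u} [Group G] [Fintype G]

/-- descent of irreducibility of the restriction through a normal step of prime index -/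
theorem descend {χ : G → ℂ} (hχ : IsIrrCharacter G χ) (hprim : IsPrim χ) (N N' : Subgroup G)
    (hN : N.Normal) (hle : N ≤ N') (r : ℕ) (hr : r.Prime) (hidx : N.relIndex N' = r)
    (hirr : IsIrrCharacter N' (fun n : N' => χ n)) : IsIrrCharacter N (fun n : N => χ n) := by
  classical
  haveI : Fintype N := Fintype.ofFinite N
  haveI : Fintype N' := Fintype.ofFinite N'
  obtain ⟨θ, e, hθ, hinv, he, hres⟩ := homog hχ hprim N hN
  suffices h : e = 1 by
    rw [hres, h, Nat.cast_one, one_smul]; exact hθ
  let H : Subgroup N' := N.subgroupOf N'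
  haveI hH : H.Normal := hN.subgroupOf N'
  haveI : Fintype H := Fintype.ofFinite H
  haveI : Fintype (⊤ : Subgroup N') := Fintype.ofFinite _
  let ι : H ≃* N := Subgroup.subgroupOfEquivOfLe hle
  let θ' : H → ℂ := fun x => θ (ι x)
  have hθ' : IsIrrCharacter H θ' := isIrrCharacter_comp_equiv ι hθ
  have hT' : ∀ g : N', g ∈ (⊤ : Subgroup N') ↔ conjFun H hH θ' g = θ' := by
    intro g
    refine ⟨fun _ => ?_, fun _ => Subgroup.mem_top g⟩
    ext x
    rw [conjFun_apply]
    have h1 := congrFun (hinv (g : G)) (ι x)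
    rw [conjFun_apply] at h1
    exact h1
  have hab : ∀ x ∈ (⊤ : Subgroup N'), ∀ y ∈ (⊤ : Subgroup N'), x * y * x⁻¹ * y⁻¹ ∈ H := by
    intro x _ y _
    haveI : Fact r.Prime := ⟨hr⟩
    have hcard : Nat.card (N' ⧸ H) = r := by rw [← Subgroup.index_eq_card]; exact hidx
    haveI := isCyclic_of_prime_card hcard
    have hc : ∀ a b : N' ⧸ H, a * b = b * a := fun a b => (IsMulCommutative.is_comm).comm a b
    rw [← QuotientGroup.eq_one_iff]
    have : ((x * y * x⁻¹ * y⁻¹ : N') : N' ⧸ H) =
        (x : N' ⧸ H) * (y : N' ⧸ H) * (x : N' ⧸ H)⁻¹ * (y : N' ⧸ H)⁻¹ := rfl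
    rw [this, hc (x : N' ⧸ H) y]
    group
  obtain ⟨e₁, C, he₁, hCirr, hnorm, hdecomp, hdeg⟩ :=
    abelian_inertia (G := N') H ⊤ hH hθ' hT' hab
  -- e₁ = 1
  have hHidx : H.index = r := hidx
  have hcardH : Nat.card H * r = Nat.card N' := by rw [← hHidx]; exact Subgroup.card_mul_index H
  have hr1 : e₁ ^ 2 * C.card = r := by
    rw [Subgroup.card_top, ← hcardH, mul_comm (Nat.card H) r] at hnorm
    exact Nat.eq_of_mul_eq_mul_right Nat.card_pos hnorm
  have he₁1 : e₁ = 1 := by
    have hdvd : e₁ ∣ r := by
      rw [← hr1, sq, mul_assoc]; exact dvd_mul_right _ _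
    rcases (Nat.dvd_prime hr).mp hdvd with h | h
    · exact h
    · exfalso
      rw [h, sq, mul_assoc] at hr1
      have h2 : r * C.card = 1 := by
        have := hr1
        nth_rewrite 3 [← mul_one r] at this
        exact Nat.eq_of_mul_eq_mul_left hr.pos this
      have h3 : r = 1 := Nat.eq_one_of_mul_eq_one_right h2
      exact hr.one_lt.ne' h3
  -- ψ is a member of C
  let ψ : N' → ℂ := fun n => χ n
  have hψres : (fun h : H => ψ h) = (e : ℂ) • θ' := by
    ext x
    exact congrFun hres (ι x)
  have hfrob : classInner (indFun H θ') ψ = (e : ℂ) := by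
    rw [frobenius_reciprocity H θ' (isClassFunction_of_isCharacter (IsIrrCharacter.isCharacter hirr)),
      hψres, classInner_smul_right, irr_orthonormal hθ' hθ', if_pos rfl, mul_one, Complex.conj_natCast]
  have hmem : ψ ∈ C := by
    by_contra hnot
    have : classInner (indFun H θ') ψ = 0 := by
      rw [hdecomp, classInner_smul_left, classInner_sum_left]
      have : ∀ χ' ∈ C, classInner χ' ψ = 0 := by
        intro χ' hχ'
        by_contra hne
        have heq : χ' = ψ := eq_of_classInner_ne_zero (hCirr χ' hχ') hirr hne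
        rw [heq] at hχ'
        exact hnot hχ'
      rw [Finset.sum_eq_zero this, mul_zero]
    rw [hfrob] at this
    have : e = 0 := by exact_mod_cast this
    omega
  have h1 := hdeg ψ hmem
  rw [Subgroup.index_top, he₁1] at h1
  have h2 : θ' 1 = θ 1 := by
    change θ (ι 1) = θ 1
    rw [map_one]
  have h3 : ψ 1 = (e : ℂ) * θ 1 := by
    have := congrFun hres 1
    simp only [Pi.smul_apply, smul_eq_mul] at this
    exact this
  obtain ⟨d, hd0, hd⟩ := irr_one_pos hθ
  rw [h3, h2, hd] at h1
  have hdne : (d : ℂ) ≠ 0 := by exact_mod_cast hd0.ne'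
  have h4 : (e : ℂ) = 1 := by
    have : (e : ℂ) * d = 1 * d := by rw [h1]; push_cast; ring
    exact mul_right_cancel₀ hdne this
  exact_mod_cast h4

end descend

section nilp
variable {G : Type u} [Group G] [Fintype G]

/-- in a nontrivial nilpotent group there is a central element of prime order -/
theorem exists_central_prime_order {Q : Type u} [Group Q] [Finite Q] [Nontrivial Q]
    (hnil : Group.IsNilpotent Q) :
    ∃ (c : Q) (r : ℕ), r.Prime ∧ c ∈ Subgroup.center Q ∧ orderOf c = r := by
  have htop : (⊤ : Subgroup Q) ≠ ⊥ := by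
    intro h
    obtain ⟨x, hx⟩ := exists_ne (1 : Q)
    have : x ∈ (⊥ : Subgroup Q) := by rw [← h]; exact Subgroup.mem_top x
    exact hx (Subgroup.mem_bot.mp this)
  have hcen := Cfsg.Agent.Helper62.normal_inf_center_ne_bot (⊤ : Subgroup Q) htop
  rw [top_inf_eq] at hcen
  obtain ⟨c, hc1⟩ := (Subgroup.ne_bot_iff_exists_ne_one).mp hcen
  have hc1' : (c : Q) ≠ 1 := fun h => hc1 (Subtype.ext h)
  have ho : orderOf (c : Q) ≠ 1 := fun h => hc1' (orderOf_eq_one_iff.mp h)
  have ho0 : orderOf (c : Q) ≠ 0 := (orderOf_pos (c : Q)).ne'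
  refine ⟨(c : Q) ^ (orderOf (c : Q) / (orderOf (c : Q)).minFac), (orderOf (c : Q)).minFac,
    Nat.minFac_prime ho, Subgroup.pow_mem _ c.2 _, ?_⟩
  exact orderOf_pow_orderOf_div ho0 (Nat.minFac_dvd _)

/-- for a primitive character `χ` and `F` normal with `G / F` nilpotent, the restriction of `χ`
to every normal subgroup containing `F` is irreducible -/
theorem restrict_irr_of_le {χ : G → ℂ} (hχ : IsIrrCharacter G χ) (hprim : IsPrim χ)
    (F : Subgroup G) [hF : F.Normal] (hnil : Group.IsNilpotent (G ⧸ F)) :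
    ∀ n : ℕ, ∀ N : Subgroup G, N.Normal → F ≤ N → N.index = n →
      IsIrrCharacter N (fun x : N => χ x) := by
  intro n
  induction n using Nat.strong_induction_on with
  | _ n ih =>
    intro N hN hFN hidx
    by_cases htop : N = ⊤
    · subst htop
      exact isIrrCharacter_comp_equiv (Subgroup.topEquiv) hχ
    · haveI := hN
      have hnilN : Group.IsNilpotent (G ⧸ N) := by
        have hle : F ≤ N.comap (MonoidHom.id G) := by
          intro x hx; exact hFN hx
        apply Group.nilpotent_of_surjective (QuotientGroup.map F N (MonoidHom.id G) hle)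
        intro y
        obtain ⟨g, rfl⟩ := QuotientGroup.mk_surjective y
        exact ⟨(g : G ⧸ F), rfl⟩
      haveI : Nontrivial (G ⧸ N) := by
        by_contra hnt
        rw [not_nontrivial_iff_subsingleton] at hnt
        apply htop
        rw [eq_top_iff]
        intro g _
        rw [← QuotientGroup.eq_one_iff]
        exact Subsingleton.elim _ _
      obtain ⟨c, r, hr, hc, hcr⟩ := exists_central_prime_order hnilN
      let Z : Subgroup (G ⧸ N) := Subgroup.zpowers c
      haveI hZn : Z.Normal := by
        constructor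
        intro z hz g
        have hzc : z ∈ Subgroup.center (G ⧸ N) := by
          obtain ⟨k, rfl⟩ := Subgroup.mem_zpowers_iff.mp hz
          exact Subgroup.zpow_mem _ hc k
        have : g * z * g⁻¹ = z := by
          rw [Subgroup.mem_center_iff.mp hzc g, mul_assoc, mul_inv_cancel, mul_one]
        rw [this]; exact hz
      let N' : Subgroup G := Z.comap (QuotientGroup.mk' N)
      have hN' : N'.Normal := hZn.comap _
      have hle : N ≤ N' := by
        intro x hx
        change (QuotientGroup.mk' N x) ∈ Z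
        rw [QuotientGroup.mk'_apply, (QuotientGroup.eq_one_iff x).mpr hx]
        exact Z.one_mem
      have hrel : N.relIndex N' = r := by
        have h1 : N = (⊥ : Subgroup (G ⧸ N)).comap (QuotientGroup.mk' N) := by
          rw [MonoidHom.comap_bot, QuotientGroup.ker_mk']
        conv_lhs => rw [h1]
        rw [Subgroup.relIndex_comap, Subgroup.relIndex_bot_left,
          Subgroup.map_comap_eq_self_of_surjective (QuotientGroup.mk'_surjective N)]
        rw [Nat.card_zpowers, hcr]
      have hidx' : r * N'.index = n := by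
        rw [← hrel, Subgroup.relIndex_mul_index hle, hidx]
      have hpos : 0 < N'.index := Nat.pos_of_ne_zero Subgroup.index_ne_zero_of_finite
      have hlt : N'.index < n := by
        have := hr.two_le
        nlinarith
      have hirr' := ih N'.index hlt N' hN' (hFN.trans hle) rfl
      exact descend hχ hprim N N' hN hle r hr hrel hirr'

end nilp

section degree
variable {G : Type u} [Group G] [Fintype G]

/-- degree formula: if `χ` is faithful, `χ|_F` is irreducible, `[F,F] ≤ Z(G)` and `Z(F) ≤ Z(G)`
then `χ(1)² = |F : F ∩ Z(G)|` -/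
theorem sq_degree_eq_relIndex (χ : IrrCharacter G) (hf : ∀ g : G, (χ : G → ℂ) g = (χ : G → ℂ) 1 → g = 1)
    (F : Subgroup G) (hirr : IsIrrCharacter F (fun x : F => (χ : G → ℂ) x))
    (hcl : ∀ a ∈ F, ∀ b ∈ F, a * b * a⁻¹ * b⁻¹ ∈ Subgroup.center G)
    (hZ : ∀ x ∈ F, (∀ y ∈ F, x * y = y * x) → x ∈ Subgroup.center G) :
    (charDegree (χ : G → ℂ)) ^ 2 = (Subgroup.center G).relIndex F := by
  classical
  haveI : Fintype F := Fintype.ofFinite F
  set d := charDegree (χ : G → ℂ) with hd
  let θ : IrrCharacter F := ⟨fun x : F => (χ : G → ℂ) x, hirr⟩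
  have hsum := Cfsg.Agent.Helper79.irr_sum_normSq θ
  have hval : ∀ x : F, Complex.normSq ((θ : F → ℂ) x) =
      if (x : G) ∈ Subgroup.center G then ((d : ℕ) : ℝ) ^ 2 else 0 := by
    intro x
    change Complex.normSq ((χ : G → ℂ) x) = _
    by_cases hx : (x : G) ∈ Subgroup.center G
    · rw [if_pos hx]
      exact Cfsg.Agent.Helper79.irr_normSq_central χ x hx
    · rw [if_neg hx]
      have hne : ¬ ∀ y ∈ F, (x : G) * y = y * x := fun h => hx (hZ x x.2 h)
      push Not at hne
      obtain ⟨y, hy, hxy⟩ := hne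
      set c := y * (x : G) * y⁻¹ * (x : G)⁻¹ with hc
      have hcZ : c ∈ Subgroup.center G := hcl y hy x x.2
      have hc1 : c ≠ 1 := by
        intro h1
        apply hxy
        have : y * (x : G) = c * ((x : G) * y) := by rw [hc]; group
        rw [this, h1, one_mul]
      have h1 := Cfsg.Agent.Helper79.irr_central_mul χ c hcZ x
      have h2 : c * (x : G) = y * x * y⁻¹ := by rw [hc]; group
      rw [h2, Cfsg.Agent.Helper79.irr_class χ x y] at h1
      by_contra h0
      have h0' : (χ : G → ℂ) x ≠ 0 := by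
        intro h; apply h0; rw [h]; simp
      have h3 : (χ : G → ℂ) c = (χ : G → ℂ) 1 := by
        have : (χ : G → ℂ) x * (χ : G → ℂ) 1 = (χ : G → ℂ) x * (χ : G → ℂ) c := by
          rw [h1]; ring
        exact (mul_left_cancel₀ h0' this).symm
      exact hc1 (hf c h3)
  simp only [hval] at hsum
  rw [Finset.sum_ite, Finset.sum_const_zero, add_zero, Finset.sum_const, nsmul_eq_mul] at hsum
  have hcard : (Finset.univ.filter (fun x : F => (x : G) ∈ Subgroup.center G)).card =
      Nat.card ((Subgroup.center G).subgroupOf F) := by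
    rw [Nat.card_eq_fintype_card, Fintype.card_subtype]
    congr 1
    ext x
    simp only [Finset.mem_filter, Finset.mem_univ, true_and, Subgroup.mem_subgroupOf]
  rw [hcard] at hsum
  have h1 : Nat.card ((Subgroup.center G).subgroupOf F) * d ^ 2 = Nat.card F := by
    exact_mod_cast hsum
  have h2 := Subgroup.card_mul_index ((Subgroup.center G).subgroupOf F)
  have h3 : Nat.card ((Subgroup.center G).subgroupOf F) * d ^ 2 =
      Nat.card ((Subgroup.center G).subgroupOf F) * ((Subgroup.center G).subgroupOf F).index := by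
    rw [h1, h2]
  exact Nat.eq_of_mul_eq_mul_left Nat.card_pos h3

end degree

section cyclic
variable {G : Type u} [Group G] [Fintype G]

/-- the centre of a group with a faithful irreducible character is cyclic -/
theorem center_cyclic (χ : IrrCharacter G)
    (hf : ∀ g : G, (χ : G → ℂ) g = (χ : G → ℂ) 1 → g = 1) : IsCyclic (Subgroup.center G) := by
  have h1ne : (χ : G → ℂ) 1 ≠ 0 := Cfsg.Agent.Helper79.irr_one_ne_zero χ
  let f : Subgroup.center G →* ℂ :=
    { toFun := fun z => (χ : G → ℂ) z / (χ : G → ℂ) 1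
      map_one' := by
        change (χ : G → ℂ) ((1 : Subgroup.center G) : G) / (χ : G → ℂ) 1 = 1
        rw [Subgroup.coe_one, div_self h1ne]
      map_mul' := by
        intro a b
        change (χ : G → ℂ) ((a * b : Subgroup.center G) : G) / (χ : G → ℂ) 1 =
          (χ : G → ℂ) a / (χ : G → ℂ) 1 * ((χ : G → ℂ) b / (χ : G → ℂ) 1)
        have h := Cfsg.Agent.Helper79.irr_central_mul χ a a.2 b
        rw [Subgroup.coe_mul]
        field_simp
        rw [h] }
  have hfz : ∀ z : Subgroup.center G, f z = (χ : G → ℂ) z / (χ : G → ℂ) 1 := fun z => rfl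
  apply isCyclic_of_injective_ringHom f
  intro a b hab
  have h1 : f (a * b⁻¹) = 1 := by
    rw [map_mul, hab, ← map_mul, mul_inv_cancel, map_one]
  rw [hfz, div_eq_one_iff_eq h1ne] at h1
  have h2 := hf _ h1
  have h3 : a * b⁻¹ = 1 := Subtype.ext h2
  exact mul_inv_eq_one.mp h3

end cyclic

end Cfsg.Agent.Helper76.PrimChar
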