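import Mathlib
import Cfsg.Prelude.Def_Characters
import Cfsg.Prelude.Def_Blocks
import Cfsg.Prelude.Def_Solvable
import Cfsg.Prelude.Def_Transfer
import Cfsg.Agent.Lib.Helper76.PrimChar
import Cfsg.Agent.Lib.Helper76.PrimAct
import Cfsg.Agent.Lib.Helper79.GroupAux
import Cfsg.Agent.Lib.Helper22.Fitting
import Cfsg.Agent.S3762

/-!
# Primitive characters of odd metanilpotent `{p,q}`-groups: the faithful case (helper76)
-/

set_option autoImplicit false
set_option linter.style.haveILetI false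
set_option linter.unusedSectionVars false
set_option linter.unusedVariables false

namespace Cfsg.Agent.Helper76.PrimMain

open Cfsg Cfsg.Agent.Helper81 Cfsg.Agent.Helper76.PrimChar Cfsg.Agent.Helper76.PrimAct
open scoped Pointwise commutatorElement

universe u

section grp
variable {G : Type u} [Group G]

/-- an element whose commutators with everything are central generates, together with the centre,
a normal abelian subgroup -/
theorem star_of_central
    (hcenter : ∀ A : Subgroup G, A.Normal → (∀ a ∈ A, ∀ b ∈ A, a * b = b * a) →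
      A ≤ Subgroup.center G)
    (x : G) (hx : ∀ g : G, x * g * x⁻¹ * g⁻¹ ∈ Subgroup.center G) : x ∈ Subgroup.center G := by
  have hzc : ∀ z ∈ Subgroup.center G, ∀ g : G, g * z = z * g :=
    fun z hz g => Subgroup.mem_center_iff.mp hz g
  let A : Subgroup G :=
    { carrier := {y | ∃ n : ℤ, ∃ z ∈ Subgroup.center G, y = x ^ n * z}
      one_mem' := ⟨0, 1, Subgroup.one_mem _, by simp⟩
      mul_mem' := by
        rintro a b ⟨n, z, hz, rfl⟩ ⟨m, z', hz', rfl⟩
        refine ⟨n + m, z * z', Subgroup.mul_mem _ hz hz', ?_⟩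
        rw [zpow_add]
        calc x ^ n * z * (x ^ m * z') = x ^ n * (z * x ^ m) * z' := by group
          _ = x ^ n * (x ^ m * z) * z' := by rw [hzc z hz (x ^ m)]
          _ = x ^ n * x ^ m * (z * z') := by group
      inv_mem' := by
        rintro a ⟨n, z, hz, rfl⟩
        refine ⟨-n, z⁻¹, Subgroup.inv_mem _ hz, ?_⟩
        rw [mul_inv_rev, zpow_neg, hzc z⁻¹ (Subgroup.inv_mem _ hz)] }
  have hAmem : ∀ y : G, y ∈ A ↔ ∃ n : ℤ, ∃ z ∈ Subgroup.center G, y = x ^ n * z := fun y => Iff.rfl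
  have hAn : A.Normal := by
    constructor
    rintro a ⟨n, z, hz, rfl⟩ g
    have hc : (x * g * x⁻¹ * g⁻¹)⁻¹ ∈ Subgroup.center G := Subgroup.inv_mem _ (hx g)
    set c := (x * g * x⁻¹ * g⁻¹)⁻¹ with hcdef
    have h1 : g * x * g⁻¹ = c * x := by rw [hcdef]; group
    have h2 : g * x ^ n * g⁻¹ = (c * x) ^ n := by
      rw [← h1]; simp
    have h3 : (c * x) ^ n = c ^ n * x ^ n :=
      (show Commute c x from (hzc c hc x).symm).mul_zpow n
    refine ⟨n, c ^ n * z, Subgroup.mul_mem _ (Subgroup.zpow_mem _ hc n) hz, ?_⟩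
    calc g * (x ^ n * z) * g⁻¹ = (g * x ^ n * g⁻¹) * (g * z * g⁻¹) := by group
      _ = c ^ n * x ^ n * z := by
          rw [h2, h3, hzc z hz g, mul_assoc z, mul_inv_cancel, mul_one]
      _ = x ^ n * (c ^ n * z) := by
          rw [← hzc (c ^ n) (Subgroup.zpow_mem _ hc n) (x ^ n), mul_assoc]
  have hAc : ∀ a ∈ A, ∀ b ∈ A, a * b = b * a := by
    rintro a ⟨n, z, hz, rfl⟩ b ⟨m, z', hz', rfl⟩
    calc x ^ n * z * (x ^ m * z') = x ^ n * (z * x ^ m) * z' := by group
      _ = x ^ n * (x ^ m * z) * z' := by rw [hzc z hz (x ^ m)]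
      _ = (x ^ n * x ^ m) * (z * z') := by group
      _ = (x ^ m * x ^ n) * (z' * z) := by
          rw [← zpow_add, ← zpow_add, add_comm, hzc z hz z']
      _ = x ^ m * (x ^ n * z') * z := by group
      _ = x ^ m * (z' * x ^ n) * z := by rw [hzc z' hz' (x ^ n)]
      _ = x ^ m * z' * (x ^ n * z) := by group
  exact hcenter A hAn hAc ((hAmem x).mpr ⟨1, 1, Subgroup.one_mem _, by simp⟩)

/-- class two from a P. Hall decomposition -/
theorem class_two_of_hall {X : Type u} [Group X] (E R : Subgroup X)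
    (hER : ∀ e ∈ E, ∀ r ∈ R, e * r = r * e) (hsup : E ⊔ R = ⊤)
    (hE : E = ⊥ ∨ commutator E = Subgroup.center E) (hR : IsCyclic R) (a b : X) :
    a * b * a⁻¹ * b⁻¹ ∈ Subgroup.center X := by
  have hset : (E : Set X) * (R : Set X) = (R : Set X) * (E : Set X) := by
    ext y
    constructor
    · rintro ⟨e, he, r, hr, rfl⟩; exact ⟨r, hr, e, he, (hER e he r hr).symm⟩
    · rintro ⟨r, hr, e, he, rfl⟩; exact ⟨e, he, r, hr, hER e he r hr⟩
  have hdec : ∀ y : X, ∃ e ∈ E, ∃ r ∈ R, y = e * r := by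
    intro y
    have h1 : y ∈ ((E ⊔ R : Subgroup X) : Set X) := by rw [hsup]; exact Set.mem_univ y
    rw [Cfsg.Agent.Helper79.coe_sup_of_mul_comm E R hset] at h1
    obtain ⟨e, he, r, hr, rfl⟩ := h1
    exact ⟨e, he, r, hr, rfl⟩
  have hRc : ∀ r ∈ R, ∀ r' ∈ R, r * r' = r' * r := by
    intro r hr r' hr'
    have := (IsMulCommutative.is_comm (M := R)).comm ⟨r, hr⟩ ⟨r', hr'⟩
    exact congrArg Subtype.val this
  obtain ⟨e₁, he₁, r₁, hr₁, rfl⟩ := hdec a
  obtain ⟨e₂, he₂, r₂, hr₂, rfl⟩ := hdec b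
  have hcomm : e₁ * r₁ * (e₂ * r₂) * (e₁ * r₁)⁻¹ * (e₂ * r₂)⁻¹ = e₁ * e₂ * e₁⁻¹ * e₂⁻¹ := by
    have h1 : r₁ * e₂ = e₂ * r₁ := (hER e₂ he₂ r₁ hr₁).symm
    have h2 : r₁ * r₂ = r₂ * r₁ := hRc r₁ hr₁ r₂ hr₂
    have h3 : r₂ * e₁⁻¹ = e₁⁻¹ * r₂ := (hER e₁⁻¹ (E.inv_mem he₁) r₂ hr₂).symm
    have h4 : r₁ * e₁⁻¹ = e₁⁻¹ * r₁ := (hER e₁⁻¹ (E.inv_mem he₁) r₁ hr₁).symm
    calc e₁ * r₁ * (e₂ * r₂) * (e₁ * r₁)⁻¹ * (e₂ * r₂)⁻¹
        = e₁ * (r₁ * e₂) * r₂ * r₁⁻¹ * e₁⁻¹ * r₂⁻¹ * e₂⁻¹ := by group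
      _ = e₁ * e₂ * (r₁ * r₂) * r₁⁻¹ * e₁⁻¹ * r₂⁻¹ * e₂⁻¹ := by rw [h1]; group
      _ = e₁ * e₂ * (r₂ * e₁⁻¹) * r₂⁻¹ * e₂⁻¹ := by rw [h2]; group
      _ = e₁ * e₂ * e₁⁻¹ * e₂⁻¹ := by rw [h3]; group
  rw [hcomm]
  set c := e₁ * e₂ * e₁⁻¹ * e₂⁻¹ with hc
  have hcE : c ∈ E := E.mul_mem (E.mul_mem (E.mul_mem he₁ he₂) (E.inv_mem he₁)) (E.inv_mem he₂)
  have hcZE : ∀ e ∈ E, e * c = c * e := by
    rcases hE with hE | hE
    · intro e he
      have h1 : e₁ = 1 := by rw [hE] at he₁; exact Subgroup.mem_bot.mp he₁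
      have h2 : e₂ = 1 := by rw [hE] at he₂; exact Subgroup.mem_bot.mp he₂
      rw [hc, h1, h2]; simp
    · intro e he
      have h1 : (⟨c, hcE⟩ : E) ∈ commutator E := by
        have : (⟨c, hcE⟩ : E) = ⁅(⟨e₁, he₁⟩ : E), (⟨e₂, he₂⟩ : E)⁆ := by
          apply Subtype.ext
          rw [commutatorElement_def]; rfl
        rw [this, commutator_def]
        exact Subgroup.commutator_mem_commutator (Subgroup.mem_top _) (Subgroup.mem_top _)
      rw [hE] at h1
      have := Subgroup.mem_center_iff.mp h1 ⟨e, he⟩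
      exact congrArg Subtype.val this
  rw [Subgroup.mem_center_iff]
  intro y
  obtain ⟨e, he, r, hr, rfl⟩ := hdec y
  calc e * r * c = e * (r * c) := by group
    _ = e * (c * r) := by rw [(hER c hcE r hr).symm]
    _ = (e * c) * r := by group
    _ = c * e * r := by rw [hcZE e he]
    _ = c * (e * r) := by group

end grp

section hall
variable {G : Type u} [Group G] [Finite G]

/-- normal `p`-subgroups (`p` odd) of a group in which normal abelian subgroups are central and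
the centre is cyclic have class at most two, with commutators central in `G` -/
theorem normal_pgroup_comm_central (p : ℕ) [hp : Fact p.Prime] (hp2 : p ≠ 2)
    (hcenter : ∀ A : Subgroup G, A.Normal → (∀ a ∈ A, ∀ b ∈ A, a * b = b * a) →
      A ≤ Subgroup.center G)
    (hcyc : IsCyclic (Subgroup.center G))
    (P : Subgroup G) [hP : P.Normal] (hPp : IsPGroup p P) :
    ∀ a ∈ P, ∀ b ∈ P, a * b * a⁻¹ * b⁻¹ ∈ Subgroup.center G := by
  have hmapc : ∀ A : Subgroup P, A.Characteristic → (∀ x ∈ A, ∀ y ∈ A, x * y = y * x) →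
      A.map P.subtype ≤ Subgroup.center G := by
    intro A hAchar hAc
    haveI := hAchar
    apply hcenter (A.map P.subtype) inferInstance
    rintro a ⟨x, hx, rfl⟩ b ⟨y, hy, rfl⟩
    have := hAc x hx y hy
    exact congrArg Subtype.val this
  have hsymp : ∀ A : Subgroup P, A.Characteristic → IsMulCommutative A → IsCyclic A := by
    intro A hAchar hAcomm
    have hAc : ∀ x ∈ A, ∀ y ∈ A, x * y = y * x := by
      intro x hx y hy
      have := (IsMulCommutative.is_comm (M := A)).comm ⟨x, hx⟩ ⟨y, hy⟩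
      exact congrArg Subtype.val this
    have hle := hmapc A hAchar hAc
    let f : A →* Subgroup.center G :=
      { toFun := fun a => ⟨(a : P), hle ⟨(a : P), a.2, rfl⟩⟩
        map_one' := rfl
        map_mul' := fun a b => rfl }
    haveI := hcyc
    apply isCyclic_of_injective f
    intro a b hab
    apply Subtype.ext
    apply Subtype.ext
    exact congrArg (fun z : Subgroup.center G => (z : G)) hab
  obtain ⟨E, R, hER, hsup, hE, hR⟩ := Cfsg.Agent.S3762.result hPp hsymp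
  have hR' : IsCyclic R := by
    rcases hR with h | ⟨h2, _⟩
    · exact h
    · exact absurd h2 hp2
  have hE' : E = ⊥ ∨ commutator E = Subgroup.center E := by
    rcases hE with h | h
    · left; exact h
    · right; exact h.1.2.2
  have hcl := class_two_of_hall E R hER hsup hE' hR'
  have hZ := hmapc (Subgroup.center P) inferInstance
    (fun x hx y _ => (Subgroup.mem_center_iff.mp hx y).symm)
  intro a ha b hb
  have h1 := hcl ⟨a, ha⟩ ⟨b, hb⟩
  exact hZ ⟨_, h1, rfl⟩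

end hall

section aux

/-- number-theoretic core -/
theorem nt_factorization (p : ℕ) (hp : p.Prime) (d zP w cP idx s t : ℕ) (hd : d ≠ 0)
    (h1 : d ^ 2 = zP * w) (hw : w.Coprime p) (hzP : zP = p ^ s) (hcP : cP = p ^ t)
    (hle : zP ≤ cP ^ 2) (hdvd : cP ∣ idx) (hidx : idx ≠ 0) :
    d.factorization p ≤ idx.factorization p := by
  have hzP0 : zP ≠ 0 := by rw [hzP]; exact pow_ne_zero _ hp.ne_zero
  have hw0 : w ≠ 0 := by
    intro h; rw [h, mul_zero] at h1; exact hd (pow_eq_zero_iff (two_ne_zero) |>.mp h1)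
  have hcP0 : cP ≠ 0 := by rw [hcP]; exact pow_ne_zero _ hp.ne_zero
  have e1 : (d ^ 2).factorization p = 2 * d.factorization p := by
    rw [Nat.factorization_pow]; rfl
  have e2 : (zP * w).factorization p = s := by
    rw [Nat.factorization_mul hzP0 hw0, Finsupp.add_apply, hzP, hp.factorization_pow,
      Finsupp.single_eq_same,
      Nat.factorization_eq_zero_of_not_dvd (fun h => hp.one_lt.ne'
        (Nat.Coprime.eq_one_of_dvd hw.symm h)), add_zero]
  have e3 : 2 * d.factorization p = s := by rw [← e1, h1, e2]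
  have e4 : s ≤ 2 * t := by
    rw [hzP, hcP, ← pow_mul] at hle
    have := (Nat.pow_le_pow_iff_right hp.one_lt).mp hle
    omega
  have e5 : cP.factorization p = t := by
    rw [hcP, hp.factorization_pow, Finsupp.single_eq_same]
  have e6 : cP.factorization p ≤ idx.factorization p :=
    (Nat.factorization_le_iff_dvd hcP0 hidx).mpr hdvd p
  omega

/-- a power of a product of commuting elements of coprime orders -/
theorem exists_pow_eq {Q : Type*} [Group Q] (x y : Q) (hxy : x * y = y * x)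
    (hcop : (orderOf x).Coprime (orderOf y)) : ∃ m : ℕ, (x * y) ^ m = x := by
  obtain ⟨m, hm1, hm0⟩ := Nat.chineseRemainder hcop 1 0
  refine ⟨m, ?_⟩
  rw [(show Commute x y from hxy).mul_pow]
  have h1 : x ^ m = x ^ 1 := pow_eq_pow_iff_modEq.mpr hm1
  have h2 : y ^ m = 1 := orderOf_dvd_iff_pow_eq_one.mp ((Nat.modEq_zero_iff_dvd).mp hm0)
  rw [h1, h2, pow_one, mul_one]

/-- lifting the previous lemma through a quotient -/
theorem crt_lift {G : Type*} [Group G] (F : Subgroup G) [F.Normal] (g x y : G)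
    (hg : (g : G ⧸ F) = (x : G ⧸ F) * (y : G ⧸ F))
    (hc : (x : G ⧸ F) * (y : G ⧸ F) = (y : G ⧸ F) * (x : G ⧸ F))
    (hcop : (orderOf (x : G ⧸ F)).Coprime (orderOf (y : G ⧸ F))) :
    ∃ (m : ℕ) (k : G), k ∈ F ∧ g ^ m = x * k := by
  obtain ⟨m, hm⟩ := exists_pow_eq (x : G ⧸ F) (y : G ⧸ F) hc hcop
  refine ⟨m, x⁻¹ * g ^ m, ?_, by group⟩
  rw [← QuotientGroup.eq]
  rw [QuotientGroup.mk_pow, hg, hm]

end aux

section preimage
variable {G : Type u} [Group G] [Finite G]

/-- preimage of the Sylow `q`-subgroup of the nilpotent quotient `G / F` -/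
theorem sylow_preimage (F : Subgroup G) [hF : F.Normal] (hnil : Group.IsNilpotent (G ⧸ F))
    (p q : ℕ) [hp : Fact p.Prime] [hq : Fact q.Prime] (hpq : p ≠ q)
    (hcard : ∃ a b : ℕ, Nat.card G = p ^ a * q ^ b) (S : Sylow q (G ⧸ F)) :
    ((S : Subgroup (G ⧸ F)).comap (QuotientGroup.mk' F)).Normal ∧
    F ≤ (S : Subgroup (G ⧸ F)).comap (QuotientGroup.mk' F) ∧
    (∃ n, F.relIndex ((S : Subgroup (G ⧸ F)).comap (QuotientGroup.mk' F)) = q ^ n) ∧
    (∃ n, ((S : Subgroup (G ⧸ F)).comap (QuotientGroup.mk' F)).index = p ^ n) := by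
  haveI := hnil
  haveI hSn : (S : Subgroup (G ⧸ F)).Normal := inferInstance
  refine ⟨hSn.comap _, ?_, ?_, ?_⟩
  · intro x hx
    rw [Subgroup.mem_comap, QuotientGroup.mk'_apply, (QuotientGroup.eq_one_iff x).mpr hx]
    exact Subgroup.one_mem _
  · have h1 : F = (⊥ : Subgroup (G ⧸ F)).comap (QuotientGroup.mk' F) := by
      rw [MonoidHom.comap_bot, QuotientGroup.ker_mk']
    obtain ⟨n, hn⟩ := IsPGroup.iff_card.mp S.2
    refine ⟨n, ?_⟩
    have h2 : F.relIndex ((S : Subgroup (G ⧸ F)).comap (QuotientGroup.mk' F)) =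
        ((⊥ : Subgroup (G ⧸ F)).comap (QuotientGroup.mk' F)).relIndex
          ((S : Subgroup (G ⧸ F)).comap (QuotientGroup.mk' F)) := by
      congr 1
    rw [h2, Subgroup.relIndex_comap, Subgroup.relIndex_bot_left,
      Subgroup.map_comap_eq_self_of_surjective (QuotientGroup.mk'_surjective F)]
    exact hn
  · rw [Subgroup.index_comap_of_surjective _ (QuotientGroup.mk'_surjective F)]
    obtain ⟨a, b, hab⟩ := hcard
    have h1 : (S : Subgroup (G ⧸ F)).index ∣ p ^ a * q ^ b := by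
      rw [← hab]
      exact dvd_trans (Subgroup.index_dvd_card _) (Subgroup.card_quotient_dvd_card F)
    have h2 : ((S : Subgroup (G ⧸ F)).index).Coprime (q ^ b) := by
      apply Nat.Coprime.pow_right
      exact ((Nat.Prime.coprime_iff_not_dvd hq.out).mpr S.not_dvd_index).symm
    have h3 : (S : Subgroup (G ⧸ F)).index ∣ p ^ a := h2.dvd_of_dvd_mul_right h1
    obtain ⟨n, -, hn⟩ := (Nat.dvd_prime_pow hp.out).mp h3
    exact ⟨n, hn⟩

end preimage

section split
variable {G : Type u} [Group G] [Finite G]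

/-- splitting the index `|F : F ∩ Z|` along `F = P ⊔ Q` -/
theorem relIndex_split (Z F P Q : Subgroup G) [hZ : Z.Normal] [hF : F.Normal] [hP : P.Normal]
    (hPF : P ≤ F) (hFeq : F = P ⊔ Q) :
    ∃ w : ℕ, Z.relIndex F = Z.relIndex P * w ∧ w ∣ Nat.card Q := by
  haveI hZF : (Z ⊓ F).Normal := inferInstance
  refine ⟨(P ⊔ (Z ⊓ F)).relIndex F, ?_, ?_⟩
  · have h1 : Z.relIndex F = (Z ⊓ F).relIndex F := (Subgroup.inf_relIndex_right Z F).symm
    have h2 : (Z ⊓ F).relIndex (P ⊔ (Z ⊓ F)) * (P ⊔ (Z ⊓ F)).relIndex F = (Z ⊓ F).relIndex F :=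
      Subgroup.relIndex_mul_relIndex _ _ _ le_sup_right (sup_le hPF inf_le_right)
    have h3 : (Z ⊓ F).relIndex (P ⊔ (Z ⊓ F)) = (Z ⊓ F).relIndex P :=
      Subgroup.relIndex_sup_right P (Z ⊓ F)
    have h4 : (Z ⊓ F).relIndex P = Z.relIndex P := by
      rw [← Subgroup.inf_relIndex_right (Z ⊓ F) P, inf_assoc, inf_eq_right.mpr hPF,
        Subgroup.inf_relIndex_right]
    rw [h1, ← h2, h3, h4]
  · have h1 : (P ⊔ (Z ⊓ F)).relIndex F ∣ P.relIndex F :=
      Subgroup.relIndex_dvd_of_le_left F le_sup_left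
    have h2 : P.relIndex F = P.relIndex Q := by
      rw [hFeq]; exact Subgroup.relIndex_sup_left Q P
    rw [h2] at h1
    exact dvd_trans h1 (Subgroup.relIndex_dvd_card P Q)

/-- the prime-by-prime conclusion -/
theorem factorization_le_of_bound (p q : ℕ) [hp : Fact p.Prime] [hq : Fact q.Prime] (hpq : p ≠ q)
    (Z F P Q C : Subgroup G) [hZ : Z.Normal] [hF : F.Normal] [hP : P.Normal]
    (hPF : P ≤ F) (hFeq : F = P ⊔ Q) (hPp : IsPGroup p P) (hQq : IsPGroup q Q)
    (d : ℕ) (hd : d ≠ 0) (hdeg : d ^ 2 = Z.relIndex F)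
    (hL : Z.relIndex P ≤ (C.relIndex P) ^ 2) :
    d.factorization p ≤ C.index.factorization p := by
  obtain ⟨w, hw1, hw2⟩ := relIndex_split Z F P Q hPF hFeq
  obtain ⟨a, ha⟩ := IsPGroup.iff_card.mp hPp
  obtain ⟨b, hb⟩ := IsPGroup.iff_card.mp hQq
  have hwcop : w.Coprime p := by
    rw [hb] at hw2
    obtain ⟨j, -, hj⟩ := (Nat.dvd_prime_pow hq.out).mp hw2
    rw [hj]
    exact Nat.Coprime.pow_left _ ((Nat.coprime_primes hq.out hp.out).mpr hpq.symm)
  obtain ⟨s, hs⟩ : ∃ s, Z.relIndex P = p ^ s := by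
    have := Subgroup.relIndex_dvd_card Z P
    rw [ha] at this
    obtain ⟨s, -, hs⟩ := (Nat.dvd_prime_pow hp.out).mp this
    exact ⟨s, hs⟩
  obtain ⟨t, ht⟩ : ∃ t, C.relIndex P = p ^ t := by
    have := Subgroup.relIndex_dvd_card C P
    rw [ha] at this
    obtain ⟨t, -, ht⟩ := (Nat.dvd_prime_pow hp.out).mp this
    exact ⟨t, ht⟩
  exact nt_factorization p hp.out d (Z.relIndex P) w (C.relIndex P) C.index s t hd
    (by rw [hdeg, hw1]) hwcop hs ht hL
    (Cfsg.Agent.Helper79.relIndex_dvd_index_of_normal_right C P) Subgroup.index_ne_zero_of_finite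

end split

section main
variable {G : Type u} [Group G] [Fintype G]

/-- the faithful case of the theorem -/
theorem faithful_case (p q : ℕ) [hp : Fact p.Prime] [hq : Fact q.Prime] (hpq : p ≠ q)
    (hp2 : p ≠ 2) (hq2 : q ≠ 2) (hcard : ∃ a b : ℕ, Nat.card G = p ^ a * q ^ b)
    [hF : (Cfsg.fittingSubgroup G).Normal]
    (hmeta : Group.IsNilpotent (G ⧸ Cfsg.fittingSubgroup G))
    (χ : IrrCharacter G) (hprim : IsPrim (χ : G → ℂ))
    (hf : ∀ g : G, (χ : G → ℂ) g = (χ : G → ℂ) 1 → g = 1) :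
    ∃ g : G, charDegree (χ : G → ℂ) ∣ (Subgroup.centralizer ({g} : Set G)).index := by
  classical
  set F := Cfsg.fittingSubgroup G with hFdef
  have hχ : IsIrrCharacter G (χ : G → ℂ) := χ.2
  have hcenter : ∀ A : Subgroup G, A.Normal → (∀ a ∈ A, ∀ b ∈ A, a * b = b * a) →
      A ≤ Subgroup.center G := fun A hA hAc => abel_central hχ hprim hf A hA hAc
  have hcyc := center_cyclic χ hf
  set P := Cfsg.pCore p G with hPdef
  set Q := Cfsg.pCore q G with hQdef
  haveI hPn : P.Normal := inferInstance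
  haveI hQn : Q.Normal := inferInstance
  have hPp : IsPGroup p P := Cfsg.Agent.Helper22.isPGroup_pCore p
  have hQq : IsPGroup q Q := Cfsg.Agent.Helper22.isPGroup_pCore q
  have hclP := normal_pgroup_comm_central p hp2 hcenter hcyc P hPp
  have hclQ := normal_pgroup_comm_central q hq2 hcenter hcyc Q hQq
  have hPF : P ≤ F := Cfsg.Agent.Helper22.pCore_le_fittingSubgroup p
  have hQF : Q ≤ F := Cfsg.Agent.Helper22.pCore_le_fittingSubgroup q
  obtain ⟨a₀, b₀, hab⟩ := hcard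
  have hFPQ : F ≤ P ⊔ Q := by
    rw [hFdef, Cfsg.Agent.Helper22.fittingSubgroup_eq_iSup_pCore]
    refine iSup_le ?_
    rintro ⟨r, hr⟩
    by_cases h1 : r = p
    · subst h1; exact le_sup_left
    by_cases h2 : r = q
    · subst h2; exact le_sup_right
    haveI := Fact.mk hr
    have hrp : IsPGroup r (Cfsg.pCore r G) := Cfsg.Agent.Helper22.isPGroup_pCore r
    obtain ⟨k, hk⟩ := IsPGroup.iff_card.mp hrp
    have hk0 : k = 0 := by
      by_contra hk0
      have h3 : r ∣ Nat.card G := by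
        apply dvd_trans _ (Subgroup.card_subgroup_dvd_card (Cfsg.pCore r G))
        rw [hk]; exact dvd_pow_self r hk0
      rw [hab] at h3
      rcases (Nat.Prime.dvd_mul hr).mp h3 with h4 | h4
      · exact h1 ((Nat.prime_dvd_prime_iff_eq hr hp.out).mp (hr.dvd_of_dvd_pow h4))
      · exact h2 ((Nat.prime_dvd_prime_iff_eq hr hq.out).mp (hr.dvd_of_dvd_pow h4))
    rw [hk0, pow_zero] at hk
    have : Cfsg.pCore r G = ⊥ := Subgroup.card_eq_one.mp hk
    change Cfsg.pCore r G ≤ P ⊔ Q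
    rw [this]; exact bot_le
  have hFeq : F = P ⊔ Q := le_antisymm hFPQ (sup_le hPF hQF)
  have hdisj : Disjoint P Q := IsPGroup.disjoint_of_ne p q hpq P Q hPp hQq
  have hcomm : ∀ x ∈ P, ∀ y ∈ Q, Commute x y := fun x hx y hy =>
    Subgroup.commute_of_normal_of_disjoint P Q hPn hQn hdisj x y hx hy
  have hdecF : ∀ f ∈ F, ∃ x ∈ P, ∃ y ∈ Q, f = x * y := by
    intro f hf'
    have h1 : f ∈ ((P ⊔ Q : Subgroup G) : Set G) := hFPQ hf'
    rw [Subgroup.mul_normal P Q] at h1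
    obtain ⟨x, hx, y, hy, rfl⟩ := h1
    exact ⟨x, hx, y, hy, rfl⟩
  -- commutators of F are central
  have hclF : ∀ a ∈ F, ∀ b ∈ F, a * b * a⁻¹ * b⁻¹ ∈ Subgroup.center G := by
    intro a ha b hb
    obtain ⟨x, hx, y, hy, rfl⟩ := hdecF a ha
    obtain ⟨x', hx', y', hy', rfl⟩ := hdecF b hb
    let φ : P × Q →* G := MonoidHom.noncommCoprod P.subtype Q.subtype
      (fun m n => hcomm m m.2 n n.2)
    have h1 : x * y * (x' * y') * (x * y)⁻¹ * (x' * y')⁻¹ =
        (x * x' * x⁻¹ * x'⁻¹) * (y * y' * y⁻¹ * y'⁻¹) := by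
      have e1 : x * y = φ (⟨x, hx⟩, ⟨y, hy⟩) := rfl
      have e2 : x' * y' = φ (⟨x', hx'⟩, ⟨y', hy'⟩) := rfl
      rw [e1, e2, ← map_inv, ← map_inv, ← map_mul, ← map_mul, ← map_mul]
      rfl
    rw [h1]
    exact Subgroup.mul_mem _ (hclP x hx x' hx') (hclQ y hy y' hy')
  -- the centre of F is central
  have hZF : ∀ x ∈ F, (∀ y ∈ F, x * y = y * x) → x ∈ Subgroup.center G := by
    intro x hx hxc
    let A : Subgroup G := Subgroup.centralizer (F : Set G) ⊓ F
    have hAn : A.Normal := inferInstance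
    have hAc : ∀ a ∈ A, ∀ b ∈ A, a * b = b * a := by
      intro a ha b hb
      exact (Subgroup.mem_centralizer_iff.mp (Subgroup.mem_inf.mp ha).1 b
        (Subgroup.mem_inf.mp hb).2).symm
    apply hcenter A hAn hAc
    refine Subgroup.mem_inf.mpr ⟨?_, hx⟩
    rw [Subgroup.mem_centralizer_iff]
    intro y hy
    exact (hxc y hy).symm
  -- χ_F is irreducible
  have hirrF := restrict_irr_of_le hχ hprim F hmeta F.index F hF le_rfl rfl
  have hdeg := sq_degree_eq_relIndex χ hf F hirrF hclF hZF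
  have hstar : ∀ x : G, (∀ g : G, x * g * x⁻¹ * g⁻¹ ∈ Subgroup.center G) →
      x ∈ Subgroup.center G := star_of_central hcenter
  -- preimages of the Sylow subgroups of G / F
  let Sp : Sylow p (G ⧸ F) := default
  let Sq : Sylow q (G ⧸ F) := default
  obtain ⟨hBn, hFB, hBK, hGB⟩ := sylow_preimage F hmeta p q hpq ⟨a₀, b₀, hab⟩ Sq
  obtain ⟨hAn, hFA, hAK, hGA⟩ := sylow_preimage F hmeta q p hpq.symm
    ⟨b₀, a₀, by rw [hab, mul_comm]⟩ Sp
  set B₁ := (Sq : Subgroup (G ⧸ F)).comap (QuotientGroup.mk' F) with hB₁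
  set A₁ := (Sp : Subgroup (G ⧸ F)).comap (QuotientGroup.mk' F) with hA₁
  haveI := hBn
  haveI := hAn
  obtain ⟨x, hxB, hxL⟩ := lemmaL p q P hpq hPp hclP (fun x _ h => hstar x h) F B₁ hFB
    (fun x hx k hk => hclF x (hPF hx) k hk) hBK hGB
  obtain ⟨y, hyA, hyL⟩ := lemmaL q p Q hpq.symm hQq hclQ (fun x _ h => hstar x h) F A₁ hFA
    (fun x hx k hk => hclF x (hQF hx) k hk) hAK hGA
  refine ⟨x * y, ?_⟩
  -- images in the quotient
  haveI := hmeta
  have hxS : (x : G ⧸ F) ∈ (Sq : Subgroup (G ⧸ F)) := hxB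
  have hyS : (y : G ⧸ F) ∈ (Sp : Subgroup (G ⧸ F)) := hyA
  have hdisj' : Disjoint (Sq : Subgroup (G ⧸ F)) (Sp : Subgroup (G ⧸ F)) :=
    IsPGroup.disjoint_of_ne q p hpq.symm _ _ Sq.2 Sp.2
  have hc : (x : G ⧸ F) * (y : G ⧸ F) = (y : G ⧸ F) * (x : G ⧸ F) :=
    Subgroup.commute_of_normal_of_disjoint _ _ inferInstance inferInstance hdisj' _ _ hxS hyS
  have hcop : (orderOf (x : G ⧸ F)).Coprime (orderOf (y : G ⧸ F)) := by
    obtain ⟨i, hi⟩ := (IsPGroup.iff_orderOf.mp Sq.2) ⟨_, hxS⟩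
    obtain ⟨j, hj⟩ := (IsPGroup.iff_orderOf.mp Sp.2) ⟨_, hyS⟩
    rw [Subgroup.orderOf_mk] at hi hj
    rw [hi, hj]
    exact Nat.Coprime.pow _ _ ((Nat.coprime_primes hq.out hp.out).mpr hpq.symm)
  obtain ⟨m, k, hk, hmk⟩ := crt_lift F (x * y) x y rfl hc hcop
  obtain ⟨m', k', hk', hmk'⟩ := crt_lift F (x * y) y x hc hc.symm hcop.symm
  have hL1 := hxL (x * y) m k hk hmk
  have hL2 := hyL (x * y) m' k' hk' hmk'
  set d := charDegree (χ : G → ℂ) with hddef
  have hd0 : d ≠ 0 := (Cfsg.Agent.Helper79.irr_one_eq χ).2.ne'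
  set C := Subgroup.centralizer ({x * y} : Set G) with hCdef
  have hC0 : C.index ≠ 0 := Subgroup.index_ne_zero_of_finite
  rw [← Nat.factorization_prime_le_iff_dvd hd0 hC0]
  intro r hr
  by_cases h1 : r = p
  · subst h1
    exact factorization_le_of_bound r q hpq (Subgroup.center G) F P Q C hPF hFeq hPp hQq d hd0
      hdeg hL1
  by_cases h2 : r = q
  · subst h2
    exact factorization_le_of_bound r p hpq.symm (Subgroup.center G) F Q P C hQF
      (by rw [hFeq, sup_comm]) hQq hPp d hd0 hdeg hL2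
  have h3 : d.factorization r = 0 := by
    apply Nat.factorization_eq_zero_of_not_dvd
    intro hrd
    have h4 : r ∣ Nat.card G := by
      have h5 : r ∣ d ^ 2 := dvd_trans hrd (dvd_pow_self d two_ne_zero)
      rw [hdeg] at h5
      exact dvd_trans h5 (dvd_trans (Subgroup.relIndex_dvd_card _ _)
        (Subgroup.card_subgroup_dvd_card F))
    rw [hab] at h4
    rcases (Nat.Prime.dvd_mul hr).mp h4 with h6 | h6
    · exact h1 ((Nat.prime_dvd_prime_iff_eq hr hp.out).mp (hr.dvd_of_dvd_pow h6))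
    · exact h2 ((Nat.prime_dvd_prime_iff_eq hr hq.out).mp (hr.dvd_of_dvd_pow h6))
  rw [h3]
  exact Nat.zero_le _

end main

end Cfsg.Agent.Helper76.PrimMain
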