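import Mathlib
import Cfsg.Prelude.Def_Characters
import Cfsg.Prelude.Def_Blocks
import Cfsg.Prelude.Def_Solvable
import Cfsg.Agent.Lib.Helper76.PrimMain
import Cfsg.Agent.Lib.Helper79.Inflation
import Cfsg.Agent.Lib.Helper3.CharNilpotent

/-!
# Primitive characters of odd metanilpotent `{p,q}`-groups: reduction to the faithful case
(helper76)
-/

set_option autoImplicit false
set_option linter.style.haveILetI false
set_option linter.unusedSectionVars false
set_option linter.unusedVariables false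

namespace Cfsg.Agent.Helper76.PrimRed

open Cfsg Cfsg.Agent.Helper81 Cfsg.Agent.Helper79 Cfsg.Agent.Helper76.PrimChar
  Cfsg.Agent.Helper76.PrimMain

universe u

theorem two_primes {n : ℕ} (hodd : Odd n) (h2 : n.primeFactors.card = 2) :
    ∃ p q : ℕ, p.Prime ∧ q.Prime ∧ p ≠ q ∧ p ≠ 2 ∧ q ≠ 2 ∧ ∃ a b : ℕ, n = p ^ a * q ^ b := by
  obtain ⟨p, q, hpq, hpf⟩ := Finset.card_eq_two.mp h2
  have hn0 : n ≠ 0 := by
    rintro rfl
    exact absurd hodd (by decide)
  have hp : p ∈ n.primeFactors := by rw [hpf]; simp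
  have hq : q ∈ n.primeFactors := by rw [hpf]; simp
  have hpp := Nat.prime_of_mem_primeFactors hp
  have hqp := Nat.prime_of_mem_primeFactors hq
  have h2n : ¬ 2 ∣ n := by
    intro h
    exact (Nat.not_even_iff_odd.mpr hodd) (even_iff_two_dvd.mpr h)
  refine ⟨p, q, hpp, hqp, hpq, ?_, ?_, n.factorization p, n.factorization q, ?_⟩
  · rintro rfl; exact h2n (Nat.dvd_of_mem_primeFactors hp)
  · rintro rfl; exact h2n (Nat.dvd_of_mem_primeFactors hq)
  · have h := Nat.prod_factorization_pow_eq_self hn0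
    rw [Finsupp.prod, Nat.support_factorization, hpf, Finset.prod_pair hpq] at h
    exact h.symm

section main
variable {G : Type u} [Group G] [Fintype G]

theorem main (hodd : Odd (Nat.card G)) (h2 : (Nat.card G).primeFactors.card = 2)
    [hF : (Cfsg.fittingSubgroup G).Normal]
    (hmeta : Group.IsNilpotent (G ⧸ Cfsg.fittingSubgroup G)) (χ : IrrCharacter G)
    (hprim : ¬ ∃ (H : Subgroup G), H ≠ ⊤ ∧ ∃ θ : ↥H → ℂ, IsCharacter ↥H θ ∧
      indFun H θ = (χ : G → ℂ)) :
    ∃ g : G, charDegree (χ : G → ℂ) ∣ (Subgroup.centralizer ({g} : Set G)).index := by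
  classical
  obtain ⟨p, q, hp, hq, hpq, hp2, hq2, a, b, hab⟩ := two_primes hodd h2
  haveI := Fact.mk hp
  haveI := Fact.mk hq
  set K := irrKer χ with hK
  haveI : Fintype (G ⧸ K) := Fintype.ofFinite _
  obtain ⟨ψ, hψ⟩ := exists_deflate K χ le_rfl
  have hval : ∀ g : G, (χ : G → ℂ) g = (ψ : G ⧸ K → ℂ) (g : G ⧸ K) := by
    intro g
    have h := congrArg (fun φ : IrrCharacter G => (φ : G → ℂ) g) hψ
    exact h.symm
  have hcardQ : ∃ a' b' : ℕ, Nat.card (G ⧸ K) = p ^ a' * q ^ b' := by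
    have h1 : Nat.card (G ⧸ K) ∣ p ^ a * q ^ b := by
      rw [← hab]; exact Subgroup.card_quotient_dvd_card K
    obtain ⟨k₁, k₂, hk₁, hk₂, hk⟩ := Nat.dvd_mul.mp h1
    obtain ⟨a', -, ha'⟩ := (Nat.dvd_prime_pow hp).mp hk₁
    obtain ⟨b', -, hb'⟩ := (Nat.dvd_prime_pow hq).mp hk₂
    exact ⟨a', b', by rw [← hk, ha', hb']⟩
  have hmetaQ : Group.IsNilpotent ((G ⧸ K) ⧸ Cfsg.fittingSubgroup (G ⧸ K)) := by
    have hle : Cfsg.fittingSubgroup G ≤
        (Cfsg.fittingSubgroup (G ⧸ K)).comap (QuotientGroup.mk' K) := by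
      rw [← Subgroup.map_le_iff_le_comap]
      apply Cfsg.Agent.Helper22.le_fittingSubgroup
      · exact Subgroup.Normal.map hF _ (QuotientGroup.mk'_surjective K)
      · haveI : Group.IsNilpotent (Cfsg.fittingSubgroup G) :=
          Cfsg.Agent.Helper22.isNilpotent_fittingSubgroup
        exact Group.nilpotent_of_surjective
          ((QuotientGroup.mk' K).subgroupMap (Cfsg.fittingSubgroup G))
          (MonoidHom.subgroupMap_surjective _ _)
    haveI := hmeta
    apply Group.nilpotent_of_surjective (QuotientGroup.map (Cfsg.fittingSubgroup G)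
      (Cfsg.fittingSubgroup (G ⧸ K)) (QuotientGroup.mk' K) hle)
    intro y
    obtain ⟨y', rfl⟩ := QuotientGroup.mk_surjective y
    obtain ⟨g, rfl⟩ := QuotientGroup.mk_surjective y'
    exact ⟨(g : G ⧸ Cfsg.fittingSubgroup G), rfl⟩
  have hfaith : ∀ y : G ⧸ K, (ψ : G ⧸ K → ℂ) y = (ψ : G ⧸ K → ℂ) 1 → y = 1 := by
    intro y hy
    obtain ⟨g, rfl⟩ := QuotientGroup.mk_surjective y
    rw [QuotientGroup.eq_one_iff]
    change g ∈ irrKer χ
    rw [mem_irrKer, hval, hval 1]
    exact hy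
  have hprimQ : IsPrim (ψ : G ⧸ K → ℂ) := by
    intro Hb θb hθb hind
    by_contra hne
    apply hprim
    refine ⟨Hb.comap (QuotientGroup.mk' K), ?_,
      fun h => θb ⟨QuotientGroup.mk' K (h : G), Subgroup.mem_comap.mp h.2⟩, ?_, ?_⟩
    · intro htop
      apply hne
      rw [eq_top_iff]
      intro y _
      obtain ⟨g, rfl⟩ := QuotientGroup.mk_surjective y
      have : g ∈ Hb.comap (QuotientGroup.mk' K) := by rw [htop]; exact Subgroup.mem_top g
      exact this
    · exact isCharacter_comp_hom ((QuotientGroup.mk' K).subgroupComap Hb) hθb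
    · ext g
      rw [Cfsg.Agent.Helper3.indFun_inflate K Hb θb g, hind, hval]
      rfl
  obtain ⟨y, hy⟩ := faithful_case p q hpq hp2 hq2 hcardQ hmetaQ ψ hprimQ hfaith
  obtain ⟨g, rfl⟩ := QuotientGroup.mk_surjective y
  refine ⟨g, ?_⟩
  have hdeg : charDegree (χ : G → ℂ) = charDegree (ψ : G ⧸ K → ℂ) := by
    have h := congrArg (fun φ : IrrCharacter G => charDegree (φ : G → ℂ)) hψ
    rw [← charDegree_inflate K ψ]
    exact h.symm
  rw [hdeg]
  apply dvd_trans hy
  have h1 : Subgroup.centralizer ({g} : Set G) ≤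
      (Subgroup.centralizer ({(g : G ⧸ K)} : Set (G ⧸ K))).comap (QuotientGroup.mk' K) := by
    intro c hc
    rw [Subgroup.mem_comap, Subgroup.mem_centralizer_iff]
    intro z hz
    rw [Set.mem_singleton_iff] at hz
    subst hz
    have := Subgroup.mem_centralizer_iff.mp hc g rfl
    rw [QuotientGroup.mk'_apply, ← QuotientGroup.mk_mul, ← QuotientGroup.mk_mul, this]
  have h2 := Subgroup.index_dvd_of_le h1
  rwa [Subgroup.index_comap_of_surjective _ (QuotientGroup.mk'_surjective K)] at h2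

end main

end Cfsg.Agent.Helper76.PrimRed
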