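import Mathlib

/-!
# REE piece (CELLS) `rank_one_cells` (helper76, for helper36's REE server, S1069/S1091/S1073)
-/

set_option autoImplicit false

namespace Cfsg.Agent.Helper76.REE

universe u

/-- (CELLS) -/
theorem rank_one_cells {M : Type u} [Group M] (T B N H U : Subgroup M) (n0 : M)
    (hUB : U ≤ B) (hHB : H ≤ B) (hHN : H ≤ N) (hn0N : n0 ∈ N) (hn0T : n0 ∈ T)
    (hHnorm : ∀ n ∈ N, ∀ h ∈ H, n * h * n⁻¹ ∈ H)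
    (hN : ∀ n ∈ N ⊓ T, n ∈ H ∨ n0 * n ∈ H)
    (hUNU : ∀ g ∈ T, ∃ u₁ ∈ U ⊓ T, ∃ n ∈ N ⊓ T, ∃ u ∈ U ⊓ T, g = u₁ * n * u) :
    ∀ g ∈ T, g ∈ B ∨ ∃ b ∈ B ⊓ T, ∃ u ∈ U ⊓ T, g = b * n0 * u := by
  intro g hg
  obtain ⟨u₁, hu₁, n, hn, u, hu, rfl⟩ := hUNU g hg
  -- the case `n ∈ H`
  have hB_of_H : n ∈ H → u₁ * n * u ∈ B := fun hnH =>
    B.mul_mem (B.mul_mem (hUB hu₁.1) (hHB hnH)) (hUB hu.1)
  rcases hN n hn with hnH | hnH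
  · exact Or.inl (hB_of_H hnH)
  · -- `h := n0 * n ∈ H`
    rcases hN n0 ⟨hn0N, hn0T⟩ with h0 | h0
    · -- `n0 ∈ H`, so `n = n0⁻¹ * h ∈ H`
      left
      apply hB_of_H
      have : n = n0⁻¹ * (n0 * n) := by group
      rw [this]
      exact H.mul_mem (H.inv_mem h0) hnH
    · -- `h2 := n0 * n0 ∈ H`
      right
      -- h3 := n * n0⁻¹
      have h3H : n * n0⁻¹ ∈ H := by
        have hconj : n0 * (n0 * n) * n0⁻¹ ∈ H := hHnorm n0 hn0N _ hnH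
        have : n * n0⁻¹ = (n0 * n0)⁻¹ * (n0 * (n0 * n) * n0⁻¹) := by group
        rw [this]
        exact H.mul_mem (H.inv_mem h0) hconj
      have h3T : n * n0⁻¹ ∈ T := T.mul_mem hn.2 (T.inv_mem hn0T)
      refine ⟨u₁ * (n * n0⁻¹), ⟨B.mul_mem (hUB hu₁.1) (hHB h3H), T.mul_mem hu₁.2 h3T⟩, u, hu, ?_⟩
      group

end Cfsg.Agent.Helper76.REE
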