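import Mathlib

/-!
# TU server (helper59, S2279), piece (LUC) `exists_offset`

`n = p^a m`, `p ∤ m`: either `m = 1`, or `p^a + 3 ≤ n` and `p ∤ C(n - 1 + p^a, n - 1)`
(Lucas, one digit at a time).
-/

set_option autoImplicit false

namespace Cfsg.Agent.Helper76.TU

/-- Lucas one digit at a time: `p ∤ C(p^a (m+1) - 1, p^a)` when `p ∤ m`. -/
theorem h76_not_dvd_choose (p : ℕ) [Fact p.Prime] (m : ℕ) (hm : ¬ p ∣ m) :
    ∀ a : ℕ, ¬ p ∣ Nat.choose (p ^ a * (m + 1) - 1) (p ^ a) := by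
  have hp : p.Prime := Fact.out
  intro a
  induction a with
  | zero =>
    simpa using hm
  | succ a ih =>
    have hq : 1 ≤ p ^ a * (m + 1) := Nat.mul_pos (pow_pos hp.pos a) (Nat.succ_pos m)
    have hT : p ^ (a + 1) * (m + 1) - 1 = (p - 1) + p * (p ^ a * (m + 1) - 1) := by
      have h1 : p ^ (a + 1) * (m + 1) = p * (p ^ a * (m + 1)) := by ring
      rw [h1]
      have h2 : 1 ≤ p := hp.pos
      obtain ⟨q, hq'⟩ : ∃ q, p ^ a * (m + 1) = q + 1 := ⟨p ^ a * (m + 1) - 1, by omega⟩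
      rw [hq']
      obtain ⟨r, hr⟩ : ∃ r, p = r + 1 := ⟨p - 1, by omega⟩
      rw [hr]
      simp only [Nat.add_sub_cancel]
      ring_nf
      omega
    have hdm := (Nat.div_mod_unique hp.pos).mpr ⟨hT.symm, Nat.sub_lt hp.pos Nat.one_pos⟩
    have hk0 : p ^ (a + 1) % p = 0 := by
      rw [pow_succ]
      exact Nat.mul_mod_left _ _
    have hk1 : p ^ (a + 1) / p = p ^ a := by
      rw [pow_succ]
      exact Nat.mul_div_cancel _ hp.pos
    have hL := Choose.choose_modEq_choose_mod_mul_choose_div_nat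
      (n := p ^ (a + 1) * (m + 1) - 1) (k := p ^ (a + 1)) (p := p)
    rw [hdm.1, hdm.2, hk0, hk1, Nat.choose_zero_right, one_mul] at hL
    intro hdvd
    exact ih ((Nat.ModEq.dvd_iff hL (dvd_refl p)).mp hdvd)

/-- piece (LUC) -/
theorem exists_offset (p n : ℕ) [Fact p.Prime] (hn : 4 ≤ n) :
    ∃ a : ℕ, n = p ^ a ∨ (p ^ a + 3 ≤ n ∧ ¬ p ∣ Nat.choose (n - 1 + p ^ a) (n - 1)) := by
  have hp : p.Prime := Fact.out
  obtain ⟨a, m, hm, hnm⟩ := Nat.exists_eq_pow_mul_and_not_dvd (n := n) (by omega) p hp.ne_one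
  refine ⟨a, ?_⟩
  by_cases h1 : m = 1
  · left
    rw [hnm, h1, mul_one]
  right
  have hs : 1 ≤ p ^ a := pow_pos hp.pos a
  have hm0 : m ≠ 0 := by
    rintro rfl
    exact hm (dvd_zero p)
  have hm2 : 2 ≤ m := by omega
  constructor
  · -- `p ^ a + 3 ≤ n`
    rcases Nat.eq_zero_or_pos a with ha | ha
    · subst ha
      simp only [pow_zero] at hnm ⊢
      omega
    · have hps : p ∣ p ^ a := dvd_pow_self p (by omega)
      have hp2 : 2 ≤ p := hp.two_le
      have hsp : p ≤ p ^ a := Nat.le_of_dvd hs hps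
      by_cases hm2' : m = 2
      · subst hm2'
        have hp3 : p ≠ 2 := by
          rintro rfl
          exact hm (dvd_refl 2)
        have : 3 ≤ p ^ a := by omega
        omega
      · have hm3 : 3 ≤ m := by omega
        have : 3 * p ^ a ≤ p ^ a * m := by nlinarith
        omega
  · have hN : n - 1 + p ^ a = p ^ a * (m + 1) - 1 := by
      have : 1 ≤ p ^ a * m := Nat.mul_pos hs (by omega)
      rw [hnm, mul_add, mul_one]
      omega
    have hsymm : Nat.choose (n - 1 + p ^ a) (n - 1) = Nat.choose (n - 1 + p ^ a) (p ^ a) :=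
      Nat.choose_symm_of_eq_add rfl
    rw [hsymm, hN]
    exact h76_not_dvd_choose p m hm a

end Cfsg.Agent.Helper76.TU
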