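import Mathlib
import Cfsg.Agent.Lib.Helper76.TU_LUC

/-!
# RW server (helper12, S2279), piece (LUC) `luc`
-/

set_option autoImplicit false

namespace Cfsg.Agent.Helper76.RW

/-- (LUC) Kummer / Lucas: no carry when adding `n - 1` and `p^a` in base `p` if `p^a ∥ n`. -/
theorem luc (p : ℕ) [Fact p.Prime] (n a : ℕ) (hn : 0 < n) (h1 : p ^ a ∣ n) (h2 : ¬ p ^ (a + 1) ∣ n) :
    ¬ p ∣ Nat.choose (n - 1 + p ^ a) (p ^ a) := by
  have hp : p.Prime := Fact.out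
  obtain ⟨m, rfl⟩ := h1
  have hm : ¬ p ∣ m := by
    rintro ⟨k, rfl⟩
    exact h2 ⟨k, by ring⟩
  have hs : 1 ≤ p ^ a := pow_pos hp.pos a
  have hN : p ^ a * m - 1 + p ^ a = p ^ a * (m + 1) - 1 := by
    rw [mul_add, mul_one]
    omega
  rw [hN]
  exact Cfsg.Agent.Helper76.TU.h76_not_dvd_choose p m hm a

end Cfsg.Agent.Helper76.RW
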