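import Mathlib
import Cfsg.Agent.Lib.Helper93.RU0
import Cfsg.Agent.Lib.Helper82.RUA
import Cfsg.Agent.Lib.Helper12.RW0
import Cfsg.Agent.Lib.Helper76.RWG5

/-!
# RW server (helper12, S2279), pieces (S2) `sig_mulVec`, (S3) `sig_vecMul`
(with the rank-one calculus R1, R2 and `Tk_inv` proved inline as `h76_*` lemmas)
-/

set_option autoImplicit false

namespace Cfsg.Agent.Helper76.RW

open Matrix Cfsg.Agent.Helper93.RU Cfsg.Agent.Helper12.RW

variable {F : Type*} [Field F] {m : ℕ}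

/-- (R1) action on column vectors -/
theorem h76_tvS_mulVec (v φ x : Fin (m + 3) → F) (h : φ ⬝ᵥ v = 0) :
    (tvS v φ).1 *ᵥ x = x + (φ ⬝ᵥ x) • v := by
  rw [Cfsg.Agent.Helper82.RU.tvS_val v φ h]
  unfold tvM
  rw [Matrix.add_mulVec, Matrix.one_mulVec]
  congr 1
  ext i
  simp only [Matrix.mulVec, Matrix.vecMulVec_apply, dotProduct, Pi.smul_apply, smul_eq_mul]
  rw [Finset.sum_mul]
  apply Finset.sum_congr rfl
  intro j _
  ring

/-- (R2) action on row vectors -/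
theorem h76_tvS_vecMul (v φ y : Fin (m + 3) → F) (h : φ ⬝ᵥ v = 0) :
    y ᵥ* (tvS v φ).1 = y + (y ⬝ᵥ v) • φ := by
  rw [Cfsg.Agent.Helper82.RU.tvS_val v φ h]
  unfold tvM
  rw [Matrix.vecMul_add, Matrix.vecMul_one]
  congr 1
  ext i
  simp only [Matrix.vecMul, Matrix.vecMulVec_apply, dotProduct, Pi.smul_apply, smul_eq_mul,
    Finset.sum_mul]
  apply Finset.sum_congr rfl
  intro j _
  ring

/-- zeros of the Gram function -/
theorem h76_mm_zero_of (d : ℤ) (h0 : 0 ≤ d) (h1 : d ≤ m + 1) : mm m F d = 0 := by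
  obtain ⟨n, rfl⟩ := Int.eq_ofNat_of_zero_le h0
  rw [mm_nat, Nat.choose_eq_zero_of_lt (by omega), Nat.cast_zero]

/-- the axis condition for `Tk` -/
theorem h76_Tk_axis (k j : ℤ) (a : F) (h : mm m F (k - j) = 0) :
    (a • Qv m F j) ⬝ᵥ Pv m F k = 0 := by
  rw [smul_dotProduct, gram, h, smul_zero]

/-- (G8') -/
theorem h76_Tk_inv (k j : ℤ) (a : F) (h : mm m F (k - j) = 0) :
    (Tk k j a)⁻¹ = Tk (m := m) k j (-a) := by
  unfold Tk
  rw [Cfsg.Agent.Helper82.RU.tvS_inv _ _ (h76_Tk_axis k j a h), neg_smul]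

/-- `Tk` on column vectors -/
theorem h76_Tk_mulVec (k j : ℤ) (a : F) (h : mm m F (k - j) = 0) (x : Fin (m + 3) → F) :
    (Tk (m := m) k j a).1 *ᵥ x = x + (a * (Qv m F j ⬝ᵥ x)) • Pv m F k := by
  unfold Tk
  rw [h76_tvS_mulVec _ _ _ (h76_Tk_axis k j a h), smul_dotProduct, smul_eq_mul]

/-- `Tk` on row vectors -/
theorem h76_Tk_vecMul (k j : ℤ) (a : F) (h : mm m F (k - j) = 0) (y : Fin (m + 3) → F) :
    y ᵥ* (Tk (m := m) k j a).1 = y + ((y ⬝ᵥ Pv m F k) * a) • Qv m F j := by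
  unfold Tk
  rw [h76_tvS_vecMul _ _ _ (h76_Tk_axis k j a h), smul_smul]

/-- (S2) `σ_k P_k = P_k - c (-1)^m P_{k+1}` -/
theorem sig_mulVec (hm : 1 ≤ m) (c : F) (k : ℤ) :
    (sig (m := m) c k).1 *ᵥ Pv m F k = Pv m F k - (c * (-1) ^ m) • Pv m F (k + 1) := by
  have hz0 : ∀ i : ℤ, mm m F (i - i) = 0 := fun i => by
    rw [sub_self]; exact h76_mm_zero_of 0 le_rfl (by positivity)
  unfold sig
  rw [h76_Tk_inv _ _ _ (hz0 (k + 1)), Matrix.SpecialLinearGroup.coe_mul, ← Matrix.mulVec_mulVec,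
    h76_Tk_mulVec _ _ _ (hz0 (k + 1)), gram, h76_Tk_mulVec _ _ _ (hz0 k), dotProduct_add,
    dotProduct_smul, gram, gram]
  have e1 : k - (k + 1) = -1 := by ring
  have e2 : k + 1 - k = 1 := by ring
  rw [e1, e2, sub_self, mm_neg_one, h76_mm_zero_of 0 le_rfl (by positivity),
    h76_mm_zero_of 1 (by norm_num) (by omega)]
  simp only [smul_eq_mul, mul_zero, add_zero, zero_smul]
  rw [sub_eq_add_neg, ← neg_smul]
  congr 2
  ring

/-- (S3) `Q_j σ_k⁻¹ = Q_j` when `0 ≤ k - j` and `k + 1 - j ≤ m + 1` -/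
theorem sig_vecMul (c : F) (k j : ℤ) (h0 : 0 ≤ k - j) (h1 : k - j ≤ m) :
    Qv m F j ᵥ* ((sig (m := m) c k)⁻¹).1 = Qv m F j := by
  have hz0 : ∀ i : ℤ, mm m F (i - i) = 0 := fun i => by
    rw [sub_self]; exact h76_mm_zero_of 0 le_rfl (by positivity)
  unfold sig
  rw [_root_.mul_inv_rev, inv_inv, h76_Tk_inv _ _ _ (hz0 k), Matrix.SpecialLinearGroup.coe_mul,
    ← Matrix.vecMul_vecMul, h76_Tk_vecMul _ _ _ (hz0 (k + 1)), gram,
    h76_mm_zero_of (k + 1 - j) (by omega) (by omega), zero_mul, zero_smul, add_zero,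
    h76_Tk_vecMul _ _ _ (hz0 k), gram, h76_mm_zero_of (k - j) h0 (by omega), zero_mul, zero_smul,
    add_zero]

end Cfsg.Agent.Helper76.RW
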