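import Mathlib
import Cfsg.Agent.Lib.Helper93.RU0
import Cfsg.Agent.Lib.Helper82.RUA
import Cfsg.Agent.Lib.Helper12.RW0
import Cfsg.Agent.Lib.Helper76.RWG5
import Cfsg.Agent.Lib.Helper76.RWS23

/-!
# RW server (helper12, S2279), piece (SM) `smove`
(with R3 `tvS_add_centre` proved inline as `h76_tvS_add_centre`)
-/

set_option autoImplicit false

namespace Cfsg.Agent.Helper76.RW

open Matrix Cfsg.Agent.Helper93.RU Cfsg.Agent.Helper12.RW

variable {F : Type*} [Field F] {m : ℕ}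

/-- (R3) same axis: centres add -/
theorem h76_tvS_add_centre (v w φ : Fin (m + 3) → F) (hv : φ ⬝ᵥ v = 0) (hw : φ ⬝ᵥ w = 0) :
    tvS (v + w) φ = tvS v φ * tvS w φ := by
  have hvw : φ ⬝ᵥ (v + w) = 0 := by rw [dotProduct_add, hv, hw, add_zero]
  apply Subtype.ext
  rw [Matrix.SpecialLinearGroup.coe_mul, Cfsg.Agent.Helper82.RU.tvS_val _ _ hvw,
    Cfsg.Agent.Helper82.RU.tvS_val _ _ hv, Cfsg.Agent.Helper82.RU.tvS_val _ _ hw]
  unfold tvM
  rw [mul_add, add_mul, add_mul, one_mul, one_mul, mul_one, Matrix.vecMulVec_mul_vecMulVec, hw,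
    zero_smul, Matrix.vecMulVec_zero, add_zero, Matrix.add_vecMulVec, add_assoc]

/-- (SM) -/
theorem smove (hm : 1 ≤ m) (c a : F) (k j : ℤ) (h0 : 0 ≤ k - j) (h1 : k - j ≤ m) :
    sig (m := m) c k * Tk k j a * (sig c k)⁻¹ * (Tk k j a)⁻¹
      = Tk (k + 1) j (-(c * (-1) ^ m * a)) := by
  have hkj : mm m F (k - j) = 0 := h76_mm_zero_of (k - j) h0 (by omega)
  have hkj1 : mm m F (k + 1 - j) = 0 := h76_mm_zero_of (k + 1 - j) (by omega) (by omega)
  have hax : (a • Qv m F j) ⬝ᵥ Pv m F k = 0 := h76_Tk_axis k j a hkj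
  have hax1 : (a • Qv m F j) ⬝ᵥ ((-(c * (-1) ^ m)) • Pv m F (k + 1)) = 0 := by
    rw [dotProduct_smul, h76_Tk_axis (k + 1) j a hkj1, smul_zero]
  have hconj := (Cfsg.Agent.Helper82.RU.tvS_conj (sig (m := m) c k) (Pv m F k) (a • Qv m F j) hax).2
  have hrow : (a • Qv m F j) ᵥ* ((sig (m := m) c k)⁻¹).1 = a • Qv m F j := by
    rw [Matrix.smul_vecMul, sig_vecMul c k j h0 h1]
  have hcol : (sig (m := m) c k).1 *ᵥ Pv m F k
      = Pv m F k + (-(c * (-1) ^ m)) • Pv m F (k + 1) := by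
    rw [sig_mulVec hm c k, sub_eq_add_neg, neg_smul]
  have hT : Tk (m := m) k j a = tvS (Pv m F k) (a • Qv m F j) := rfl
  have hcomm : tvS ((-(c * (-1) ^ m)) • Pv m F (k + 1)) (a • Qv m F j) * tvS (Pv m F k) (a • Qv m F j)
      = tvS (Pv m F k) (a • Qv m F j) * tvS ((-(c * (-1) ^ m)) • Pv m F (k + 1)) (a • Qv m F j) := by
    rw [← h76_tvS_add_centre _ _ _ hax1 hax, ← h76_tvS_add_centre _ _ _ hax hax1, add_comm]
  rw [hT, hconj, hrow, hcol, h76_tvS_add_centre _ _ _ hax hax1, ← hcomm, mul_assoc,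
    mul_inv_cancel, mul_one, Cfsg.Agent.Helper82.RU.tvS_smul, smul_smul]
  unfold Tk
  congr 2
  ring

end Cfsg.Agent.Helper76.RW
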