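import Mathlib
import Cfsg.Agent.Lib.Helper80.ConjIrr
import Cfsg.Agent.Lib.Helper79.CharBasic

/-!
# Real elements with odd centralizer force an even character degree (helper76)

If `y ≠ 1` is conjugate to its inverse and `|C_G(y)|` is odd, then `G` has an irreducible
character of even degree.  Proof: Frobenius–Schur count of square roots of `y` (exactly one),
column orthogonality between `1` and `y`, and a parity argument in the ring of algebraic
integers modulo `2`.
-/

set_option autoImplicit false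
set_option linter.style.haveILetI false

namespace Cfsg.Agent.Helper76.RealOdd

open Cfsg
open scoped ComplexConjugate

universe u

variable {G : Type u} [Group G]

theorem card_sqrt_eq_one [Finite G] (y : G)
    (hodd : Odd (Nat.card (Subgroup.centralizer ({y} : Set G)))) :
    Nat.card {u : G // u * u = y} = 1 := by
  obtain ⟨m, hm⟩ := hodd
  have hpow : ∀ u : G, u ∈ Subgroup.centralizer ({y} : Set G) → u ^ (2 * m + 1) = 1 := by
    intro u hu
    have h1 := pow_card_eq_one' (G := Subgroup.centralizer ({y} : Set G)) (x := ⟨u, hu⟩)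
    rw [hm] at h1
    have h2 := congrArg Subtype.val h1
    simpa using h2
  have hy : y ∈ Subgroup.centralizer ({y} : Set G) := by
    rw [Subgroup.mem_centralizer_singleton_iff]
  have key : ∀ u : G, u * u = y → u = y ^ (m + 1) := by
    intro u hu
    have hcu : u ∈ Subgroup.centralizer ({y} : Set G) := by
      rw [Subgroup.mem_centralizer_singleton_iff, ← hu]
      group
    have h1 := hpow u hcu
    calc u = u ^ (2 * m + 1) * u := by rw [h1, one_mul]
      _ = (u * u) ^ (m + 1) := by
        rw [← pow_two, ← pow_mul, ← pow_succ]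
        congr 1
      _ = y ^ (m + 1) := by rw [hu]
  rw [Nat.card_eq_one_iff_unique]
  refine ⟨⟨fun a b => ?_⟩, ⟨⟨y ^ (m + 1), ?_⟩⟩⟩
  · apply Subtype.ext
    rw [key a.1 a.2, key b.1 b.2]
  · have h1 := hpow y hy
    calc y ^ (m + 1) * y ^ (m + 1) = y ^ (2 * m + 1) * y := by
          rw [← pow_add, ← pow_succ]
          congr 1
          ring
      _ = y := by rw [h1, one_mul]

theorem not_isIntegral_half : ¬ IsIntegral ℤ ((1 : ℂ) / 2) := by
  intro h
  have h1 : IsIntegral ℤ (algebraMap ℚ ℂ (1 / 2 : ℚ)) := by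
    have : algebraMap ℚ ℂ (1 / 2 : ℚ) = (1 : ℂ) / 2 := by
      simp
    rw [this]
    exact h
  have h2 : IsIntegral ℤ (1 / 2 : ℚ) :=
    (isIntegral_algebraMap_iff (algebraMap ℚ ℂ).injective).1 h1
  obtain ⟨n, hn⟩ := IsIntegrallyClosed.isIntegral_iff.1 h2
  have h3 : (n : ℚ) * 2 = 1 := by
    have : (algebraMap ℤ ℚ n) = (n : ℚ) := rfl
    rw [this] at hn
    rw [hn]
    norm_num
  have h4 : n * 2 = 1 := by exact_mod_cast h3
  omega

theorem exists_even_degree [Finite G] (y s : G) (hy1 : y ≠ 1) (hinv : s * y * s⁻¹ = y⁻¹)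
    (hodd : Odd (Nat.card (Subgroup.centralizer ({y} : Set G)))) :
    ∃ χ : IrrCharacter G, Even (charDegree (χ : G → ℂ)) := by
  classical
  by_contra hne
  push Not at hne
  haveI : Fintype G := Fintype.ofFinite G
  haveI : Fintype (IrrCharacter G) := Fintype.ofFinite _
  have hreal_y : ∀ χ : IrrCharacter G, conj ((χ : G → ℂ) y) = (χ : G → ℂ) y := by
    intro χ
    rw [← Cfsg.Agent.Helper80.irr_inv, ← hinv, Cfsg.Agent.Helper80.irr_conj_class]
  -- Frobenius–Schur indicators are 0 or 1
  have hν01 : ∀ χ : IrrCharacter G,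
      (Nat.card G : ℂ)⁻¹ * ∑ u : G, (χ : G → ℂ) (u * u) =
        if (∀ g : G, ((χ : G → ℂ) g).im = 0) then 1 else 0 := by
    intro χ
    obtain ⟨h1, h2, h3⟩ := Cfsg.Agent.Helper80.irr_fs χ
    split_ifs with hr
    · rcases h1 with h0 | h1' | hm1
      · exfalso
        obtain ⟨g, hg⟩ := h2.1 h0
        exact hg (hr g)
      · exact h1'
      · exact absurd (h3 hm1) (by simpa using hne χ)
    · push Not at hr
      exact h2.2 hr
  -- count of square roots
  have hsq := Cfsg.Agent.Helper80.card_sqrt_eq y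
  rw [card_sqrt_eq_one y hodd, finsum_eq_sum_of_fintype] at hsq
  have hsq' : (1 : ℂ) = ∑ χ ∈ Finset.univ.filter
      (fun χ : IrrCharacter G => ∀ g : G, ((χ : G → ℂ) g).im = 0), (χ : G → ℂ) y := by
    rw [Finset.sum_filter]
    have : ((1 : ℕ) : ℂ) = 1 := by norm_num
    rw [← this, hsq]
    refine Finset.sum_congr rfl fun χ _ => ?_
    rw [hν01 χ]
    split_ifs <;> simp
  -- column orthogonality
  have hcol := Cfsg.Agent.Helper80.irr_second_orthogonality (1 : G) y
  rw [finsum_eq_sum_of_fintype, if_neg (by rw [isConj_one_right]; exact hy1)] at hcol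
  -- algebraic integers
  let cy : IrrCharacter G → AlgInt := fun χ =>
    ⟨(χ : G → ℂ) y, Cfsg.Agent.Helper79.irr_isIntegral χ y⟩
  let d : IrrCharacter G → ℕ := fun χ => charDegree (χ : G → ℂ)
  let F : IrrCharacter G → AlgInt := fun χ => (d χ : AlgInt) * cy χ
  have hFsum : ∑ χ : IrrCharacter G, F χ = 0 := by
    apply Subtype.ext
    rw [AddSubmonoidClass.coe_finsetSum]
    simp only [F, cy, d, ZeroMemClass.coe_zero]
    rw [← hcol]
    refine Finset.sum_congr rfl fun χ _ => ?_
    rw [hreal_y χ, Cfsg.Agent.Helper80.irr_one χ]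
    simp
  let I : Ideal AlgInt := Ideal.span {(2 : AlgInt)}
  let π := Ideal.Quotient.mk I
  have h2I : ∀ a : AlgInt, π (2 * a) = 0 := by
    intro a
    rw [Ideal.Quotient.eq_zero_iff_mem]
    exact Ideal.mul_mem_right a I (Ideal.subset_span rfl)
  set R := Finset.univ.filter
      (fun χ : IrrCharacter G => ∀ g : G, ((χ : G → ℂ) g).im = 0) with hR
  -- the non-real characters cancel in pairs
  have hN : ∑ χ ∈ Finset.univ.filter
      (fun χ : IrrCharacter G => ¬ ∀ g : G, ((χ : G → ℂ) g).im = 0), π (F χ) = 0 := by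
    refine Finset.sum_involution (fun χ _ => Cfsg.Agent.Helper80.cconjIrr χ) ?_ ?_ ?_ ?_
    · intro χ _
      have hF : F (Cfsg.Agent.Helper80.cconjIrr χ) = F χ := by
        apply Subtype.ext
        simp only [F, cy, d]
        have hd : charDegree ((Cfsg.Agent.Helper80.cconjIrr χ : IrrCharacter G) : G → ℂ) =
            charDegree (χ : G → ℂ) := by
          simp [charDegree, Cfsg.Agent.Helper80.cconjIrr_apply]
        rw [hd]
        simp [Cfsg.Agent.Helper80.cconjIrr_apply, hreal_y χ]
      rw [hF, ← map_add, ← two_mul]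
      exact h2I _
    · intro χ hχ _ h
      rw [Finset.mem_filter] at hχ
      exact hχ.2 ((Cfsg.Agent.Helper80.cconjIrr_eq_self_iff χ).1 h)
    · intro χ hχ
      rw [Finset.mem_filter] at hχ ⊢
      refine ⟨Finset.mem_univ _, fun h => hχ.2 fun g => ?_⟩
      have := h g
      simpa [Cfsg.Agent.Helper80.cconjIrr_apply] using this
    · intro χ _
      exact Cfsg.Agent.Helper80.cconjIrr_cconjIrr χ
  -- real characters: odd degree
  have hRsum : ∑ χ ∈ R, π (F χ) = ∑ χ ∈ R, π (cy χ) := by
    refine Finset.sum_congr rfl fun χ _ => ?_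
    have hoddχ : Odd (d χ) := Nat.not_even_iff_odd.1 (hne χ)
    obtain ⟨k, hk⟩ := hoddχ
    have : F χ = 2 * ((k : AlgInt) * cy χ) + cy χ := by
      simp only [F]
      rw [hk]
      push_cast
      ring
    rw [this, map_add, h2I, zero_add]
  have hsplit : ∑ χ : IrrCharacter G, π (F χ) =
      ∑ χ ∈ R, π (F χ) + ∑ χ ∈ Finset.univ.filter
      (fun χ : IrrCharacter G => ¬ ∀ g : G, ((χ : G → ℂ) g).im = 0), π (F χ) := by
    rw [hR, Finset.sum_filter_add_sum_filter_not]
  have h0 : ∑ χ ∈ R, π (cy χ) = 0 := by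
    rw [← hRsum]
    have := congrArg π hFsum
    rw [map_sum, hsplit, hN, add_zero, map_zero] at this
    exact this
  have hone : ∑ χ ∈ R, cy χ = 1 := by
    apply Subtype.ext
    rw [AddSubmonoidClass.coe_finsetSum]
    simp only [cy, OneMemClass.coe_one]
    exact hsq'.symm
  rw [← map_sum, hone, Ideal.Quotient.eq_zero_iff_mem, Ideal.mem_span_singleton'] at h0
  obtain ⟨a, ha⟩ := h0
  have ha' : (a : ℂ) * 2 = 1 := by
    have := congrArg (fun z : AlgInt => (z : ℂ)) ha
    have h2 : ((2 : AlgInt) : ℂ) = 2 := rfl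
    simp only [MulMemClass.coe_mul, OneMemClass.coe_one, h2] at this
    exact this
  apply not_isIntegral_half
  have : (1 : ℂ) / 2 = (a : ℂ) := by
    rw [← ha']
    ring
  rw [this]
  exact a.2

end Cfsg.Agent.Helper76.RealOdd
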