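import Mathlib
import Cfsg.Agent.Lib.Helper76.RuZDefs
import Cfsg.Agent.Lib.Helper51.RuSylMain
import Cfsg.Agent.Lib.Helper15.RuZD8
import Cfsg.Agent.Lib.Helper15.RuZFIX
import Cfsg.Agent.Lib.Helper24.RuZFREE2
import Cfsg.Agent.Lib.Helper25.RuZQUAD
import Cfsg.Agent.Lib.Helper4.RuZACT
import Cfsg.Agent.Lib.Helper51.RuZShort
import Cfsg.Agent.Lib.Helper56.RuZFREE1
import Cfsg.Agent.Lib.Helper81.RuZRAD
import Cfsg.Agent.Lib.Helper85.RuZCOMM

set_option autoImplicit false
set_option maxHeartbeats 400000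

namespace Cfsg.Agent.Helper76.RuZ

open Cfsg.Agent.Helper51.RuSyl

variable {T : Type*} [Group T] [Finite T]

theorem ucs_succ_comm (n : ℕ) : ∀ f ∈ Subgroup.upperCentralSeries T (n + 1), ∀ t : T,
    t * f * t⁻¹ * f⁻¹ ∈ Subgroup.upperCentralSeries T n := by
  intro f hf t
  rw [Subgroup.mem_upperCentralSeries_succ_iff] at hf
  have h1 := hf t
  rw [commutatorElement_def] at h1
  -- f * t * f⁻¹ * t⁻¹ ∈ Z_n
  have h5 := (Subgroup.upperCentralSeries T n).inv_mem h1
  have : (f * t * f⁻¹ * t⁻¹)⁻¹ = t * f * t⁻¹ * f⁻¹ := by group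
  rw [this] at h5
  exact h5

/-- product of two elements outside an index-2 subgroup. -/
theorem mul_mem_of_card_two (A B : Subgroup T) (hAB : A ≤ B) (hc : Nat.card B = 2 * Nat.card A)
    (f g : T) (hf : f ∈ B) (hg : g ∈ B) (hfA : f ∉ A) (hgA : g ∉ A) : f * g ∈ A := by
  have hrel : A.relIndex B = 2 := by
    have h1 := Cfsg.Agent.Helper51.RuSyl.card_mul_relIndex_of_le hAB
    have hpos : 0 < Nat.card A := Nat.card_pos
    rw [hc, mul_comm] at h1
    exact Nat.eq_of_mul_eq_mul_right hpos h1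
  exact Cfsg.Agent.Helper51.RuSyl.mul_mem_of_relIndex_two hrel hf hg hfA hgA

/-- the configuration extracted from the hypotheses. -/
theorem setup (W : Subgroup T) (h : Hyp W) :
    Cfg W (Subgroup.upperCentralSeries T 3) (Subgroup.upperCentralSeries T 2) ∧
      ∃ x y z : T, Gens W (Subgroup.upperCentralSeries T 3) (Subgroup.upperCentralSeries T 2) x y z := by
  classical
  obtain ⟨hT14, hW11, hidx, hFr, hc3, hexp, hder, hab, habexp⟩ := Cfsg.Agent.Helper51.RuZ.short_clauses W h
  obtain ⟨hc1', hc2', _⟩ := card_ucs h.pg h.z4 h.big'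
  set Z1 := Subgroup.upperCentralSeries T 1 with hZ1
  set Z2 := Subgroup.upperCentralSeries T 2 with hZ2
  set F := Subgroup.upperCentralSeries T 3 with hF
  have hnW := h.normalW
  have hFW : F ≤ W := by rw [← hFr]; exact Fr_le W
  have hcen : ∀ f ∈ F, ∀ a ∈ W, f * a = a * f := by
    intro f hf a ha
    rw [h.hW, Subgroup.mem_centralizer_iff] at ha
    exact ha f hf
  have h12 : Z1 ≤ Z2 := Subgroup.upperCentralSeries_mono T (by norm_num)
  have h23 : Z2 ≤ F := Subgroup.upperCentralSeries_mono T (by norm_num)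
  have hfsq : ∀ f ∈ F, f * f = 1 := by
    intro f hf
    have := hexp f hf
    rwa [sq] at this
  have hcfg : Cfg W F Z2 :=
    { nW := hnW
      nF := inferInstance
      nZ := inferInstance
      FW := hFW
      ZF := h23
      cen := hcen
      comm := by
        intro a ha b hb
        rw [← hFr]; exact h.comm_mem ha hb
      sq := by
        intro a ha
        rw [← hFr]; exact h.sq_mem ha
      fsq := hfsq
      act := ucs_succ_comm 2
      two := by
        intro f hf g hg hfZ hgZ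
        exact mul_mem_of_card_two Z2 F h23 (by rw [hc3, hc2']) f g hf hg hfZ hgZ }
  have hWc : W = Subgroup.centralizer (F : Set T) := h.hW
  have hZ1c : ∀ e ∈ Z1, ∀ t : T, t * e = e * t := by
    intro e he t
    rw [hZ1, Subgroup.upperCentralSeries_one, Subgroup.mem_center_iff] at he
    exact he t
  exact ⟨hcfg, Cfsg.Agent.Helper4.RuZ.exists_gens W F Z1 Z2 hZ1c (ucs_succ_comm 1) (ucs_succ_comm 2) h12 h23
    hc1' hc2' hc3 hfsq hWc hidx⟩

theorem center_clause (W : Subgroup T) (h : Hyp W) : Nat.card ↥(Subgroup.center ↥W) = 8 := by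
  classical
  obtain ⟨hT14, hW11, hidx, hFr, hc3, hexp, hder, hab, habexp⟩ := Cfsg.Agent.Helper51.RuZ.short_clauses W h
  obtain ⟨hc1', hc2', _⟩ := card_ucs h.pg h.z4 h.big'
  obtain ⟨hcfg, x, y, z, hg⟩ := setup W h
  set Z2 := Subgroup.upperCentralSeries T 2 with hZ2
  set F := Subgroup.upperCentralSeries T 3 with hF
  have hnW := h.normalW
  have hFW : F ≤ W := hcfg.FW
  have hcen := hcfg.cen
  -- the centre of W as a subgroup of T
  set C : Subgroup T := (Subgroup.center ↥W).map W.subtype with hC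
  have hCcard : Nat.card C = Nat.card ↥(Subgroup.center ↥W) :=
    Subgroup.card_map_of_injective W.subtype_injective
  have hCW : C ≤ W := Subgroup.map_subtype_le _
  have hmemC : ∀ s : T, s ∈ C ↔ s ∈ W ∧ ∀ a ∈ W, a * s = s * a := by
    intro s
    constructor
    · rintro ⟨s', hs', rfl⟩
      refine ⟨s'.2, fun a ha => ?_⟩
      have := Subgroup.mem_center_iff.1 hs' ⟨a, ha⟩
      exact congrArg Subtype.val this
    · rintro ⟨hsW, hs⟩
      refine ⟨⟨s, hsW⟩, ?_, rfl⟩
      show (⟨s, hsW⟩ : ↥W) ∈ Subgroup.center ↥W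
      rw [Subgroup.mem_center_iff]
      intro a
      exact Subtype.ext (hs a a.2)
  have hFC : F ≤ C := by
    intro f hf
    rw [hmemC]
    exact ⟨hFW hf, fun a ha => (hcen f hf a ha).symm⟩
  have hCn : C.Normal := by
    constructor
    intro s hs t
    rw [hmemC] at hs ⊢
    refine ⟨hnW.conj_mem s hs.1 t, fun a ha => ?_⟩
    have h1 := hs.2 (t⁻¹ * a * t) (by simpa using hnW.conj_mem a ha t⁻¹)
    calc a * (t * s * t⁻¹) = t * ((t⁻¹ * a * t) * s) * t⁻¹ := by group
      _ = t * (s * (t⁻¹ * a * t)) * t⁻¹ := by rw [h1]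
      _ = t * s * t⁻¹ * a := by group
  -- main claim: C ≤ F
  have hCF : C ≤ F := by
    by_contra hne
    obtain ⟨s, hsC, hsF, hsT⟩ := Cfsg.Agent.Helper15.RuZ.exists_central_mod h.pg F C hFC hne
    have hsW : s ∈ W := hCW hsC
    have hscen : ∀ a ∈ W, a * s = s * a := ((hmemC s).1 hsC).2
    have hcardW : Nat.card W = 2 ^ 8 * Nat.card F := by rw [hW11, hc3]; norm_num
    have hfix : ∀ U A : Subgroup T, F ≤ U → U ≤ W → W ≤ A →
        (∀ u ∈ U, ∀ a ∈ A, a * u * a⁻¹ * u⁻¹ ∈ F) → Nat.card U ≤ Nat.card F * 2 ^ A.index := by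
      intro U A h1 h2 h3 h4
      have hFn : (Fr W).Normal := h.normalFr
      have := h.card_le_of_centralizes U A (by rw [hFr]; exact h1) h2 h3 (by rw [hFr]; exact h4)
      rwa [hFr] at this
    obtain ⟨w, hwW, hwn⟩ := Cfsg.Agent.Helper56.RuZ.exists_norm_preimage W F Z2 x y z hcfg hg hidx hcardW hfix s hsW hsF hsT
    -- nrm w = (nrm w * s⁻¹) * s is central in W and not in F
    have hnF : nrm x y z w ∉ F := by
      intro hcon
      apply hsF
      have : s = (nrm x y z w * s⁻¹)⁻¹ * nrm x y z w := by group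
      rw [this]
      exact F.mul_mem (F.inv_mem hwn) hcon
    have hN : nrm x y z w * w = w * nrm x y z w := by
      have e : nrm x y z w = (nrm x y z w * s⁻¹) * s := by group
      have h1 := hcen _ hwn w hwW
      have h2 := hscen w hwW
      rw [e]
      calc nrm x y z w * s⁻¹ * s * w = nrm x y z w * s⁻¹ * (s * w) := by group
        _ = nrm x y z w * s⁻¹ * (w * s) := by rw [h2]
        _ = (nrm x y z w * s⁻¹ * w) * s := by group
        _ = (w * (nrm x y z w * s⁻¹)) * s := by rw [h1]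
        _ = w * (nrm x y z w * s⁻¹ * s) := by group
    obtain ⟨hcyc, hD16⟩ := Cfsg.Agent.Helper24.RuZ.cyclic_of_norm W F Z2 x y z hcfg hg hcardW w hwW hnF
    have hcomm := Cfsg.Agent.Helper85.RuZ.comm_dz W F Z2 x y z hcfg hg w hwW hN
    obtain ⟨hDW, hDcen, hDsq⟩ := Cfsg.Agent.Helper81.RuZ.central_mod W F Z2 x y z hcfg hg w hwW hcyc hcomm
    obtain ⟨U, hUW, hFU, hUcard⟩ := Cfsg.Agent.Helper25.RuZ.exists_small_index W F Z2
      (Subgroup.normalClosure {dz z w} ⊔ F) hcfg le_sup_right hDW hDcen hDsq hD16 hcardW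
      (by rw [hc3, hc2'])
    -- contradiction with (d)
    have hidxU : (U.subgroupOf W).index ≤ 16 := by
      have h1 : (U.subgroupOf W).index = U.relIndex W := rfl
      have h2 := Cfsg.Agent.Helper51.RuSyl.card_mul_relIndex_of_le hUW
      rw [h1]
      have hpos : 0 < Nat.card U := Nat.card_pos
      by_contra hcon
      rw [not_le] at hcon
      have : Nat.card U * 17 ≤ Nat.card U * U.relIndex W := Nat.mul_le_mul_left _ hcon
      omega
    have h5 := h.hd (U.subgroupOf W) hidxU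
    apply hFU
    intro f hf
    rw [← hFr] at hf
    obtain ⟨f', hf', rfl⟩ := hf
    have := h5 hf'
    rwa [Subgroup.mem_subgroupOf] at this
  have hCeq : C = F := le_antisymm hCF hFC
  rw [← hCcard, hCeq, hc3]

end Cfsg.Agent.Helper76.RuZ
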