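import Mathlib
import Cfsg.Agent.Lib.Helper62.SLN0
import Cfsg.Agent.Lib.Helper78.U2Rbcd

/-!
# SLNC sub-server (helper51, TOP-C of SLN, S2332), sub-piece (CI) `zero_of_char`
-/

set_option autoImplicit false

namespace Cfsg.Agent.Helper76.SLNC

open Matrix Module Cfsg.Agent.Helper93.U2 Cfsg.Agent.Helper62.SLN

section REP

variable {F : Type*} [Field F] [Fintype F] [DecidableEq F] {κ : Type} [Fintype κ] [DecidableEq κ]
  {V : Type*} [AddCommGroup V] [Module ℂ V] [FiniteDimensional ℂ V]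
  (ψ : AddChar F ℂ) (pr : Pairing (κ → F)) (hpr : ∀ w u, pr.β w u = ψ (w ⬝ᵥ u))

include hpr

omit [DecidableEq F] in
/-- sub-piece CI (Rd): vectors `x w` of weights `w ≠ 0` supported off `{j, jn}` whose SUM is fixed by all
`uEl (s • single i 1)`, `i ∉ {j, jn}`, vanish. -/
theorem zero_of_char (τ : Representation ℂ (SpecialLinearGroup (Unit ⊕ κ) F) V) (j jn : κ)
    (𝒲 : Finset (κ → F)) (h𝒲 : ∀ w ∈ 𝒲, w j = 0 ∧ w jn = 0 ∧ w ≠ 0)
    (x : (κ → F) → V) (hx : ∀ w ∈ 𝒲, x w ∈ wt pr τ w)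
    (hfix : ∀ i : κ, i ≠ j → i ≠ jn → ∀ s : F,
      τ (uEl (s • Pi.single i 1)) (∑ w ∈ 𝒲, x w) = ∑ w ∈ 𝒲, x w) :
    ∀ w ∈ 𝒲, x w = 0 := by
  classical
  intro w₀ hw₀
  obtain ⟨hw0j, hw0jn, hw0⟩ := h𝒲 w₀ hw₀
  obtain ⟨i, hi⟩ : ∃ i, w₀ i ≠ 0 := by
    by_contra hcon
    push Not at hcon
    exact hw0 (funext hcon)
  have hij : i ≠ j := fun h => hi (h ▸ hw0j)
  have hijn : i ≠ jn := fun h => hi (h ▸ hw0jn)
  have hex : ∃ b : κ → F, pr.β (Pi.single i (w₀ i)) b ≠ 1 := by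
    by_contra hcon
    push Not at hcon
    have h1 := pr.nondeg _ hcon
    have h2 := congrFun h1 i
    rw [Pi.single_eq_same] at h2
    exact hi h2
  obtain ⟨b, hb⟩ := hex
  have hβ : pr.β w₀ ((b i) • Pi.single i 1) ≠ 1 := by
    rw [hpr] at hb ⊢
    have e : w₀ ⬝ᵥ ((b i) • Pi.single i (1 : F)) = (Pi.single i (w₀ i) : κ → F) ⬝ᵥ b := by
      rw [dotProduct_smul, dotProduct_single, single_dotProduct, smul_eq_mul, mul_one, mul_comm]
    rw [e]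
    exact hb
  have key := hfix i hij hijn (b i)
  have h1 : eOp pr uEl τ w₀ (∑ w ∈ 𝒲, x w) = x w₀ := by
    rw [map_sum, Finset.sum_eq_single w₀]
    · exact Cfsg.Agent.Helper78.U2.eOp_self pr uEl τ w₀ _ (hx w₀ hw₀)
    · intro w hw hne
      exact Cfsg.Agent.Helper78.U2.eOp_other pr uEl τ w₀ w (Ne.symm hne) _ (hx w hw)
    · intro h
      exact absurd hw₀ h
  have h2 : eOp pr uEl τ w₀ (τ (uEl ((b i) • Pi.single i 1)) (∑ w ∈ 𝒲, x w)) =
      pr.β w₀ ((b i) • Pi.single i 1) • x w₀ := by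
    rw [map_sum, map_sum, Finset.sum_eq_single w₀]
    · rw [(mem_wsp pr uEl τ w₀ _).mp (hx w₀ hw₀) _, map_smul,
        Cfsg.Agent.Helper78.U2.eOp_self pr uEl τ w₀ _ (hx w₀ hw₀)]
    · intro w hw hne
      rw [(mem_wsp pr uEl τ w _).mp (hx w hw) _, map_smul,
        Cfsg.Agent.Helper78.U2.eOp_other pr uEl τ w₀ w (Ne.symm hne) _ (hx w hw), smul_zero]
    · intro h
      exact absurd hw₀ h
  rw [key, h1] at h2
  have h3 : ((1 : ℂ) - pr.β w₀ ((b i) • Pi.single i 1)) • x w₀ = 0 := by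
    rw [sub_smul, one_smul, ← h2, sub_self]
  rcases smul_eq_zero.mp h3 with h | h
  · exact absurd (sub_eq_zero.mp h).symm hβ
  · exact h

end REP

end Cfsg.Agent.Helper76.SLNC
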