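import Mathlib
import Cfsg.Prelude.Def_Blocks
import Cfsg.Agent.Lib.Helper77.Principal
import Cfsg.Agent.Lib.Helper76.PRegCount
import Cfsg.Agent.S0952

/-!
# Brauer's third main theorem, general subgroup version (helper76)

Summing the congruence defining block induction over representatives of the `p`-regular classes
of `G` gives `(∑_{h ∈ H p-regular} ξ h) / ξ 1 ≡ (∑_{x ∈ G p-regular} χ x) / χ 1` modulo the local
ideal.  Together with block orthogonality on `p`-regular elements (`S0952`) and the fact that the
number of `p`-regular elements is prime to `p` this proves the third main theorem.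
-/

set_option autoImplicit false
set_option linter.unusedSectionVars false
set_option linter.style.haveILetI false

namespace Cfsg.Agent.Helper76.ThirdMainGen

open Cfsg
open scoped ComplexConjugate

section general

variable {G : Type*} [Group G]

theorem orderOf_eq_of_isConj {x y : G} (h : IsConj x y) : orderOf x = orderOf y := by
  obtain ⟨c, hc⟩ := h
  exact SemiconjBy.orderOf_eq _ hc

/-- A representative of a conjugacy class. -/
noncomputable def rep (c : ConjClasses G) : G := Quotient.out (s := IsConj.setoid G) c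

theorem mk_rep (c : ConjClasses G) : ConjClasses.mk (rep c) = c :=
  Quotient.out_eq (s := IsConj.setoid G) c

theorem isConj_rep_mk (x : G) : IsConj (rep (ConjClasses.mk x)) x := by
  apply ConjClasses.mk_eq_mk_iff_isConj.mp
  exact mk_rep _

variable [Finite G]

/-- The `p`-regular conjugacy classes. -/
noncomputable def Creg (G : Type*) [Group G] [Finite G] (p : ℕ) : Finset (ConjClasses G) :=
  (Set.toFinite {c : ConjClasses G | ¬ p ∣ orderOf (rep c)}).toFinset

theorem mem_Creg {p : ℕ} {c : ConjClasses G} :
    c ∈ Creg G p ↔ ¬ p ∣ orderOf (rep c) := by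
  unfold Creg
  rw [Set.Finite.mem_toFinset]
  rfl

/-- Fiberwise summation over the `p`-regular classes. -/
theorem sum_fiber (p : ℕ) {ι : Type*} [Fintype ι] (m : ι → G) (F : ι → ℂ) :
    ∑ c ∈ Creg G p, (∑ᶠ i ∈ {i : ι | IsConj (rep c) (m i)}, F i)
      = ∑ᶠ i ∈ {i : ι | ¬ p ∣ orderOf (m i)}, F i := by
  classical
  have hfin : ∀ (S : Set ι) [DecidablePred (· ∈ S)],
      (∑ᶠ i ∈ S, F i) = ∑ i ∈ Finset.univ.filter (fun i => i ∈ S), F i := by
    intro S _
    rw [finsum_mem_eq_finite_toFinset_sum _ (Set.toFinite _)]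
    refine Finset.sum_congr ?_ fun _ _ => rfl
    ext x
    simp
  rw [hfin]
  have hmaps : ∀ i ∈ Finset.univ.filter (fun i => i ∈ {i : ι | ¬ p ∣ orderOf (m i)}),
      (fun i => ConjClasses.mk (m i)) i ∈ Creg G p := by
    intro i hi
    simp only [Finset.mem_filter, Finset.mem_univ, true_and, Set.mem_ofPred_eq] at hi
    rw [mem_Creg, orderOf_eq_of_isConj (isConj_rep_mk (m i))]
    exact hi
  have key := Finset.sum_fiberwise_of_maps_to hmaps F
  rw [← key]
  refine Finset.sum_congr rfl fun c hc => ?_
  rw [hfin]
  refine Finset.sum_congr ?_ fun _ _ => rfl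
  ext i
  simp only [Finset.mem_filter, Finset.mem_univ, true_and, Set.mem_ofPred_eq]
  constructor
  · intro h
    refine ⟨?_, ?_⟩
    · rw [← orderOf_eq_of_isConj h]
      exact mem_Creg.mp hc
    · rw [← mk_rep c]
      exact (ConjClasses.mk_eq_mk_iff_isConj.mpr h).symm
  · rintro ⟨_, h2⟩
    rw [← h2]
    exact isConj_rep_mk (m i)

end general

section main

variable {G : Type*} [Group G] [Finite G]

theorem finsum_div_const {X : Type*} [Finite X] (S : Set X) (f : X → ℂ) (c : ℂ) :
    ∑ᶠ x ∈ S, f x / c = (∑ᶠ x ∈ S, f x) / c := by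
  rw [finsum_mem_eq_finite_toFinset_sum _ (Set.toFinite _),
    finsum_mem_eq_finite_toFinset_sum _ (Set.toFinite _), Finset.sum_div]

theorem finsum_one_eq_card (X : Type*) [Finite X] (P : X → Prop) :
    ∑ᶠ x ∈ {x : X | P x}, (1 : ℂ) = (Nat.card {x : X // P x} : ℂ) := by
  rw [finsum_mem_eq_finite_toFinset_sum _ (Set.toFinite _)]
  rw [Finset.sum_const, nsmul_eq_mul, mul_one]
  congr 1
  rw [← Set.ncard_eq_toFinset_card]
  exact (_root_.Nat.card_coe_set_eq _).symm

/-- The normalised sum of a function over the `p`-regular elements. -/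
noncomputable def regSum (p : ℕ) {X : Type*} [Group X] (θ : X → ℂ) : ℂ :=
  (∑ᶠ x ∈ {x : X | ¬ p ∣ orderOf x}, θ x) / θ 1

/-- Summing the induced central character over `p`-regular class representatives. -/
theorem sum_inducedCentralChar (p : ℕ) (H : Subgroup G) (ξ : H → ℂ) :
    ∑ c ∈ Creg G p, inducedCentralChar H ξ (rep c) = regSum p ξ := by
  haveI : Fintype H := Fintype.ofFinite H
  have h1 := sum_fiber p (fun h : H => (h : G)) (fun h => ξ h / ξ 1)
  have h2 : ∑ c ∈ Creg G p, inducedCentralChar H ξ (rep c) = ∑ c ∈ Creg G p,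
      (∑ᶠ i ∈ {i : H | IsConj (rep c) ((fun h : H => (h : G)) i)}, (fun h => ξ h / ξ 1) i) := rfl
  rw [h2, h1]
  have h3 : {i : H | ¬ p ∣ orderOf ((fun h : H => (h : G)) i)} = {h : H | ¬ p ∣ orderOf h} := by
    ext h
    simp
  rw [h3]
  unfold regSum
  exact finsum_div_const _ _ _

theorem centralChar_eq_finsum {χ : G → ℂ} (hχ : IsClassFunction G χ) (g : G) :
    centralChar χ g = ∑ᶠ x ∈ {x : G | IsConj g x}, χ x / χ 1 := by
  classical
  haveI : Fintype G := Fintype.ofFinite G
  rw [← Cfsg.Agent.Helper77.omega_classInd hχ g]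
  unfold Cfsg.Agent.Helper77.omega Cfsg.Agent.Helper77.classInd
  rw [finsum_div_const, finsum_mem_eq_finite_toFinset_sum _ (Set.toFinite _)]
  congr 1
  simp only [ite_mul, one_mul, zero_mul]
  rw [← Finset.sum_filter]
  refine Finset.sum_congr ?_ fun _ _ => rfl
  ext x
  simp

/-- Summing the central character over `p`-regular class representatives. -/
theorem sum_centralChar (p : ℕ) {χ : G → ℂ} (hχ : IsClassFunction G χ) :
    ∑ c ∈ Creg G p, centralChar χ (rep c) = regSum p χ := by
  haveI : Fintype G := Fintype.ofFinite G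
  have h1 := sum_fiber p (fun x : G => x) (fun x => χ x / χ 1)
  have h2 : ∑ c ∈ Creg G p, centralChar χ (rep c) = ∑ c ∈ Creg G p,
      (∑ᶠ i ∈ {i : G | IsConj (rep c) ((fun x : G => x) i)}, (fun x => χ x / χ 1) i) := by
    refine Finset.sum_congr rfl fun c _ => ?_
    exact centralChar_eq_finsum hχ (rep c)
  rw [h2, h1]
  unfold regSum
  exact finsum_div_const _ _ _

variable {p : ℕ} [Fact p.Prime] {M : Ideal AlgInt}

/-- The congruence defining block induction gives a congruence of normalised `p`-regular sums. -/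
theorem memLocalIdeal_regSum_sub (hM : IsPModular p M) (H : Subgroup G) (ξ : H → ℂ) {χ : G → ℂ}
    (hχ : IsClassFunction G χ)
    (hcong : ∀ g : G, MemLocalIdeal M (inducedCentralChar H ξ g - centralChar χ g)) :
    MemLocalIdeal M (regSum p ξ - regSum p χ) := by
  haveI hpr := Cfsg.Agent.Helper77.isPrime_of_isPModular hM
  rw [← sum_inducedCentralChar p H ξ, ← sum_centralChar p hχ, ← Finset.sum_sub_distrib]
  exact Cfsg.Agent.Helper77.memLocalIdeal_sum _ _ fun c _ => hcong (rep c)

/-- The normalised `p`-regular sum of the trivial character is the number of `p`-regular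
elements. -/
theorem regSum_trivIrr (p : ℕ) (X : Type*) [Group X] [Finite X] :
    regSum p ((Cfsg.Agent.Helper77.trivIrr X : IrrCharacter X) : X → ℂ)
      = (Nat.card {x : X // ¬ p ∣ orderOf x} : ℂ) := by
  unfold regSum
  simp only [Cfsg.Agent.Helper77.trivIrr_apply, div_one]
  exact finsum_one_eq_card X _

/-- An irreducible character lies in the principal block iff its normalised `p`-regular sum
is a unit modulo the local ideal. -/
theorem mem_principalBlock_iff_regSum (hM : IsPModular p M) {X : Type*} [Group X] [Finite X]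
    (θ : IrrCharacter X) :
    θ ∈ principalBlock M X ↔ ¬ MemLocalIdeal M (regSum p (θ : X → ℂ)) := by
  haveI hpr := Cfsg.Agent.Helper77.isPrime_of_isPModular hM
  haveI : Fintype X := Fintype.ofFinite X
  have hcount := Cfsg.Agent.Helper76.PRegCount.not_dvd_card_pRegular X p
  constructor
  · intro hθ hmem
    -- θ in the principal block: congruence of central characters with the trivial character
    have hsb : SameBlock M ((Cfsg.Agent.Helper77.trivIrr X : IrrCharacter X) : X → ℂ)
        (θ : X → ℂ) := hθ
    have h1 : MemLocalIdeal M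
        (regSum p ((Cfsg.Agent.Helper77.trivIrr X : IrrCharacter X) : X → ℂ)
          - regSum p (θ : X → ℂ)) := by
      rw [← sum_centralChar p (Cfsg.Agent.Helper77.isClassFunction_of_isIrrCharacter
          (Cfsg.Agent.Helper77.trivIrr X).2),
        ← sum_centralChar p (Cfsg.Agent.Helper77.isClassFunction_of_isIrrCharacter θ.2),
        ← Finset.sum_sub_distrib]
      exact Cfsg.Agent.Helper77.memLocalIdeal_sum _ _ fun c _ => hsb (rep c)
    have h2 := Cfsg.Agent.Helper77.memLocalIdeal_add h1 hmem
    rw [sub_add_cancel, regSum_trivIrr] at h2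
    exact hcount ((Cfsg.Agent.Helper77.memLocalIdeal_natCast_iff hM _).mp h2)
  · intro hnot
    by_contra hθ
    apply hnot
    have hns : ¬ SameBlock M (θ : X → ℂ)
        ((Cfsg.Agent.Helper77.trivIrr X : IrrCharacter X) : X → ℂ) :=
      fun hs => hθ (Cfsg.Agent.Helper77.sameBlock_symm hs)
    have h0 := Cfsg.Agent.S0952.result p M hM θ (Cfsg.Agent.Helper77.trivIrr X) hns
    simp only [Cfsg.Agent.Helper77.trivIrr_apply, map_one, mul_one] at h0
    unfold regSum
    rw [h0, zero_div]
    exact Cfsg.Agent.Helper77.memLocalIdeal_zero hpr.ne_top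

/-- If the induced central character of `ξ` is congruent to the central character of `χ`, then
`ξ` lies in the principal block of `H` iff `χ` lies in the principal block of `G`. -/
theorem mem_principalBlock_iff_of_cong (hM : IsPModular p M) (H : Subgroup G)
    (ξ : IrrCharacter H) (χ : IrrCharacter G)
    (hcong : ∀ g : G, MemLocalIdeal M
      (inducedCentralChar H (ξ : H → ℂ) g - centralChar (χ : G → ℂ) g)) :
    ξ ∈ principalBlock M H ↔ χ ∈ principalBlock M G := by
  haveI hpr := Cfsg.Agent.Helper77.isPrime_of_isPModular hM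
  haveI : Fintype G := Fintype.ofFinite G
  have hsub := memLocalIdeal_regSum_sub hM H (ξ : H → ℂ)
    (Cfsg.Agent.Helper77.isClassFunction_of_isIrrCharacter χ.2) hcong
  rw [mem_principalBlock_iff_regSum hM ξ, mem_principalBlock_iff_regSum hM χ]
  constructor
  · intro h1 h2
    apply h1
    have := Cfsg.Agent.Helper77.memLocalIdeal_add hsub h2
    rwa [sub_add_cancel] at this
  · intro h1 h2
    apply h1
    have := Cfsg.Agent.Helper77.memLocalIdeal_sub h2 hsub
    rwa [sub_sub_cancel] at this

end main

end Cfsg.Agent.Helper76.ThirdMainGen
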