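import Mathlib

set_option autoImplicit false

namespace Cfsg.Agent.Helper76

open scoped commutatorElement

variable {G : Type*} [Group G] {H : Subgroup G} {A : Type*} [CommGroup A]

/-- If `ϕ : H →* A` is the restriction of a homomorphism `Ψ : G →* A` into an abelian group, then
the transfer of `ϕ` is `g ↦ Ψ g ^ [G : H]`. -/
theorem transfer_restrict_eq_pow [H.FiniteIndex] (Ψ : G →* A) (g : G) :
    MonoidHom.transfer (Ψ.comp H.subtype) g = Ψ g ^ H.index := by
  classical
  have : Fintype (Quotient (MulAction.orbitRel (Subgroup.zpowers g) (G ⧸ H))) :=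
    Fintype.ofFinite _
  rw [Subgroup.index_eq_sum_minimalPeriod H g, ← Finset.prod_pow_eq_pow_sum,
    MonoidHom.transfer_eq_prod_quotient_orbitRel_zpowers_quot]
  apply Finset.prod_congr rfl
  intro q _
  simp only [MonoidHom.coe_comp, Subgroup.coe_subtype, Function.comp_apply, map_mul, map_inv,
    map_pow]
  rw [mul_comm, ← mul_assoc, mul_inv_cancel, one_mul]

/-- Transfer commutes with post-composition. -/
theorem transfer_comp [H.FiniteIndex] {B : Type*} [CommGroup B] (ϕ : H →* A) (κ : A →* B)
    (g : G) : MonoidHom.transfer (κ.comp ϕ) g = κ (MonoidHom.transfer ϕ g) := by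
  classical
  have : Fintype (Quotient (MulAction.orbitRel (Subgroup.zpowers g) (G ⧸ H))) :=
    Fintype.ofFinite _
  rw [MonoidHom.transfer_eq_prod_quotient_orbitRel_zpowers_quot,
    MonoidHom.transfer_eq_prod_quotient_orbitRel_zpowers_quot, map_prod]
  rfl

end Cfsg.Agent.Helper76
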