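import Mathlib

/-!
# U6 piece (NS) `nonsplit_of_perfect` (helper76, for helper92's U6 server, S1684)
-/

set_option autoImplicit false

namespace Cfsg.Agent.Helper76.U6

/-- (NS) a perfect group with centre of order 2 is a non-split extension of its centre. -/
theorem nonsplit_of_perfect {H : Type*} [Group H] [Finite H]
    (hZ : Nat.card (Subgroup.center H) = 2) (hperf : commutator H = ⊤) :
    ∀ L : Subgroup H, ¬ (Subgroup.center H).IsComplement' L := by
  intro L hL
  -- `L` is normal: every `h` is `z * l`
  have hnorm : L.Normal := by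
    constructor
    intro n hn g
    obtain ⟨⟨⟨z, hz⟩, ⟨l, hl⟩⟩, hzl⟩ := hL.2 g
    have hg : z * l = g := hzl
    have hzc : ∀ x : H, x * z = z * x := fun x => Subgroup.mem_center_iff.mp hz x
    have : g * n * g⁻¹ = l * n * l⁻¹ := by
      rw [← hg]
      have h1 : z * l * n * (z * l)⁻¹ = z * (l * n * l⁻¹) * z⁻¹ := by group
      rw [h1, ← hzc (l * n * l⁻¹)]
      group
    rw [this]
    exact L.mul_mem (L.mul_mem hl hn) (L.inv_mem hl)
  -- index of `L` is `2`
  have hidx : L.index = 2 := by
    have h1 := hL.card_mul_card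
    have h2 := L.card_mul_index
    rw [hZ] at h1
    have hLpos : 0 < Nat.card ↥L := Nat.card_pos
    have : Nat.card ↥L * L.index = Nat.card ↥L * 2 := by rw [h2, ← h1, mul_comm]
    exact Nat.eq_of_mul_eq_mul_left hLpos this
  -- quotient of order two is commutative
  have hcard : Nat.card (H ⧸ L) = 2 := by rw [← Subgroup.index_eq_card]; exact hidx
  haveI : Fact (Nat.Prime 2) := ⟨Nat.prime_two⟩
  have hcyc : IsCyclic (H ⧸ L) := isCyclic_of_prime_card hcard
  have hcomm : ∀ x y : H ⧸ L, x * y = y * x := fun x y => by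
    letI := hcyc.commGroup
    exact mul_comm x y
  have hle : commutator H ≤ L := by
    rw [commutator_def, Subgroup.commutator_le]
    intro x _ y _
    rw [← QuotientGroup.eq_one_iff, commutatorElement_def]
    simp only [QuotientGroup.mk_mul, QuotientGroup.mk_inv]
    rw [hcomm (x : H ⧸ L) (y : H ⧸ L)]
    group
  rw [hperf] at hle
  have hLtop : L = ⊤ := top_le_iff.mp hle
  rw [hLtop, Subgroup.index_top] at hidx
  exact absurd hidx (by norm_num)

end Cfsg.Agent.Helper76.U6
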