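import Mathlib
import Cfsg.Agent.Lib.Helper77.CentralDom

/-!
# Defect-zero characters and fibre sums (helper76)
-/

set_option autoImplicit false
set_option linter.unusedSectionVars false
set_option linter.style.haveILetI false

namespace Cfsg.Agent.Helper76.Weight1

open Cfsg Cfsg.Agent.Helper77 Cfsg.Agent.Helper79

universe u

section dz

variable {H : Type u} [Group H] [Fintype H] {p : ℕ} [Fact p.Prime] {M : Ideal AlgInt}

/-- The block of a character of `p`-defect zero has trivial defect groups. -/
theorem defectGroup_eq_bot_of_defect_zero (hM : IsPModular p M) (ψ : IrrCharacter H)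
    (hdz : ¬ p ∣ Nat.card H / charDegree (ψ : H → ℂ)) {b : Set (IrrCharacter H)}
    (hb : IsPBlock M b) (hψ : ψ ∈ b) {D : Subgroup H} (hD : IsDefectGroup p M b D) : D = ⊥ := by
  classical
  have hp : p.Prime := Fact.out
  haveI hpr := isPrime_of_isPModular hM
  have hsingle := (Cfsg.Agent.S0914.result p M hM ψ).1 hdz
  have hbeq : b = {ψ} := by
    rw [← hsingle]
    exact eq_blockOf_of_mem hb hψ
  have hcard := Cfsg.Agent.Helper74.DO.card_defectGroup hM hb _ hD
  have hdef0 : blockDefect p b = 0 := by
    rw [Cfsg.Agent.Helper74.DO.blockDefect_eq]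
    obtain ⟨χ, hχ, hmin⟩ := Cfsg.Agent.Helper74.DO.exists_minVal (p := p) ⟨ψ, hψ⟩
    rw [hbeq, Set.mem_singleton_iff] at hχ
    subst hχ
    rw [← hmin]
    have hdvd := irr_degree_dvd_card χ
    have hpos := (irr_one_eq χ).2
    obtain ⟨c, hc⟩ := hdvd
    have hq0 : Nat.card H ≠ 0 := Nat.card_pos.ne'
    have hc0 : c ≠ 0 := by
      rintro rfl
      rw [mul_zero] at hc
      exact hq0 hc
    rw [hc, Nat.mul_div_cancel_left c hpos] at hdz
    rw [hc, Nat.factorization_mul hpos.ne' hc0, Finsupp.coe_add, Pi.add_apply,
      Nat.factorization_eq_zero_of_not_dvd hdz]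
    omega
  rw [hdef0, pow_zero] at hcard
  exact Subgroup.card_eq_one.mp hcard

/-- A group with a character of `p`-defect zero has no nontrivial normal `p`-subgroup. -/
theorem normal_pgroup_eq_bot_of_defect_zero (hM : IsPModular p M) (ψ : IrrCharacter H)
    (hdz : ¬ p ∣ Nat.card H / charDegree (ψ : H → ℂ)) (N : Subgroup H) [N.Normal]
    (hN : IsPGroup p N) : N = ⊥ := by
  classical
  haveI hpr := isPrime_of_isPModular hM
  have hb : IsPBlock M (blockOf M (ψ : H → ℂ)) := isPBlock_blockOf ψ
  obtain ⟨D, hD⟩ := exists_isDefectGroup (M := M) p hb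
  have h1 := normal_le_of_isDefectGroup hM hb hD N hN
  rw [defectGroup_eq_bot_of_defect_zero hM ψ hdz hb (mem_blockOf_self ψ) hD] at h1
  exact le_bot_iff.mp h1

end dz

section fibre

variable {A B : Type*} [Group A] [Group B] [Fintype A]

/-- Summing a function of `f a` over a finite group `A` counts each point of the range of the
homomorphism `f` with multiplicity the order of the kernel. -/
theorem sum_comp_hom (f : A →* B) [Fintype f.range] (F : B → ℂ) :
    ∑ a : A, F (f a) = (Nat.card f.ker : ℂ) * ∑ x : f.range, F (x : B) := by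
  classical
  have h1 : ∀ a : A, F (f a) = (fun x : f.range => F (x : B)) (f.rangeRestrict a) := fun a => rfl
  simp_rw [h1]
  rw [Finset.sum_comp (fun x : f.range => F (x : B)) f.rangeRestrict, Finset.mul_sum]
  have himg : Finset.univ.image f.rangeRestrict = (Finset.univ : Finset f.range) := by
    ext x
    simp only [Finset.mem_image, Finset.mem_univ, true_and, iff_true]
    exact f.rangeRestrict_surjective x
  rw [himg]
  refine Finset.sum_congr rfl fun x _ => ?_
  obtain ⟨a₀, ha₀⟩ := f.rangeRestrict_surjective x
  have hcard : (Finset.univ.filter (fun a : A => f.rangeRestrict a = x)).card = Nat.card f.ker := by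
    rw [Nat.card_eq_fintype_card, ← Finset.card_univ]
    symm
    refine Finset.card_bij (fun (k : f.ker) _ => a₀ * (k : A)) ?_ ?_ ?_
    · intro k _
      simp only [Finset.mem_filter, Finset.mem_univ, true_and]
      rw [map_mul, ha₀]
      have hk : f.rangeRestrict (k : A) = 1 := by
        apply Subtype.ext
        exact k.2
      rw [hk, mul_one]
    · intro k₁ _ k₂ _ h
      exact Subtype.ext (mul_left_cancel h)
    · intro a ha
      simp only [Finset.mem_filter, Finset.mem_univ, true_and] at ha
      refine ⟨⟨a₀⁻¹ * a, ?_⟩, Finset.mem_univ _, by simp⟩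
      rw [MonoidHom.mem_ker, map_mul, map_inv]
      have h2 : f a = f a₀ := by
        have := congrArg Subtype.val (ha.trans ha₀.symm)
        exact this
      rw [h2, inv_mul_cancel]
  rw [hcard, nsmul_eq_mul]

end fibre

end Cfsg.Agent.Helper76.Weight1
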