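import Mathlib
import Cfsg.Agent.Lib.Helper76.Weight1
import Cfsg.Agent.Lib.Helper79.DegreeRatio
import Cfsg.Agent.Lib.Helper16.IdemFun

/-!
# A Clifford-type lemma for characters of defect zero modulo a normal subgroup (helper76)
-/

set_option autoImplicit false
set_option linter.unusedSectionVars false
set_option linter.style.haveILetI false

namespace Cfsg.Agent.Helper76.Weight2

open Cfsg Cfsg.Agent.Helper77 Cfsg.Agent.Helper79
open scoped ComplexConjugate

universe u

section fibre

variable {A B : Type*} [Group A] [Group B] [Fintype A] [Fintype B]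

/-- Summing a function of `f a` over a finite group `A`, for `f` onto `B`, counts each point
with multiplicity the order of the kernel. -/
theorem sum_comp_surj (f : A →* B) (hf : Function.Surjective f) (F : B → ℂ) :
    ∑ a : A, F (f a) = (Nat.card f.ker : ℂ) * ∑ x : B, F x := by
  classical
  rw [Finset.sum_comp F f, Finset.mul_sum]
  have himg : Finset.univ.image f = (Finset.univ : Finset B) := by
    ext x
    simp only [Finset.mem_image, Finset.mem_univ, true_and, iff_true]
    exact hf x
  rw [himg]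
  refine Finset.sum_congr rfl fun x _ => ?_
  obtain ⟨a₀, ha₀⟩ := hf x
  have hcard : (Finset.univ.filter (fun a : A => f a = x)).card = Nat.card f.ker := by
    rw [Nat.card_eq_fintype_card, ← Finset.card_univ]
    symm
    refine Finset.card_bij (fun (k : f.ker) _ => a₀ * (k : A)) ?_ ?_ ?_
    · intro k _
      simp only [Finset.mem_filter, Finset.mem_univ, true_and]
      rw [map_mul, ha₀]
      have hk : f (k : A) = 1 := k.2
      rw [hk, mul_one]
    · intro k₁ _ k₂ _ h
      exact Subtype.ext (mul_left_cancel h)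
    · intro a ha
      simp only [Finset.mem_filter, Finset.mem_univ, true_and] at ha
      refine ⟨⟨a₀⁻¹ * a, ?_⟩, Finset.mem_univ _, by simp⟩
      rw [MonoidHom.mem_ker, map_mul, map_inv, ha, ha₀, inv_mul_cancel]
  rw [hcard, nsmul_eq_mul]

end fibre

section dz

variable {H : Type u} [Group H] [Fintype H] {p : ℕ} [Fact p.Prime]

/-- A character of `H ⧸ N` whose degree has `p`-part `|H|_p / |N|_p` has `p`-defect zero. -/
theorem not_dvd_of_factorization_eq (N : Subgroup H) [N.Normal] (ψ : IrrCharacter (H ⧸ N))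
    (h : (charDegree (ψ : H ⧸ N → ℂ)).factorization p + (Nat.card N).factorization p =
      (Nat.card H).factorization p) :
    ¬ p ∣ Nat.card (H ⧸ N) / charDegree (ψ : H ⧸ N → ℂ) := by
  classical
  have hp : p.Prime := Fact.out
  have hdvd := irr_degree_dvd_card ψ
  have hpos := (irr_one_eq ψ).2
  have hcardmul : Nat.card H = Nat.card (H ⧸ N) * Nat.card N :=
    Subgroup.card_eq_card_quotient_mul_card_subgroup _
  have hq0 : Nat.card (H ⧸ N) ≠ 0 := Nat.card_pos.ne'
  have hZ0 : Nat.card N ≠ 0 := Nat.card_pos.ne'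
  have h3 : (Nat.card H).factorization p =
      (Nat.card (H ⧸ N)).factorization p + (Nat.card N).factorization p := by
    rw [hcardmul, Nat.factorization_mul hq0 hZ0, Finsupp.coe_add, Pi.add_apply]
  obtain ⟨c, hcc⟩ := hdvd
  have hc0 : c ≠ 0 := by
    rintro rfl
    rw [mul_zero] at hcc
    exact hq0 hcc
  rw [hcc, Nat.mul_div_cancel_left c hpos]
  intro hpc
  have h4 : (Nat.card (H ⧸ N)).factorization p =
      (charDegree (ψ : H ⧸ N → ℂ)).factorization p + c.factorization p := by
    rw [hcc, Nat.factorization_mul hpos.ne' hc0, Finsupp.coe_add, Pi.add_apply]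
  have h5 : 0 < c.factorization p := hp.factorization_pos_of_dvd hc0 hpc
  omega

end dz

section comp

variable {A B : Type u} [Group A] [Group B]

/-- Composing an irreducible character with a surjective homomorphism. -/
theorem isIrr_comp_surj (f : A →* B) (hf : Function.Surjective f) (θ : IrrCharacter B) :
    IsIrrCharacter A (fun a => (θ : B → ℂ) (f a)) := by
  obtain ⟨n, σ, hσ, hθ⟩ := θ.2
  refine ⟨n, σ.comp f, (isIrreducible_comp_iff f hf σ).2 hσ, ?_⟩
  ext a
  rw [character_comp, hθ]

end comp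

section main

variable {Γ : Type u} [Group Γ] [Fintype Γ] {p : ℕ} [Fact p.Prime]

/-- Let `χ` be an irreducible character of `Γ` with the normal subgroup `Qn` in its kernel and of
`p`-defect zero as a character of `Γ ⧸ Qn`.  For every normal subgroup `Cn` there is an
irreducible constituent `θ` of `χ` on `Cn` that is trivial on `Qn ∩ Cn` and of `p`-defect zero as
a character of `Cn ⧸ (Qn ∩ Cn)`. -/
theorem exists_constituent_defect_zero (Qn Cn : Subgroup Γ) [Qn.Normal] [Cn.Normal]
    [Fintype Cn] (χ : IrrCharacter Γ) (hker : Qn ≤ irrKer χ)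
    (hdeg : (charDegree (χ : Γ → ℂ)).factorization p + (Nat.card Qn).factorization p =
      (Nat.card Γ).factorization p) :
    ∃ θ : IrrCharacter Cn, classInner (fun c : Cn => (χ : Γ → ℂ) c) (θ : Cn → ℂ) ≠ 0 ∧
      (∀ c : Cn, (c : Γ) ∈ Qn → (θ : Cn → ℂ) c = (θ : Cn → ℂ) 1) ∧
      (charDegree (θ : Cn → ℂ)).factorization p + (Nat.card ↥(Qn ⊓ Cn)).factorization p =
        (Nat.card Cn).factorization p := by
  classical
  have hp : p.Prime := Fact.out
  obtain ⟨ψ, hψ⟩ := exists_deflate Qn χ hker
  haveI : Fintype (Γ ⧸ Qn) := Fintype.ofFinite _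
  let R : Subgroup (Γ ⧸ Qn) := Cn.map (QuotientGroup.mk' Qn)
  haveI hRn : R.Normal :=
    Subgroup.Normal.map inferInstance _ (QuotientGroup.mk'_surjective Qn)
  haveI : Fintype R := Fintype.ofFinite _
  obtain ⟨θb, hθb⟩ := Cfsg.Agent.Helper16.exists_constituent R ψ
  obtain ⟨e, he1, he2⟩ := degree_ratio_dvd_index R ψ.2 θb.2 hθb
  let φ : Cn →* R := (QuotientGroup.mk' Qn).subgroupMap Cn
  have hφ : Function.Surjective φ := (QuotientGroup.mk' Qn).subgroupMap_surjective Cn
  have hφval : ∀ c : Cn, ((φ c : R) : Γ ⧸ Qn) = QuotientGroup.mk (c : Γ) := fun c => rfl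
  let θ : IrrCharacter Cn := ⟨fun c => (θb : R → ℂ) (φ c), isIrr_comp_surj φ hφ θb⟩
  have hθ : ∀ c : Cn, (θ : Cn → ℂ) c = (θb : R → ℂ) (φ c) := fun c => rfl
  have hθ1 : (θ : Cn → ℂ) 1 = (θb : R → ℂ) 1 := by rw [hθ, map_one]
  have hkerφ : ∀ c : Cn, c ∈ φ.ker ↔ (c : Γ) ∈ Qn := by
    intro c
    rw [MonoidHom.mem_ker]
    constructor
    · intro h
      have := congrArg Subtype.val h
      rw [hφval] at this
      exact (QuotientGroup.eq_one_iff _).mp this
    · intro h
      apply Subtype.ext
      rw [hφval]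
      exact (QuotientGroup.eq_one_iff _).mpr h
  refine ⟨θ, ?_, ?_, ?_⟩
  · -- the inner product
    unfold classInner at hθb ⊢
    have hsum : ∑ c : Cn, (χ : Γ → ℂ) c * conj ((θ : Cn → ℂ) c) =
        (Nat.card φ.ker : ℂ) * ∑ r : R, (ψ : Γ ⧸ Qn → ℂ) r * conj ((θb : R → ℂ) r) := by
      rw [← sum_comp_surj φ hφ (fun r : R => (ψ : Γ ⧸ Qn → ℂ) r * conj ((θb : R → ℂ) r))]
      refine Finset.sum_congr rfl fun c _ => ?_
      rw [hθ, hφval, ← hψ, inflate_apply]
    rw [hsum]
    have h1 : (∑ r : R, (ψ : Γ ⧸ Qn → ℂ) r * conj ((θb : R → ℂ) r)) ≠ 0 := by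
      intro h0
      apply hθb
      rw [h0, mul_zero]
    have h2 : (Nat.card φ.ker : ℂ) ≠ 0 := by
      exact_mod_cast (Nat.card_pos (α := φ.ker)).ne'
    have h3 : (Nat.card Cn : ℂ) ≠ 0 := by
      exact_mod_cast (Nat.card_pos (α := Cn)).ne'
    exact mul_ne_zero (inv_ne_zero h3) (mul_ne_zero h2 h1)
  · intro c hc
    rw [hθ, hθ1]
    have : φ c = 1 := (hkerφ c).mpr hc
    rw [this]
  · -- arithmetic
    have ha1 := (irr_one_eq χ).1
    have hb1 := (irr_one_eq θb)
    have hdθ : charDegree (θ : Cn → ℂ) = charDegree (θb : R → ℂ) := by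
      unfold charDegree
      rw [hθ1]
    have hχψ : (χ : Γ → ℂ) 1 = (ψ : Γ ⧸ Qn → ℂ) 1 := by
      rw [← hψ, inflate_apply, QuotientGroup.mk_one]
    have hmul : charDegree (χ : Γ → ℂ) = e * charDegree (θb : R → ℂ) := by
      have : ((charDegree (χ : Γ → ℂ) : ℕ) : ℂ) = ((e * charDegree (θb : R → ℂ) : ℕ) : ℂ) := by
        rw [← ha1, hχψ, he1, hb1.1]
        push_cast
        rfl
      exact_mod_cast this
    have hdpos := hb1.2
    have hχpos := (irr_one_eq χ).2
    have he0 : e ≠ 0 := by
      rintro rfl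
      rw [zero_mul] at hmul
      omega
    have hRidx : R.index ≠ 0 := Subgroup.index_ne_zero_of_finite
    have hdvdR := irr_degree_dvd_card θb
    have hR0 : Nat.card R ≠ 0 := Nat.card_pos.ne'
    have hQ0 : Nat.card Qn ≠ 0 := Nat.card_pos.ne'
    have hq0 : Nat.card (Γ ⧸ Qn) ≠ 0 := Nat.card_pos.ne'
    -- valuations
    have v1 : (charDegree (χ : Γ → ℂ)).factorization p =
        e.factorization p + (charDegree (θb : R → ℂ)).factorization p := by
      rw [hmul, Nat.factorization_mul he0 hdpos.ne', Finsupp.coe_add, Pi.add_apply]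
    have v2 : e.factorization p ≤ R.index.factorization p :=
      (Nat.factorization_le_iff_dvd he0 hRidx).mpr he2 p
    have v3 : (charDegree (θb : R → ℂ)).factorization p ≤ (Nat.card R).factorization p :=
      (Nat.factorization_le_iff_dvd hdpos.ne' hR0).mpr hdvdR p
    have v4 : (Nat.card (Γ ⧸ Qn)).factorization p =
        (Nat.card R).factorization p + R.index.factorization p := by
      rw [← Subgroup.card_mul_index R, Nat.factorization_mul hR0 hRidx, Finsupp.coe_add,
        Pi.add_apply]
    have v5 : (Nat.card Γ).factorization p =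
        (Nat.card (Γ ⧸ Qn)).factorization p + (Nat.card Qn).factorization p := by
      rw [Subgroup.card_eq_card_quotient_mul_card_subgroup Qn,
        Nat.factorization_mul hq0 hQ0, Finsupp.coe_add, Pi.add_apply]
    -- the kernel of `φ`
    have hkercard : Nat.card φ.ker = Nat.card ↥(Qn ⊓ Cn) := by
      refine Nat.card_congr ⟨fun k => ⟨((k : Cn) : Γ), ⟨(hkerφ _).mp k.2, (k : Cn).2⟩⟩,
        fun x => ⟨⟨(x : Γ), x.2.2⟩, (hkerφ _).mpr x.2.1⟩, fun k => rfl, fun x => rfl⟩
    have hCcard : Nat.card Cn = Nat.card R * Nat.card φ.ker := by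
      rw [Subgroup.card_eq_card_quotient_mul_card_subgroup φ.ker]
      congr 1
      exact Nat.card_congr (QuotientGroup.quotientKerEquivOfSurjective φ hφ).toEquiv
    have hk0 : Nat.card φ.ker ≠ 0 := Nat.card_pos.ne'
    have v6 : (Nat.card Cn).factorization p =
        (Nat.card R).factorization p + (Nat.card ↥(Qn ⊓ Cn)).factorization p := by
      rw [hCcard, Nat.factorization_mul hR0 hk0, Finsupp.coe_add, Pi.add_apply, hkercard]
    rw [hdθ]
    omega

end main

end Cfsg.Agent.Helper76.Weight2
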