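import Mathlib
import Cfsg.Prelude.Def_Characters
import Cfsg.Agent.Lib.Helper81.CharSylInd
import Cfsg.Agent.Lib.Helper97.Wreath
import Cfsg.Agent.Lib.Helper76.PiIrr

/-!
# Characters of `M ≀ᵣ Q` over an invariant monomial character of the base group (helper76)

`invariant_case` : if `χ ∈ Irr(M ≀ᵣ Q)` (`Q` abelian) lies over the irreducible character
`φ × ⋯ × φ` of the base group with `φ = Ind_H^M λ` monomial, then `χ` is induced from a linear
character of `H ≀ᵣ Q`.
-/

set_option autoImplicit false
set_option linter.unusedSectionVars false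
set_option linter.style.haveILetI false

namespace Cfsg.Agent.Helper76.WrInv

open Cfsg RegularWreathProduct
open Cfsg.Agent.Helper81 Cfsg.Agent.Helper97 Cfsg.Agent.Helper76.PiIrr
open scoped ComplexConjugate

universe u v

section defs

variable {M : Type u} [Group M] {Q : Type v} [Group Q] [Fintype Q]

/-- The linear character `t ↦ ∏ q, λ (t.left q)` of `H ≀ᵣ Q`. -/
noncomputable def lamHat (H : Subgroup M) (lam : H →* ℂˣ) : (wrSub (Q := Q) H) →* ℂˣ where
  toFun t := ∏ q, lam ⟨t.1.left q, t.2 q⟩
  map_one' := by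
    apply Finset.prod_eq_one
    intro q _
    exact map_one lam
  map_mul' s t := by
    have h1 : ∀ q, lam ⟨(s * t).1.left q, (s * t).2 q⟩ =
        lam ⟨s.1.left q, s.2 q⟩ * lam ⟨t.1.left (s.1.right⁻¹ * q), t.2 _⟩ := by
      intro q
      rw [← map_mul]
      rfl
    simp only [h1]
    rw [Finset.prod_mul_distrib]
    congr 1
    exact Equiv.prod_comp (Equiv.mulLeft (s.1.right⁻¹)) (fun q => lam ⟨t.1.left q, t.2 q⟩)

theorem lamHat_apply (H : Subgroup M) (lam : H →* ℂˣ) (t : wrSub (Q := Q) H) :
    lamHat H lam t = ∏ q, lam ⟨t.1.left q, t.2 q⟩ := rfl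

/-- The projection of `H ≀ᵣ Q` onto `Q`. -/
def piT (H : Subgroup M) : (wrSub (Q := Q) H) →* Q :=
  (rightHom : M ≀ᵣ Q →* Q).comp (wrSub (Q := Q) H).subtype

theorem piT_apply (H : Subgroup M) (t : wrSub (Q := Q) H) : piT H t = t.1.right := rfl

theorem piT_surjective (H : Subgroup M) : Function.Surjective (piT (Q := Q) H) := by
  intro c
  exact ⟨⟨inl c, inl_mem_wrSub H c⟩, rfl⟩

/-- The base group of `H ≀ᵣ Q` is the product subgroup. -/
def kerEquiv (H : Subgroup M) :
    (Subgroup.pi Set.univ (fun _ : Q => H)) ≃ (piT (Q := Q) H).ker where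
  toFun s := ⟨⟨baseHom M Q s.1, fun q => s.2 q (Set.mem_univ q)⟩, by
    rw [MonoidHom.mem_ker]; rfl⟩
  invFun n := ⟨n.1.1.left, fun q _ => n.1.2 q⟩
  left_inv _ := rfl
  right_inv n := by
    apply Subtype.ext
    apply Subtype.ext
    have h := n.2
    rw [MonoidHom.mem_ker, piT_apply] at h
    ext
    · rfl
    · exact h.symm

end defs

section main

variable {M : Type u} [Group M] [Fintype M] {Q : Type v} [CommGroup Q] [Fintype Q] [DecidableEq Q]
variable [Fintype (M ≀ᵣ Q)]

theorem isCharacter_comp_hom' {G : Type*} [Group G] {K : Type*} [Group K] {χ : G → ℂ}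
    (hχ : IsCharacter G χ) (f : K →* G) : IsCharacter K (fun k => χ (f k)) := by
  obtain ⟨n, ρ, rfl⟩ := hχ
  exact ⟨n, ρ.comp f, rfl⟩

theorem invariant_case (H : Subgroup M) (lam : H →* ℂˣ) {χ : M ≀ᵣ Q → ℂ}
    (hχ : IsIrrCharacter (M ≀ᵣ Q) χ)
    (hθ : IsIrrCharacter (Q → M)
      (fun f : Q → M => ∏ q, indFun H (fun h => ((lam h : ℂˣ) : ℂ)) (f q)))
    (hcon : classInner (fun f : Q → M => χ (baseHom M Q f))
      (fun f : Q → M => ∏ q, indFun H (fun h => ((lam h : ℂˣ) : ℂ)) (f q)) ≠ 0) :
    ∃ μ : (wrSub (Q := Q) H) →* ℂˣ,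
      χ = indFun (wrSub (Q := Q) H) (fun t => ((μ t : ℂˣ) : ℂ)) := by
  classical
  set T : Subgroup (M ≀ᵣ Q) := wrSub (Q := Q) H with hT
  haveI : Fintype T := Fintype.ofFinite T
  set K : Q → Subgroup M := fun _ => H with hK
  haveI : Fintype (Subgroup.pi Set.univ K) := Fintype.ofFinite _
  haveI : Fintype (piT (Q := Q) H).ker := Fintype.ofFinite _
  set lamC : H → ℂ := fun h => ((lam h : ℂˣ) : ℂ) with hlamC
  set θ : (Q → M) → ℂ := fun f => ∏ q, indFun H lamC (f q) with hθdef
  set X : (Q → M) → ℂ := fun f => χ (baseHom M Q f) with hXdef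
  have hχchar := IsIrrCharacter.isCharacter hχ
  have hχcf := isClassFunction_of_isCharacter hχchar
  -- `X` is a character of the base group
  have hXchar : IsCharacter (Q → M) X := isCharacter_comp_hom' hχchar (baseHom M Q)
  have hXcf := isClassFunction_of_isCharacter hXchar
  -- `θ` is induced from the product subgroup
  set piLinC : (Subgroup.pi Set.univ K) → ℂ :=
    fun s => ((piLin K (fun _ => lam) s : ℂˣ) : ℂ) with hpiLinC
  have hθind : θ = indFun (Subgroup.pi Set.univ K) piLinC :=
    monomial_pi K (fun _ => lam) (fun _ => indFun H lamC) (fun _ => rfl)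
  -- Frobenius reciprocity in the base group
  have h1 : classInner piLinC (fun s : Subgroup.pi Set.univ K => X s) ≠ 0 := by
    rw [← frobenius_reciprocity (Subgroup.pi Set.univ K) piLinC hXcf, ← hθind]
    intro h0
    apply hcon
    rw [classInner_conj_symm, h0, map_zero]
  -- the linear character of `T`
  set lamHatC : T → ℂ := fun t => ((lamHat (Q := Q) H lam t : ℂˣ) : ℂ) with hlamHatC
  have hlh1 : lamHatC 1 = 1 := by simp [hlamHatC]
  have hlhmul : ∀ s t : T, lamHatC (s * t) = lamHatC s * lamHatC t := by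
    intro s t
    simp [hlamHatC]
  have hlhcf : IsClassFunction T lamHatC :=
    isClassFunction_of_isCharacter (isCharacter_of_mul hlh1 hlhmul)
  -- decomposition of the induced character in `T`
  have hkey := smul_indFun_eq_sum_linChar (G := T) (piT (Q := Q) H).ker
    (MonoidHom.normal_ker _) (piT (Q := Q) H) (piT_surjective H)
    (fun g => MonoidHom.mem_ker.symm) (θ := fun n => lamHatC n.1) (χ₀ := lamHatC) hlhcf 1
    (by rw [one_smul])
  rw [one_smul] at hkey
  -- restriction of `χ` to `T`
  set χT : T → ℂ := fun t => χ t.1 with hχT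
  have hχTcf : IsClassFunction T χT := by
    intro g h
    simp only [hχT, Subgroup.coe_mul, Subgroup.coe_inv]
    exact hχcf _ _
  -- the inner product of the sum with `χT`
  have h2 : classInner (indFun (piT (Q := Q) H).ker (fun n => lamHatC n.1)) χT ≠ 0 := by
    rw [frobenius_reciprocity _ _ hχTcf]
    -- reindex along `kerEquiv`
    have h3 : classInner (fun n : (piT (Q := Q) H).ker => lamHatC n.1)
        (fun n : (piT (Q := Q) H).ker => χT n.1) =
        classInner piLinC (fun s : Subgroup.pi Set.univ K => X s) := by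
      unfold classInner
      rw [Nat.card_congr (kerEquiv (Q := Q) H).symm]
      congr 1
      rw [← Equiv.sum_comp (kerEquiv (Q := Q) H)]
      apply Finset.sum_congr rfl
      intro s _
      have ha : lamHatC ((kerEquiv (Q := Q) H s).1) = piLinC s := by
        simp only [hlamHatC, hpiLinC, lamHat_apply, piLin]
        rfl
      have hb : χT ((kerEquiv (Q := Q) H s).1) = X s := rfl
      beta_reduce
      rw [ha, hb]
    rw [h3]
    exact h1
  rw [hkey, classInner_sum_left] at h2
  obtain ⟨ψ, _, hψ⟩ := Finset.exists_ne_zero_of_sum_ne_zero h2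
  -- the linear character `μ`
  let f0 : T →* ℂ :=
    { toFun := fun t => linChar (piT (Q := Q) H) ψ t * lamHatC t
      map_one' := by rw [linChar_one, hlh1, one_mul]
      map_mul' := by
        intro s t
        rw [linChar_mul, hlhmul]
        ring }
  refine ⟨f0.toHomUnits, ?_⟩
  set μC : T → ℂ := fun t => ((f0.toHomUnits t : ℂˣ) : ℂ) with hμC
  have hμeq : μC = linChar (piT (Q := Q) H) ψ * lamHatC := by
    funext t
    simp only [hμC, MonoidHom.coe_toHomUnits]
    rfl
  have hμ1 : μC 1 = 1 := by simp [hμC]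
  have hμmul : ∀ s t : T, μC (s * t) = μC s * μC t := by
    intro s t
    simp [hμC]
  have hΨchar : IsCharacter (M ≀ᵣ Q) (indFun T μC) :=
    isCharacter_indFun T (isCharacter_of_mul hμ1 hμmul)
  have hΨne : classInner (indFun T μC) χ ≠ 0 := by
    rw [frobenius_reciprocity T μC hχcf, hμeq]
    exact hψ
  -- degrees
  obtain ⟨b, hb, _, _⟩ := irr_degree_dvd_card hχ
  have hΨ1 : indFun T μC 1 = ((H.index ^ Nat.card Q : ℕ) : ℂ) := by
    rw [indFun_one, hμ1, mul_one, hT, index_wrSub]
  have hφ1 : indFun H lamC 1 = (H.index : ℂ) := by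
    rw [indFun_one]
    simp [hlamC]
  have hθ1 : θ 1 = ((H.index ^ Nat.card Q : ℕ) : ℂ) := by
    simp only [hθdef, Pi.one_apply, hφ1, Finset.prod_const, Finset.card_univ]
    rw [Nat.card_eq_fintype_card]
    push_cast
    rfl
  have hX1 : X 1 = (b : ℂ) := by
    simp only [hXdef, map_one]
    exact hb
  have hab : H.index ^ Nat.card Q ≤ b := by
    by_contra hlt
    push Not at hlt
    have hXθ := eq_of_constituent_of_degree_le hXchar hθ hcon b (H.index ^ Nat.card Q) hX1 hθ1
      hlt.le
    have h5 : X 1 = θ 1 := by rw [hXθ]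
    rw [hX1, hθ1] at h5
    have h6 : b = H.index ^ Nat.card Q := by exact_mod_cast h5
    omega
  exact (eq_of_constituent_of_degree_le hΨchar hχ hΨne _ b hΨ1 hb hab).symm

end main

end Cfsg.Agent.Helper76.WrInv
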