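import Mathlib
import Cfsg.Prelude.Def_Characters
import Cfsg.Agent.Lib.Helper81.CharGalOdd
import Cfsg.Agent.Lib.Helper76.WrInv

/-!
# Characters of `M ≀ᵣ Q` over a non-invariant character of the base group (helper76)

`noninvariant_case` : if `|Q|` is prime and `χ ∈ Irr(M ≀ᵣ Q)` lies over the irreducible character
`φ_1 × ⋯ × φ_p` of the base group with the `φ_q = Ind_{K q}^M (lam q)` monomial and not all equal,
then `χ` is induced from a linear character of the image of `∏ K q` in the base group.
-/

set_option autoImplicit false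
set_option linter.unusedSectionVars false
set_option linter.style.haveILetI false

namespace Cfsg.Agent.Helper76.WrNon

open Cfsg RegularWreathProduct
open Cfsg.Agent.Helper81 Cfsg.Agent.Helper97 Cfsg.Agent.Helper76.PiIrr Cfsg.Agent.Helper76.WrInv
open scoped ComplexConjugate

universe u v

section aux

variable {M : Type u} [Group M] [Fintype M] {Q : Type v} [Group Q] [Fintype Q] [DecidableEq Q]

/-- Two product characters of `Q → M` agree only if the factors agree. -/
theorem factors_eq_of_prod_eq (φ ψ : Q → IrrCharacter M)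
    (h : ∀ f : Q → M, ∏ q, (φ q : M → ℂ) (f q) = ∏ q, (ψ q : M → ℂ) (f q)) : φ = ψ := by
  classical
  funext q₀
  apply Subtype.ext
  have hdeg : ∀ η : IrrCharacter M, (η : M → ℂ) 1 ≠ 0 := by
    intro η
    obtain ⟨d, hd, _, hpos⟩ := irr_degree_dvd_card η.2
    rw [hd]
    exact_mod_cast hpos.ne'
  set Dφ : ℂ := ∏ q ∈ Finset.univ.erase q₀, (φ q : M → ℂ) 1 with hDφdef
  set Dψ : ℂ := ∏ q ∈ Finset.univ.erase q₀, (ψ q : M → ℂ) 1 with hDψdef
  have hDφ : Dφ ≠ 0 := Finset.prod_ne_zero_iff.mpr (fun q _ => hdeg (φ q))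
  have hDψ : Dψ ≠ 0 := Finset.prod_ne_zero_iff.mpr (fun q _ => hdeg (ψ q))
  have hm : ∀ m : M, (φ q₀ : M → ℂ) m * Dφ = (ψ q₀ : M → ℂ) m * Dψ := by
    intro m
    have h0 := h (Pi.mulSingle q₀ m)
    rw [← Finset.mul_prod_erase Finset.univ _ (Finset.mem_univ q₀),
      ← Finset.mul_prod_erase Finset.univ _ (Finset.mem_univ q₀)] at h0
    simp only [Pi.mulSingle_eq_same] at h0
    have e1 : ∏ q ∈ Finset.univ.erase q₀, (φ q : M → ℂ) ((Pi.mulSingle q₀ m : Q → M) q) = Dφ := by
      apply Finset.prod_congr rfl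
      intro q hq
      rw [Pi.mulSingle_eq_of_ne (Finset.ne_of_mem_erase hq)]
    have e2 : ∏ q ∈ Finset.univ.erase q₀, (ψ q : M → ℂ) ((Pi.mulSingle q₀ m : Q → M) q) = Dψ := by
      apply Finset.prod_congr rfl
      intro q hq
      rw [Pi.mulSingle_eq_of_ne (Finset.ne_of_mem_erase hq)]
    rw [e1, e2] at h0
    exact h0
  apply eq_of_classInner_ne_zero (φ q₀).2 (ψ q₀).2
  have hφeq : (φ q₀ : M → ℂ) = (Dψ / Dφ) • (ψ q₀ : M → ℂ) := by
    funext m
    simp only [Pi.smul_apply, smul_eq_mul]
    rw [div_mul_eq_mul_div, eq_div_iff hDφ, hm m, mul_comm]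
  rw [hφeq, classInner_smul_left, irr_orthonormal (ψ q₀).2 (ψ q₀).2, if_pos rfl, mul_one]
  exact div_ne_zero hDψ hDφ

/-- In a group of prime order, a function invariant under one nontrivial translation is
constant. -/
theorem const_of_translate_invariant {α : Type*} (hQ : (Nat.card Q).Prime) (d : Q) (hd : d ≠ 1)
    (F : Q → α) (hF : ∀ q, F (d * q) = F q) (q q' : Q) : F q = F q' := by
  haveI : Fact (Nat.card Q).Prime := ⟨hQ⟩
  let Sg : Subgroup Q :=
    { carrier := {x | ∀ q, F (x * q) = F q}
      one_mem' := by intro q; rw [one_mul]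
      mul_mem' := by
        intro x y hx hy q
        rw [mul_assoc, hx, hy]
      inv_mem' := by
        intro x hx q
        have := hx (x⁻¹ * q)
        rw [mul_inv_cancel_left] at this
        exact this.symm }
  have h1 : Subgroup.zpowers d ≤ Sg := by
    rw [Subgroup.zpowers_le]
    exact hF
  rw [zpowers_eq_top_of_prime_card rfl hd] at h1
  have h2 : q * q'⁻¹ ∈ Sg := h1 (Subgroup.mem_top _)
  have := h2 q'
  rw [inv_mul_cancel_right] at this
  exact this

end aux

section baseworld

variable {M : Type u} [Group M] {Q : Type v} [Group Q]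

/-- The base group of `M ≀ᵣ Q` maps onto `Q → M`. -/
def leftHomB : (wrBase M Q) →* (Q → M) where
  toFun b := b.1.left
  map_one' := rfl
  map_mul' a b := by
    have ha : a.1.right = 1 := (mem_wrBase _).mp a.2
    funext x
    simp [RegularWreathProduct.mul_left, ha]

theorem leftHomB_apply (b : wrBase M Q) : leftHomB b = b.1.left := rfl

/-- The base group as a product. -/
def baseEquiv : (Q → M) ≃ (wrBase M Q) where
  toFun f := ⟨baseHom M Q f, (mem_wrBase _).mpr rfl⟩
  invFun b := b.1.left
  left_inv _ := rfl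
  right_inv b := by
    apply Subtype.ext
    have hb : b.1.right = 1 := (mem_wrBase _).mp b.2
    ext
    · rfl
    · exact hb.symm

theorem leftHomB_surjective : Function.Surjective (leftHomB (M := M) (Q := Q)) := by
  intro f
  exact ⟨baseEquiv f, rfl⟩

theorem conj_inl_left (d : Q) (n : M ≀ᵣ Q) (q : Q) :
    (inl d * n * (inl d)⁻¹).left q = n.left (d⁻¹ * q) := by
  simp [RegularWreathProduct.mul_left, RegularWreathProduct.inv_left]

theorem baseHom_injective : Function.Injective (baseHom M Q) := by
  intro f g h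
  have := congrArg RegularWreathProduct.left h
  simpa using this

end baseworld

section main

variable {M : Type u} [Group M] [Fintype M] {Q : Type v} [Group Q] [Fintype Q] [DecidableEq Q]
variable [Fintype (M ≀ᵣ Q)]

theorem noninvariant_case (hQ : (Nat.card Q).Prime) (K : Q → Subgroup M)
    (lam : ∀ q, K q →* ℂˣ) (φ : Q → IrrCharacter M)
    (hφ : ∀ q, (φ q : M → ℂ) = indFun (K q) (fun h => ((lam q h : ℂˣ) : ℂ)))
    (hnc : ¬ ∀ q q', φ q = φ q')
    {χ : M ≀ᵣ Q → ℂ} (hχ : IsIrrCharacter (M ≀ᵣ Q) χ)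
    (hθ : IsIrrCharacter (Q → M) (fun f : Q → M => ∏ q, (φ q : M → ℂ) (f q)))
    (hcon : classInner (fun f : Q → M => χ (baseHom M Q f))
      (fun f : Q → M => ∏ q, (φ q : M → ℂ) (f q)) ≠ 0) :
    ∃ (S : Subgroup (M ≀ᵣ Q)) (μ : S →* ℂˣ), χ = indFun S (fun s => ((μ s : ℂˣ) : ℂ)) := by
  classical
  set θ : (Q → M) → ℂ := fun f => ∏ q, (φ q : M → ℂ) (f q) with hθdef
  set X : (Q → M) → ℂ := fun f => χ (baseHom M Q f) with hXdef
  have hχchar := IsIrrCharacter.isCharacter hχ
  have hχcf := isClassFunction_of_isCharacter hχchar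
  have hXchar : IsCharacter (Q → M) X := isCharacter_comp_hom' hχchar (baseHom M Q)
  have hXcf := isClassFunction_of_isCharacter hXchar
  haveI : Fintype (Subgroup.pi Set.univ K) := Fintype.ofFinite _
  -- `θ` is induced from the product subgroup
  set piLinC : (Subgroup.pi Set.univ K) → ℂ :=
    fun s => ((piLin K lam s : ℂˣ) : ℂ) with hpiLinC
  have hθind : θ = indFun (Subgroup.pi Set.univ K) piLinC :=
    monomial_pi K lam (fun q => (φ q : M → ℂ)) hφ
  have h1 : classInner piLinC (fun s : Subgroup.pi Set.univ K => X s) ≠ 0 := by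
    rw [← frobenius_reciprocity (Subgroup.pi Set.univ K) piLinC hXcf, ← hθind]
    intro h0
    apply hcon
    rw [classInner_conj_symm, h0, map_zero]
  -- the subgroup `S` and its linear character
  set S : Subgroup (M ≀ᵣ Q) := (Subgroup.pi Set.univ K).map (baseHom M Q) with hS
  haveI : Fintype S := Fintype.ofFinite S
  let eS : (Subgroup.pi Set.univ K) ≃* S :=
    (Subgroup.pi Set.univ K).equivMapOfInjective (baseHom M Q) baseHom_injective
  let μ : S →* ℂˣ := (piLin K lam).comp eS.symm.toMonoidHom
  refine ⟨S, μ, ?_⟩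
  set μC : S → ℂ := fun s => ((μ s : ℂˣ) : ℂ) with hμC
  have hμ1 : μC 1 = 1 := by simp [hμC]
  have hμmul : ∀ s t : S, μC (s * t) = μC s * μC t := by
    intro s t
    simp [hμC]
  have hΨchar : IsCharacter (M ≀ᵣ Q) (indFun S μC) :=
    isCharacter_indFun S (isCharacter_of_mul hμ1 hμmul)
  have hΨne : classInner (indFun S μC) χ ≠ 0 := by
    rw [frobenius_reciprocity S μC hχcf]
    have h3 : classInner μC (fun s : S => χ s) =
        classInner piLinC (fun s : Subgroup.pi Set.univ K => X s) := by
      unfold classInner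
      rw [Nat.card_congr eS.symm.toEquiv]
      congr 1
      rw [← Equiv.sum_comp eS.toEquiv]
      apply Finset.sum_congr rfl
      intro t _
      have ha : μC (eS t) = piLinC t := by
        simp only [hμC, hpiLinC, μ, MonoidHom.comp_apply]
        congr 2
        exact eS.symm_apply_apply t
      have hb : χ ((eS t : S) : M ≀ᵣ Q) = X t := rfl
      simp only [MulEquiv.toEquiv_eq_coe, MulEquiv.coe_toEquiv]
      rw [ha, hb]
    rw [h3]
    exact h1
  -- the base group world: `χ` is induced from the base group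
  set B : Subgroup (M ≀ᵣ Q) := wrBase M Q with hB
  have hBn : B.Normal := by
    rw [hB, wrBase]
    exact MonoidHom.normal_ker _
  haveI : Fintype B := Fintype.ofFinite B
  have hBidx : B.index = Nat.card Q := index_wrBase
  set θ' : B → ℂ := fun b => θ (leftHomB b) with hθ'
  have hθ'irr : IsIrrCharacter B θ' :=
    Cfsg.Agent.Helper78.isIrrCharacter_comp_surjective hθ leftHomB leftHomB_surjective
  have hθ'cf := isClassFunction_of_isCharacter (IsIrrCharacter.isCharacter hθ'irr)
  have hconB : classInner θ' (fun b : B => χ b) ≠ 0 := by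
    have h3 : classInner θ' (fun b : B => χ b) = classInner θ X := by
      unfold classInner
      rw [Nat.card_congr (baseEquiv (M := M) (Q := Q)).symm]
      congr 1
      rw [← Equiv.sum_comp (baseEquiv (M := M) (Q := Q))]
      apply Finset.sum_congr rfl
      intro f _
      rfl
    rw [h3]
    intro h0
    apply hcon
    rw [classInner_conj_symm, h0, map_zero]
  -- the inertia group is `B`
  have hI : Cfsg.Agent.Helper79.inertiaGrp B hBn θ' = B := by
    have hle : B ≤ Cfsg.Agent.Helper79.inertiaGrp B hBn θ' :=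
      Cfsg.Agent.Helper79.le_inertiaGrp B hBn hθ'cf
    have hco := isCoatom_of_index_prime B (hBidx ▸ hQ)
    by_contra hne
    have hlt : B < Cfsg.Agent.Helper79.inertiaGrp B hBn θ' := lt_of_le_of_ne hle (Ne.symm hne)
    have htop := hco.2 _ hlt
    -- a nontrivial element of `Q`
    obtain ⟨d, hd⟩ : ∃ d : Q, d ≠ 1 := by
      haveI : Nontrivial Q := by
        rw [← Finite.one_lt_card_iff_nontrivial]
        exact hQ.one_lt
      exact exists_ne 1
    have hmem : (inl d : M ≀ᵣ Q) ∈ Cfsg.Agent.Helper79.inertiaGrp B hBn θ' := by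
      rw [htop]; exact Subgroup.mem_top _
    rw [Cfsg.Agent.Helper79.mem_inertiaGrp] at hmem
    -- hence `φ (d * q) = φ q`
    have hshift : (fun q => φ (d * q)) = φ := by
      apply factors_eq_of_prod_eq
      intro f
      have h4 := congrFun hmem (baseEquiv f)
      rw [conjFun_apply] at h4
      have h5 : θ' (baseEquiv f) = ∏ q, (φ q : M → ℂ) (f q) := rfl
      have h6 : θ' ⟨inl d * ((baseEquiv f : wrBase M Q) : M ≀ᵣ Q) * (inl d)⁻¹,
          hBn.conj_mem _ (baseEquiv f).2 _⟩ = ∏ q, (φ q : M → ℂ) (f (d⁻¹ * q)) := by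
        simp only [hθ', hθdef, leftHomB_apply, conj_inl_left]
        rfl
      rw [h5, h6] at h4
      rw [← h4]
      rw [← Equiv.prod_comp (Equiv.mulLeft d) (fun q => (φ q : M → ℂ) (f (d⁻¹ * q)))]
      apply Finset.prod_congr rfl
      intro q _
      simp
    apply hnc
    intro q q'
    exact const_of_translate_invariant hQ d hd φ (fun q => congrFun hshift q) q q'
  -- `Ind_B θ'` is irreducible, hence equals `χ`
  have hnorm : classInner (indFun B θ') (indFun B θ') = 1 := by
    haveI := hBn
    rw [classInner_indFun_self B hθ'irr, hI, Subgroup.relIndex_self]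
    simp
  have hindirr : IsIrrCharacter (M ≀ᵣ Q) (indFun B θ') :=
    isIrrCharacter_of_classInner_self_eq_one
      (isCharacter_indFun B (IsIrrCharacter.isCharacter hθ'irr)) hnorm
  have hχeq : indFun B θ' = χ := by
    apply eq_of_classInner_ne_zero hindirr hχ
    rw [frobenius_reciprocity B θ' hχcf]
    exact hconB
  -- degrees
  have hdegφ : ∀ q, (φ q : M → ℂ) 1 = ((K q).index : ℂ) := by
    intro q
    rw [hφ q, indFun_one]
    simp
  have hθ1 : θ 1 = ((∏ q, (K q).index : ℕ) : ℂ) := by
    simp only [hθdef, Pi.one_apply, hdegφ]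
    push_cast
    rfl
  have hχ1 : χ 1 = ((Nat.card Q * ∏ q, (K q).index : ℕ) : ℂ) := by
    rw [← hχeq, indFun_one, hBidx]
    have : θ' 1 = θ 1 := rfl
    rw [this, hθ1]
    push_cast
    rfl
  have hSidx : S.index = Nat.card Q * ∏ q, (K q).index := by
    have hcS : Nat.card S = ∏ q, Nat.card (K q) := by
      rw [Nat.card_congr eS.symm.toEquiv, card_pi_sub]
    have h7 := Subgroup.index_mul_card S
    rw [RegularWreathProduct.card, hcS] at h7
    have h8 : Nat.card M ^ Nat.card Q = (∏ q, (K q).index) * ∏ q, Nat.card (K q) := by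
      rw [← Finset.prod_mul_distrib]
      simp only [Subgroup.index_mul_card, Finset.prod_const, Finset.card_univ]
      rw [Nat.card_eq_fintype_card (α := Q)]
    rw [h8] at h7
    have hpos : 0 < ∏ q, Nat.card (K q) := Finset.prod_pos (fun q _ => Nat.card_pos)
    apply Nat.eq_of_mul_eq_mul_right hpos
    rw [h7]
    ring
  have hΨ1 : indFun S μC 1 = ((S.index : ℕ) : ℂ) := by
    rw [indFun_one, hμ1, mul_one]
  exact (eq_of_constituent_of_degree_le hΨchar hχ hΨne _ _ hΨ1 hχ1 hSidx.le).symm

end main

end Cfsg.Agent.Helper76.WrNon
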