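import Mathlib
import Cfsg.Prelude.Def_Characters
import Cfsg.Agent.Lib.Helper76.WrNon

/-!
# `M ≀ᵣ Q` is an M-group when `M` is an M-group and `|Q|` is prime (helper76)
-/

set_option autoImplicit false
set_option linter.unusedSectionVars false
set_option linter.style.haveILetI false

namespace Cfsg.Agent.Helper76.WrMono

open Cfsg RegularWreathProduct
open Cfsg.Agent.Helper81 Cfsg.Agent.Helper97 Cfsg.Agent.Helper76.PiIrr Cfsg.Agent.Helper76.WrInv
  Cfsg.Agent.Helper76.WrNon
open scoped ComplexConjugate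

universe u v

variable {M : Type u} [Group M] [Fintype M] {Q : Type v} [CommGroup Q] [Fintype Q] [DecidableEq Q]
variable [Fintype (M ≀ᵣ Q)]

/-- If every irreducible character of `M` is monomial and `Q` has prime order, then every
irreducible character of `M ≀ᵣ Q` is monomial. -/
theorem wreath_monomial (hQ : (Nat.card Q).Prime)
    (hM : ∀ φ : M → ℂ, IsIrrCharacter M φ →
      ∃ (H : Subgroup M) (lam : H →* ℂˣ), φ = indFun H (fun h => ((lam h : ℂˣ) : ℂ)))
    {χ : M ≀ᵣ Q → ℂ} (hχ : IsIrrCharacter (M ≀ᵣ Q) χ) :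
    ∃ (S : Subgroup (M ≀ᵣ Q)) (μ : S →* ℂˣ), χ = indFun S (fun s => ((μ s : ℂˣ) : ℂ)) := by
  classical
  set X : (Q → M) → ℂ := fun f => χ (baseHom M Q f) with hXdef
  have hχchar := IsIrrCharacter.isCharacter hχ
  have hXchar : IsCharacter (Q → M) X := isCharacter_comp_hom' hχchar (baseHom M Q)
  have hXcf := isClassFunction_of_isCharacter hXchar
  -- an irreducible constituent of `X`
  obtain ⟨θ, hθ, hcon⟩ : ∃ θ : (Q → M) → ℂ, IsIrrCharacter (Q → M) θ ∧ classInner X θ ≠ 0 := by
    by_contra hno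
    push Not at hno
    have hX0 := eq_zero_of_classInner_irr_eq_zero hXcf hno
    obtain ⟨b, hb, _, hbpos⟩ := irr_degree_dvd_card hχ
    have h1 : X 1 = (b : ℂ) := by
      simp only [hXdef, map_one]
      exact hb
    rw [hX0] at h1
    have : (b : ℂ) = 0 := by simpa using h1.symm
    have hb0 : b = 0 := by exact_mod_cast this
    omega
  obtain ⟨φ, hφ⟩ := exists_pi_decomp hθ
  have hθfun : θ = fun f : Q → M => ∏ q, (φ q : M → ℂ) (f q) := funext hφ
  subst hθfun
  choose Hc lamc hc using (fun η : IrrCharacter M => hM η.1 η.2)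
  by_cases hconst : ∀ q q', φ q = φ q'
  · -- invariant case
    have hθ2 : (fun f : Q → M => ∏ q, (φ q : M → ℂ) (f q)) =
        fun f : Q → M => ∏ q, indFun (Hc (φ 1)) (fun h => ((lamc (φ 1) h : ℂˣ) : ℂ)) (f q) := by
      funext f
      apply Finset.prod_congr rfl
      intro q _
      rw [hconst q 1, ← hc (φ 1)]
    rw [hθ2] at hθ hcon
    obtain ⟨μ, hμ⟩ := invariant_case (Hc (φ 1)) (lamc (φ 1)) hχ hθ hcon
    exact ⟨_, μ, hμ⟩
  · -- non-invariant case
    exact noninvariant_case hQ (fun q => Hc (φ q)) (fun q => lamc (φ q)) φ (fun q => hc (φ q))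
      hconst hχ hθ hcon

end Cfsg.Agent.Helper76.WrMono
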